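import Mathlib
import Cfsg.Agent.Lib.Fus.EssentialIndex
import Cfsg.Agent.Lib.Fus.EssentialSmall
import Cfsg.Agent.Lib.Fus.CubeAut
import Cfsg.Agent.Lib.Fus.Alperin

/-!
Tools for saturated systems: extensions to normalizers of nonessential subgroups, lifts of
`SL(2, p)` through the subgroup generated by the `p`-elements of an automizer, and automorphism
groups moving a subgroup inside a given subgroup.
-/

set_option autoImplicit false
set_option linter.unusedSectionVars false
set_option linter.style.haveILetI false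

universe u v

namespace Cfsg.Agent.Fus.OrdFive

open Cfsg FusionSystem TorusExt RankTwoAut Invol.CubicStable
open Grp.SL2 (up low up_mul up_pow up_zero)

variable {Ω : Type u} [Group Ω] {S : Subgroup Ω} [Finite S] {p : ℕ} [hp : Fact p.Prime]
  {F : FusionSystem S}

/-- The subgroup of `Aut_F(P)` generated by the elements of `p`-power order. -/
def pElts (F : FusionSystem S) (p : ℕ) (P : Subgroup Ω) : Subgroup (F.autGroup P) :=
  Subgroup.closure {g | ∃ k : ℕ, g ^ p ^ k = 1}

theorem mem_pElts {P : Subgroup Ω} {g : F.autGroup P} {k : ℕ} (h : g ^ p ^ k = 1) :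
    g ∈ pElts F p P := Subgroup.subset_closure ⟨k, h⟩

instance pElts_normal (P : Subgroup Ω) : (pElts F p P).Normal := by
  refine ⟨fun x hx g => ?_⟩
  induction hx using Subgroup.closure_induction with
  | mem a ha =>
    obtain ⟨k, hk⟩ := ha
    exact mem_pElts (k := k) (by rw [conj_pow, hk, mul_one, mul_inv_cancel])
  | one => simp
  | mul a b _ _ iha ihb =>
    rw [show g * (a * b) * g⁻¹ = g * a * g⁻¹ * (g * b * g⁻¹) by group]
    exact mul_mem iha ihb
  | inv a _ iha =>
    rw [show g * a⁻¹ * g⁻¹ = (g * a * g⁻¹)⁻¹ by group]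
    exact inv_mem iha

/-- An essential subgroup is proper. -/
theorem lt_of_essential (hS : IsPGroup p S) (hF : F.IsSaturated p) {P : Subgroup Ω}
    (hP : F.IsEssential p P) : P < S := by
  refine lt_of_le_of_ne hP.1.1 fun e => ?_
  obtain ⟨-, hn, hnI, E, hsp, -, -⟩ := hP
  subst e
  obtain ⟨-, R, hR⟩ := fullyAutomized_of_fullyNormalized hS hF hn
  rw [← inn_eq_autInducedBy] at hR
  haveI := hnI
  have hdvd : p ∣ Nat.card (F.autGroup P ⧸ (Inn ↥P).subgroupOf (F.autGroup P)) := hsp
  exact R.not_dvd_index (hR ▸ hdvd)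

/-- A centric fully normalized subgroup of index `p` in its normalizer is essential if its
automizer in `S` is not normal among its automorphisms. -/
theorem essential_of_normalizer_index (hS : IsPGroup p S) (hF : F.IsSaturated p) {P : Subgroup Ω}
    (hP : F.IsCentric P) (hfn : F.IsFullyNormalized P)
    (hidx : (P.subgroupOf (normalizerIn S P)).index = p)
    (hnon : ¬ ((autInducedBy S P).subgroupOf (F.autGroup P)).Normal) : F.IsEssential p P := by
  have hPS : P ≤ S := hP.1
  haveI := finite_of_le hPS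
  haveI : Finite (MulAut P) :=
    Finite.of_injective (fun e : MulAut P => (e : P → P)) DFunLike.coe_injective
  set I := (Inn P).subgroupOf (F.autGroup P) with hI
  haveI hIn : I.Normal := inn_subgroupOf_normal F P
  set π := QuotientGroup.mk' I
  set T0 := (autInducedBy S P).subgroupOf (F.autGroup P)
  obtain ⟨-, R, hR⟩ := fullyAutomized_of_fullyNormalized hS hF hfn
  have hR' : (R : Subgroup (F.autGroup P)) = T0 := hR
  set T : Sylow p (F.autGroup P ⧸ I) := R.mapSurjective (QuotientGroup.mk'_surjective I)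
  have hT : (T : Subgroup (F.autGroup P ⧸ I)) = T0.map π := by
    rw [Sylow.coe_mapSurjective, hR']
  have hIT : I ≤ T0 := fun a ha => Subgroup.mem_subgroupOf.2 (by
    have h := Subgroup.mem_subgroupOf.1 ha
    rw [inn_eq_autInducedBy] at h
    exact autInducedBy_mono hPS P h)
  have hnormT : ¬ (T : Subgroup (F.autGroup P ⧸ I)).Normal := by
    intro h
    rw [hT] at h
    refine hnon ?_
    show T0.Normal
    rw [show T0 = (T0.map π).comap π from
      (Subgroup.comap_map_eq_self (by rw [QuotientGroup.ker_mk']; exact hIT)).symm]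
    exact h.comap π
  let f : ↥(normalizerIn S P) →* F.autGroup P ⧸ I := π.comp (cj F hPS)
  have hrange : T0.map π ≤ f.range := by
    rintro _ ⟨a, ha, rfl⟩
    obtain ⟨y, hy⟩ := exists_cj (F := F) hPS (Subgroup.mem_subgroupOf.1 ha)
    exact ⟨y, congrArg π hy⟩
  have hker : P.subgroupOf (normalizerIn S P) ≤ f.ker := fun y hy => by
    refine MonoidHom.mem_ker.2 ((QuotientGroup.eq_one_iff _).2 ?_)
    exact Subgroup.mem_subgroupOf.2 ⟨⟨y, Subgroup.mem_subgroupOf.1 hy⟩,
      MulEquiv.ext fun b => Subtype.ext rfl⟩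
  have hcardf : Nat.card f.range ∣ p := by
    rw [← Subgroup.index_ker, ← hidx]
    exact Subgroup.index_dvd_of_le hker
  have hTp : Nat.card T = p := by
    have hd : Nat.card T ∣ p := by
      refine dvd_trans ?_ hcardf
      show Nat.card (T : Subgroup (F.autGroup P ⧸ I)) ∣ _
      rw [hT]
      exact Subgroup.card_dvd_of_le hrange
    rcases (Nat.dvd_prime hp.out).1 hd with h | h
    · exfalso
      refine hnormT ?_
      rw [show (T : Subgroup (F.autGroup P ⧸ I)) = ⊥ from Subgroup.card_eq_one.1 h]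
      infer_instance
    · exact h
  exact ⟨hP, hfn, hIn, spe_of_sylow_prime T hTp hnormT⟩

/-- An automorphism normalizing the automizer of `S` extends to the normalizer. -/
theorem extend_of_normalizes (hS : IsPGroup p S) (hF : F.IsSaturated p) {P : Subgroup Ω}
    (hC : centralizerIn S P ≤ P) (hfn : F.IsFullyNormalized P) (t : F.autGroup P)
    (ht : ∀ x, ∃ y, t * cj F hfn.1 x * t⁻¹ = cj F hfn.1 y) :
    ∃ β, IsMap F (normalizerIn S P) β ∧ (∀ a : P, β a = ((t : MulAut P) a : P)) ∧
      (∀ x ∈ normalizerIn S P, β x ∈ normalizerIn S P) ∧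
      ∀ x y : ↥(normalizerIn S P), t * cj F hfn.1 x * t⁻¹ = cj F hfn.1 y →
        β x * (y : Ω)⁻¹ ∈ P := by
  haveI := finite_of_le hfn.1
  obtain ⟨β, h1, h2, h3, h4⟩ := exists_ext hS hC (F.autGroup P).subtype
    (fun g hg => by rw [show (g : MulAut P) = 1 from hg]; exact one_mem _) hF hfn t (fun x => by
      obtain ⟨y, hy⟩ := ht x
      exact ⟨y, by rw [← map_inv, ← map_mul, ← map_mul, hy]⟩)
  exact ⟨β, h1, h2, h3, fun x y h => h4 x y (by rw [← map_inv, ← map_mul, ← map_mul, h])⟩

/-- Every automorphism of a nonessential subgroup of index `p` in its normalizer extends. -/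
theorem extend_of_not_essential (hS : IsPGroup p S) (hF : F.IsSaturated p) {P : Subgroup Ω}
    (hP : F.IsCentric P) (hfn : F.IsFullyNormalized P)
    (hidx : (P.subgroupOf (normalizerIn S P)).index = p) (hne : ¬ F.IsEssential p P)
    {α : MulAut P} (hα : α ∈ F.autGroup P) :
    ∃ β, IsMap F (normalizerIn S P) β ∧ (∀ a : P, β a = (α a : P)) ∧
      ∀ x ∈ normalizerIn S P, β x ∈ normalizerIn S P := by
  have hn : ((autInducedBy S P).subgroupOf (F.autGroup P)).Normal := by
    by_contra h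
    exact hne (essential_of_normalizer_index hS hF hP hfn hidx h)
  obtain ⟨β, h1, h2, h3, -⟩ := extend_of_normalizes hS hF (centralizerIn_le_of_centric hP) hfn ⟨α, hα⟩
    fun x => by
      have h : cj F hfn.1 x ∈ (autInducedBy S P).subgroupOf (F.autGroup P) :=
        Subgroup.mem_subgroupOf.2 (cj_mem_autInducedBy hfn.1 x)
      obtain ⟨y, hy⟩ := exists_cj (F := F) hfn.1
        (Subgroup.mem_subgroupOf.1 (hn.conj_mem _ h ⟨α, hα⟩))
      exact ⟨y, hy.symm⟩
  exact ⟨β, h1, h2, h3⟩

/-- The elements of `p`-power order act trivially on an invariant quotient of order at most `p`. -/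
theorem pElt_trivial {P : Type v} [Group P] {W : Subgroup P} [Finite P] [W.Normal]
    (hidx : W.index ∣ p) {g : MulAut P} (hW : W.map g.toMonoidHom = W) {k : ℕ}
    (hg : g ^ p ^ k = 1) (t : P) : t⁻¹ * g t ∈ W := by
  rcases (Nat.dvd_prime hp.out).1 hidx with h1 | h1
  · rw [Subgroup.index_eq_one.1 h1]; trivial
  have hcard : Nat.card (P ⧸ W) = p := by rw [← Subgroup.index_eq_card, h1]
  haveI : IsCyclic (P ⧸ W) := isCyclic_of_prime_card hcard
  letI := IsCyclic.commGroup (α := P ⧸ W)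
  set γ : MulAut (P ⧸ W) := QuotientGroup.congr W W g hW with hγ
  have hγap : ∀ r : P, γ (QuotientGroup.mk' W r) = QuotientGroup.mk' W (g r) := fun r => rfl
  have hpow : ∀ (i : ℕ) (r : P), (γ ^ i) (QuotientGroup.mk' W r) = QuotientGroup.mk' W ((g ^ i) r) := by
    intro i
    induction i with
    | zero => intro r; rfl
    | succ i ih =>
      intro r
      rw [pow_succ', MulAut.mul_apply, ih, hγap, pow_succ', MulAut.mul_apply]
  have hγk : γ ^ p ^ k = 1 := MulEquiv.ext fun q => by
    obtain ⟨r, rfl⟩ := QuotientGroup.mk'_surjective W q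
    rw [hpow, hg]; rfl
  obtain ⟨m, hm⟩ := MonoidHom.map_cyclic γ.toMonoidHom
  have h := CubeAut.fix_of_power (p := p) (fun q => hcard ▸ pow_card_eq_one') hγk
    (c := QuotientGroup.mk' W t) (r := m) (hm _)
  rw [hγap] at h
  exact QuotientGroup.eq.1 h.symm

/-- An essential subgroup whose automorphisms respect a subgroup of index at most `p` inside `M`
moves inside `M`, if the larger subgroups do. -/
theorem moves_of_invariant (hS : IsPGroup p S) (hF : F.IsSaturated p) {P : Subgroup Ω}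
    (hP : F.IsEssential p P) {M W : Subgroup Ω} (hWP : W ≤ P) (hWM : W ≤ M)
    (hinv : ∀ α ∈ F.autGroup P, ∀ w ∈ W, autFun α w ∈ W) (hidx : (W.subgroupOf P).index ∣ p)
    (hbig : ∀ R g, IsMap F R g → Nat.card P < Nat.card R → ∀ t ∈ R, t⁻¹ * g t ∈ M) :
    ∀ α ∈ F.autGroup P, ∀ t ∈ P, t⁻¹ * autFun α t ∈ M := by
  have hPS := hP.1.1
  haveI := finite_of_le hPS
  haveI : Finite (MulAut P) :=
    Finite.of_injective (fun e : MulAut P => (e : P → P)) DFunLike.coe_injective
  let G : Subgroup (F.autGroup P) :=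
    { carrier := {α | ∀ t : P, (t : Ω)⁻¹ * ((α : MulAut P) t : P) ∈ M}
      one_mem' := fun t => by simp
      mul_mem' := fun {α β} ha hb t => by
        have h := M.mul_mem (hb t) (ha ((β : MulAut P) t))
        rw [mul_assoc, mul_inv_cancel_left] at h
        exact h
      inv_mem' := fun {α} ha t => by
        have h := M.inv_mem (ha ((α : MulAut P)⁻¹ t))
        rw [MulAut.apply_inv_self, mul_inv_rev, inv_inv] at h
        exact h }
  set W' := W.subgroupOf P
  have hmapW : ∀ g : F.autGroup P, W'.map (g : MulAut P).toMonoidHom = W' := fun g => by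
    refine Subgroup.eq_of_le_of_card_ge ?_ (Subgroup.card_map_of_injective (g : MulAut P).injective).ge
    rintro _ ⟨w, hw, rfl⟩
    refine Subgroup.mem_subgroupOf.2 ?_
    have := hinv g g.2 w (Subgroup.mem_subgroupOf.1 hw)
    rwa [autFun_coe] at this
  haveI : W'.Normal := ⟨fun w hw t =>
    (hmapW ⟨MulAut.conj t, inn_le_autGroup F hPS ⟨t, rfl⟩⟩).le ⟨w, hw, rfl⟩⟩
  have hK : pElts F p P ≤ G := by
    refine (Subgroup.closure_le _).2 ?_
    rintro g ⟨k, hk⟩ t
    have hk' : (g : MulAut P) ^ p ^ k = 1 := by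
      rw [← SubmonoidClass.coe_pow, hk]; rfl
    exact hWM (Subgroup.mem_subgroupOf.1 (pElt_trivial hidx (hmapW g) hk' t) :)
  obtain ⟨-, R, hR⟩ := fullyAutomized_of_fullyNormalized hS hF hP.2.1
  have hRK : (R : Subgroup (F.autGroup P)) ≤ pElts F p P := fun r hr => by
    obtain ⟨k, hk⟩ := R.2 ⟨r, hr⟩
    exact mem_pElts (k := k) (by simpa using congrArg Subtype.val hk)
  haveI : Finite (pElts F p P) := inferInstance
  have htop := Sylow.normalizer_sup_eq_top (R.subtype hRK)
  rw [Sylow.coe_subtype, Subgroup.map_subgroupOf_eq_of_le hRK] at htop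
  have hle : Subgroup.normalizer ((R : Subgroup (F.autGroup P)) : Set (F.autGroup P)) ≤ G := by
    intro n hn t
    obtain ⟨β, hβ, hβe, -, -⟩ := extend_of_normalizes hS hF (centralizerIn_le_of_centric hP.1) hP.2.1 n
      fun x => by
        have h : cj F hP.2.1.1 x ∈ (R : Subgroup (F.autGroup P)) := by
          rw [hR]; exact Subgroup.mem_subgroupOf.2 (cj_mem_autInducedBy hP.2.1.1 x)
        have h1 := (Subgroup.mem_normalizer_iff.1 hn _).1 h
        rw [hR, Subgroup.mem_subgroupOf] at h1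
        obtain ⟨y, hy⟩ := exists_cj (F := F) hP.2.1.1 h1
        exact ⟨y, hy.symm⟩
    haveI : Finite ↥(normalizerIn S P) := finite_of_le (S := S) inf_le_left
    have h := hbig _ β hβ (card_lt_of_lt (lt_normalizerIn hS (lt_of_essential hS hF hP))) t
      (le_normalizerIn hPS t.2)
    rwa [hβe] at h
  have hG : G = ⊤ := top_le_iff.1 (htop.ge.trans (sup_le hle hK))
  intro α hα t ht
  have h := (hG.ge (Subgroup.mem_top ⟨α, hα⟩)) ⟨t, ht⟩
  rwa [show t = ((⟨t, ht⟩ : P) : Ω) from rfl, autFun_coe]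

/-- If the automorphisms of `S` fix an element outside the Frattini subgroup modulo it, they move
`S` inside a proper subgroup. -/
theorem exists_moves_lt (hS : IsPGroup p S) (hF : F.IsSaturated p) {w : S} (hw : w ∉ frattini S)
    (hfix : ∀ φ : MulAut S, φ ∈ F.autGroup S → w⁻¹ * φ w ∈ frattini S) :
    ∃ M : Subgroup Ω, M < S ∧ ∀ φ ∈ F.autGroup S, ∀ t ∈ S, t⁻¹ * autFun φ t ∈ M := by
  classical
  haveI : Group.IsNilpotent S := hS.isNilpotent
  obtain ⟨K, hK, hwK⟩ : ∃ K : Subgroup S, IsCoatom K ∧ w ∉ K := by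
    by_contra hcon
    push Not at hcon
    refine hw ?_
    rw [frattini, Order.radical]
    simp only [Subgroup.mem_iInf]
    exact fun K hK => hcon K hK
  haveI hKn : K.Normal := Subgroup.NormalizerCondition.normal_of_coatom K
    Group.normalizerCondition_of_isNilpotent hK
  have hKp : K.index = p := (Grp.coatom_index_eq_of_pGroup hS hK).2
  haveI : IsCyclic (S ⧸ K) := isCyclic_of_prime_card (p := p) (by rw [← Subgroup.index_eq_card, hKp])
  letI : CommGroup (S ⧸ K) := IsCyclic.commGroup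
  set f₀ : S →* S ⧸ K := QuotientGroup.mk' K
  haveI : Finite (MulAut S) :=
    Finite.of_injective (fun e : MulAut S => (e : S → S)) DFunLike.coe_injective
  letI : MulAction (F.autGroup S) (S →* S ⧸ K) :=
    { smul := fun φ f => f.comp ((φ : MulAut S)⁻¹).toMonoidHom
      one_smul := fun f => MonoidHom.ext fun x => by show f _ = f x; simp
      mul_smul := fun φ ψ f => MonoidHom.ext fun x => by
        show f (((φ * ψ : F.autGroup S) : MulAut S)⁻¹ x) = f ((ψ : MulAut S)⁻¹ ((φ : MulAut S)⁻¹ x))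
        rw [Subgroup.coe_mul, mul_inv_rev]; rfl }
  have hsmul : ∀ (φ : F.autGroup S) (f : S →* S ⧸ K) (x : S),
      (φ • f) x = f ((φ : MulAut S)⁻¹ x) := fun _ _ _ => rfl
  haveI : Finite (S →* S ⧸ K) :=
    Finite.of_injective (fun f : S →* S ⧸ K => (f : S → S ⧸ K)) DFunLike.coe_injective
  haveI : Fintype (S →* S ⧸ K) := Fintype.ofFinite _
  let O : Finset (S →* S ⧸ K) := (MulAction.orbit (F.autGroup S) f₀).toFinset
  have hO : ∀ f, f ∈ O ↔ f ∈ MulAction.orbit (F.autGroup S) f₀ := fun f => Set.mem_toFinset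
  have hval : ∀ f ∈ O, f w = f₀ w := by
    intro f hf
    obtain ⟨φ, rfl⟩ := (hO f).1 hf
    show (φ • f₀) w = f₀ w
    rw [hsmul]
    refine (QuotientGroup.eq.2 ?_).symm
    exact frattini_le_coatom hK (hfix _ (inv_mem φ.2))
  have hcardO : ¬ p ∣ O.card := by
    rw [Set.toFinset_card, ← Nat.card_eq_fintype_card,
      Nat.card_congr (MulAction.orbitEquivQuotientStabilizer (F.autGroup S) f₀),
      ← Subgroup.index_eq_card]
    obtain ⟨-, R, hR⟩ := fullyAutomized_of_fullyNormalized hS hF (fullyNormalized_self F)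
    intro hd
    refine R.not_dvd_index (dvd_trans hd (Subgroup.index_dvd_of_le ?_))
    intro r hr
    rw [hR, Subgroup.mem_subgroupOf, ← inn_eq_autInducedBy] at hr
    obtain ⟨g, hg⟩ := hr
    refine MulAction.mem_stabilizer_iff.2 (MonoidHom.ext fun x => ?_)
    rw [hsmul, ← hg, ← map_inv, MulAut.conj_apply, map_mul, map_mul, map_inv, map_inv]
    simp only [map_inv, inv_inv]
    exact inv_mul_cancel_comm _ _
  let Φ : S →* S ⧸ K := ∏ f ∈ O, f
  have hΦap : ∀ x, Φ x = ∏ f ∈ O, f x := fun x => by simp [Φ]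
  have hΦw : Φ w ≠ 1 := by
    rw [hΦap, Finset.prod_congr rfl hval, Finset.prod_const]
    intro h
    have hd := orderOf_dvd_of_pow_eq_one h
    have hord : orderOf (f₀ w) = p := orderOf_eq_prime (by
      rw [← hKp, Subgroup.index_eq_card]; exact pow_card_eq_one')
      fun e => hwK ((QuotientGroup.eq_one_iff _).1 e)
    exact hcardO (hord ▸ hd)
  have hinv : ∀ (φ : F.autGroup S) (x : S), Φ ((φ : MulAut S) x) = Φ x := by
    intro φ x
    rw [hΦap, hΦap]
    refine Finset.prod_bij' (fun f _ => φ⁻¹ • f) (fun f _ => φ • f) (fun f hf => ?_) (fun f hf => ?_)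
      (fun f _ => smul_inv_smul φ f) (fun f _ => inv_smul_smul φ f) fun f _ => ?_
    · rw [hO] at hf ⊢; exact MulAction.mem_orbit_of_mem_orbit _ hf
    · rw [hO] at hf ⊢; exact MulAction.mem_orbit_of_mem_orbit _ hf
    · rw [hsmul, Subgroup.coe_inv, inv_inv]
  refine ⟨Φ.ker.map S.subtype, lt_of_le_of_ne (Subgroup.map_subtype_le _) fun e => hΦw ?_,
    fun φ hφ t ht => ?_⟩
  · obtain ⟨y, hy, hye⟩ := e.ge w.2
    rw [Subtype.ext hye] at hy
    exact MonoidHom.mem_ker.1 hy
  · refine ⟨⟨t, ht⟩⁻¹ * φ ⟨t, ht⟩, MonoidHom.mem_ker.2 ?_, ?_⟩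
    · rw [map_mul, map_inv, hinv ⟨φ, hφ⟩, inv_mul_cancel]
    · show ((⟨t, ht⟩ : S) : Ω)⁻¹ * ((φ ⟨t, ht⟩ : S) : Ω) = _
      rw [← autFun_coe]

/-- A matrix swapping the coordinates. -/
theorem swap_conj (s : ZMod p) : ∃ w : Matrix.SpecialLinearGroup (Fin 2) (ZMod p),
    w * up s * w⁻¹ = low (-s) := by
  obtain ⟨w, hw⟩ : ∃ w : Matrix.SpecialLinearGroup (Fin 2) (ZMod p),
      (w : Matrix (Fin 2) (Fin 2) (ZMod p)) = !![0, -1; 1, 0] :=
    ⟨⟨!![0, -1; 1, 0], by simp [Matrix.det_fin_two]⟩, rfl⟩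
  refine ⟨w, mul_inv_eq_iff_eq_mul.2 (Subtype.ext ?_)⟩
  rw [Matrix.SpecialLinearGroup.coe_mul, Matrix.SpecialLinearGroup.coe_mul, hw]
  ext i j
  fin_cases i <;> fin_cases j <;> simp [up, low, Matrix.mul_apply, Fin.sum_univ_two]

variable {Q : Type v} [Group Q] [Finite Q]

/-- `SL(2, p)` on an invariant elementary section of order `p²` is induced by the subgroup
generated by the elements of `p`-power order, with tori of order prime to `p`. -/
theorem exists_lift {P : Subgroup Ω} [Finite P] (r : F.autGroup P →* MulAut Q)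
    (hcard : Nat.card Q = p ^ 2) (hab : ∀ x y : Q, x * y = y * x) (hexp : ∀ x : Q, x ^ p = 1)
    {g₀ : F.autGroup P} {k : ℕ} (hg₀ : g₀ ^ p ^ k = 1)
    (hg : ∃ g, r g * r g₀ * (r g)⁻¹ ∉ Subgroup.zpowers (r g₀)) :
    ∃ (e : Multiplicative (Fin 2 → ZMod p) ≃* Q) (s : ZMod p), s ≠ 0 ∧ r g₀ = act e (up s) ∧
      (∀ A, ∃ t ∈ pElts F p P, r t = act e A) ∧
      ∀ (c d : ZMod p) (h : c * d = 1), ∃ t ∈ pElts F p P,
        (orderOf t).Coprime p ∧ r t = act e (dg c d h) := by
  haveI : Finite (MulAut P) :=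
    Finite.of_injective (fun e : MulAut P => (e : P → P)) DFunLike.coe_injective
  haveI : Finite (MulAut Q) :=
    Finite.of_injective (fun e : MulAut Q => (e : Q → Q)) DFunLike.coe_injective
  have hap : r g₀ ^ p = 1 := by
    have hA : IsPGroup p (Subgroup.zpowers (r g₀)) := fun y => by
      obtain ⟨i, hi⟩ := Subgroup.mem_zpowers_iff.1 y.2
      refine ⟨k, Subtype.ext ?_⟩
      rw [SubmonoidClass.coe_pow, ← hi, ← zpow_natCast, zpow_comm, zpow_natCast, ← map_pow, hg₀,
        map_one, one_zpow]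
      rfl
    have hle := card_le_of_pgroup_aut hcard hA
    rw [Nat.card_zpowers] at hle
    obtain ⟨j, -, hj⟩ := (Nat.dvd_prime_pow hp.out).1
      (orderOf_dvd_of_pow_eq_one (show r g₀ ^ p ^ k = 1 by rw [← map_pow, hg₀, map_one]))
    refine orderOf_dvd_iff_pow_eq_one.1 ?_
    rw [hj] at hle ⊢
    calc p ^ j ∣ p ^ 1 := Nat.pow_dvd_pow p ((Nat.pow_le_pow_iff_right hp.out.one_lt).1 (hle.trans (pow_one p).ge))
      _ = p := pow_one p
  obtain ⟨g, hg⟩ := hg
  obtain ⟨e, s, hs, hau, hle⟩ := exists_sl2_coords hab hexp hcard r.range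
    (a := r g₀) (g := r g) ⟨_, rfl⟩ ⟨_, rfl⟩ hap hg
  have hup : act e (up s) ∈ (pElts F p P).map r := ⟨g₀, mem_pElts hg₀, hau⟩
  obtain ⟨w, hw⟩ := swap_conj (p := p) s
  obtain ⟨n, hn⟩ := hle w
  have hlow : act e (low (-s)) ∈ (pElts F p P).map r := by
    rw [← hw, map_mul, map_mul, map_inv, ← hn]
    exact ⟨n * g₀ * n⁻¹, (pElts_normal P).conj_mem _ (mem_pElts hg₀) n, by
      rw [map_mul, map_mul, map_inv, hau]⟩
  have hgen : ((pElts F p P).map r).comap (act e) = ⊤ := by
    refine up_low_generate _ (fun c => ?_) fun c => ?_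
    · obtain ⟨i, hi⟩ := up_mem_zpowers hs c
      exact hi ▸ Subgroup.zpow_mem (((pElts F p P).map r).comap (act e)) (x := up s) hup i
    · obtain ⟨i, hi⟩ := low_mem_zpowers (neg_ne_zero.2 hs) c
      exact hi ▸ Subgroup.zpow_mem (((pElts F p P).map r).comap (act e)) (x := low (-s)) hlow i
  refine ⟨e, s, hs, hau, fun A => ?_, fun c d h => ?_⟩
  · obtain ⟨t, ht, he⟩ := hgen.ge (Subgroup.mem_top A)
    exact ⟨t, ht, he⟩
  · obtain ⟨t₀, ht₀, he⟩ := hgen.ge (Subgroup.mem_top (dg c d h))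
    refine ⟨t₀ ^ p ^ ((orderOf t₀).factorization p), pow_mem ht₀ _, ?_, ?_⟩
    · rw [orderOf_pow_of_dvd (pow_ne_zero _ hp.out.ne_zero) (Nat.ordProj_dvd _ _)]
      exact (Nat.coprime_ordCompl hp.out (orderOf_pos t₀).ne').symm
    · rw [map_pow, he, ← map_pow, dg_pow_prime_pow]

/-- An automorphism of `S` as an automorphism of the group `↥S`. -/
theorem exists_top_aut {β : Ω → Ω} (hβ : IsMap F S β) :
    ∃ φ : MulAut S, φ ∈ F.autGroup S ∧ ∀ x : S, ((φ x : S) : Ω) = β x := by
  obtain ⟨φ, hφ, he⟩ := hβ.exists_aut (fimg_eq_self_of_source_top hβ)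
  exact ⟨φ, hφ, fun x => by rw [← autFun_coe]; exact he x x.2⟩

end Cfsg.Agent.Fus.OrdFive
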