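import Mathlib
import Cfsg.Agent.Lib.Fus.OrdFive.Auto
import Cfsg.Agent.Lib.Fus.CubeAut
import Cfsg.Agent.Lib.Fus.MaxClassCubeEss
import Cfsg.Agent.Lib.Fus.RankTwoExtra

/-!
Elementary abelian essential subgroups of order `p³` in a group of order `p⁵`: the normalizer, the
invariant plane and the extended tori.
-/

set_option autoImplicit false
set_option linter.unusedSectionVars false
set_option linter.style.haveILetI false

universe u

namespace Cfsg.Agent.Fus.OrdFive

open Cfsg FusionSystem TorusExt RankTwoAut Invol.CubicStable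
open Cfsg.Agent.Fus.RankTwo (act_dg act_up exists_coord coord_cast)
open Grp.SL2 (up low up_mul up_pow up_zero)
open scoped commutatorElement

variable {Ω : Type u} [Group Ω] {S : Subgroup Ω} [Finite S] {p : ℕ} [hp : Fact p.Prime]
  {F : FusionSystem S}

theorem cj_eq_one_iff {E : Subgroup Ω} (hES : E ≤ S) (hC : centralizerIn S E ≤ E)
    (hab : ∀ x y : E, x * y = y * x) (y : ↥(normalizerIn S E)) :
    cj F hES y = 1 ↔ (y : Ω) ∈ E := by
  refine ⟨fun h => hC (mem_centralizerIn.2 ⟨y.2.1, fun a ha => ?_⟩), fun h => ?_⟩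
  · have e := cj_apply (F := F) hES y ⟨a, ha⟩
    rw [h] at e
    exact (mul_inv_eq_iff_eq_mul.1 e.symm).symm
  · refine Subtype.ext (MulEquiv.ext fun x => Subtype.ext ?_)
    rw [cj_apply]
    exact mul_inv_eq_iff_eq_mul.2 (congrArg Subtype.val (hab ⟨(y : Ω), h⟩ x))

/-- An element of the normalizer inducing a transvection. -/
theorem exists_transvection_five (hS : IsPGroup p S) (hF : F.IsSaturated p)
    (h5 : Nat.card S = p ^ 5) {E : Subgroup Ω} (hE : F.IsEssential p E)
    (hel : IsElementaryAbelian p E) (h3 : Nat.card E = p ^ 3) :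
    ∃ y : ↥(normalizerIn S E), (y : Ω) ∉ E ∧ ∃ H : Subgroup E, Nat.card H = p ^ 2 ∧
      ∀ x ∈ H, ((cj F hE.2.1.1 y : F.autGroup E) : MulAut E) x = x := by
  classical
  have hpp := hp.out
  have hES : E ≤ S := hE.2.1.1
  haveI := finite_of_le hES
  haveI : Finite ↥(normalizerIn S E) := finite_of_le (S := S) inf_le_left
  letI : CommGroup E := { (inferInstance : Group E) with mul_comm := hel.1.is_comm.comm }
  haveI : Finite (MulAut E) :=
    Finite.of_injective (fun e : MulAut E => (e : E → E)) DFunLike.coe_injective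
  have hC := centralizerIn_le_of_centric hE.1
  have hEp : IsPGroup p E := hS.to_le hES
  have hexp : ∀ x : E, x ^ p = 1 := fun x => Subtype.ext (hel.2 x x.2)
  set N := normalizerIn S E with hNdef
  obtain ⟨ψ, hψ⟩ : ∃ ψ : N →* MulAut E, ψ = (F.autGroup E).subtype.comp (cj F hES) :=
    ⟨_, rfl⟩
  have hψa : ∀ y x, ψ y x = ((cj F hES y : F.autGroup E) : MulAut E) x := fun y x => by rw [hψ]; rfl
  have hψc : ∀ y (x : E), ((ψ y x : E) : Ω) = (y : Ω) * x * (y : Ω)⁻¹ := fun y x => by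
    rw [hψa, cj_apply]
  have hker : ∀ y, ψ y = 1 → (y : Ω) ∈ E := fun y h => (cj_eq_one_iff hES hC mul_comm y).1 (by
    refine Subtype.ext (?_ : ((cj F hES y : F.autGroup E) : MulAut E) = 1)
    rw [← h, hψ]; rfl)
  -- kernels of displacements
  have hfix : ∀ y : ↥(normalizerIn S E), (y : Ω) ∉ E → ∀ K : Subgroup E, p ^ 2 ≤ Nat.card K →
      (∀ x ∈ K, ψ y x = x) → Nat.card K = p ^ 2 := by
    intro y hy K hK hKf
    obtain ⟨j, hj, hjc⟩ := (Nat.dvd_prime_pow hpp).1 (h3 ▸ K.card_subgroup_dvd_card)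
    rw [hjc] at hK ⊢
    have h2 := (Nat.pow_le_pow_iff_right hpp.one_lt).1 hK
    rcases (show j = 2 ∨ j = 3 by omega) with rfl | rfl
    · rfl
    · refine absurd (hker y (MulEquiv.ext fun x => hKf x ?_)) hy
      exact (Subgroup.eq_top_of_card_eq K (hjc.trans h3.symm)).ge (Subgroup.mem_top x)
  -- a fixed point
  haveI : Nontrivial S := Finite.one_lt_card_iff_nontrivial.1 (by
    rw [h5]; exact Nat.one_lt_pow (by norm_num) hpp.one_lt)
  haveI := hS.center_nontrivial
  obtain ⟨z, hz⟩ := exists_ne (1 : Subgroup.center S)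
  have hzE : ((z : S) : Ω) ∈ E := hC (mem_centralizerIn.2 ⟨(z : S).2, fun a ha =>
    congrArg Subtype.val (Subgroup.mem_center_iff.1 z.2 ⟨a, hES ha⟩)⟩)
  obtain ⟨c₀, hc₀⟩ : ∃ c₀ : E, (c₀ : Ω) = ((z : S) : Ω) := ⟨⟨_, hzE⟩, rfl⟩
  have hc₀1 : c₀ ≠ 1 := fun h => hz (Subtype.ext (Subtype.ext (by rw [← hc₀, h]; rfl)))
  have hψc₀ : ∀ y, ψ y c₀ = c₀ := fun y => Subtype.ext (by
    rw [hψc, hc₀]
    exact mul_inv_eq_iff_eq_mul.2
      (congrArg Subtype.val (Subgroup.mem_center_iff.1 z.2 ⟨(y : Ω), y.2.1⟩)))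
  set D := Subgroup.zpowers c₀
  have hD : Nat.card D = p := by rw [Nat.card_zpowers, orderOf_eq_prime (hexp c₀) hc₀1]
  have hDmap : ∀ y, D.map (ψ y).toMonoidHom = D := fun y => by
    rw [MonoidHom.map_zpowers]; exact congrArg _ (hψc₀ y)
  -- a transvection centred there
  have htrans : ∀ y : ↥(normalizerIn S E), (y : Ω) ∉ E → (∀ x, ψ y x * x⁻¹ ∈ D) → ∃ H : Subgroup E, Nat.card H = p ^ 2 ∧
      ∀ x ∈ H, ψ y x = x := by
    intro y hy hm
    let f : E →* D := MonoidHom.mk' (fun x => ⟨ψ y x * x⁻¹, hm x⟩) fun a b => Subtype.ext (by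
      show ψ y (a * b) * (a * b)⁻¹ = ψ y a * a⁻¹ * (ψ y b * b⁻¹)
      rw [map_mul, mul_inv, mul_mul_mul_comm])
    have hk : p ^ 2 ≤ Nat.card f.ker := by
      have h1 := f.ker.card_mul_index
      rw [Subgroup.index_ker, h3] at h1
      have h2 : Nat.card f.range ≤ p := hD ▸ Nat.card_le_card_of_injective _ Subtype.val_injective
      by_contra hlt
      push Not at hlt
      exact absurd h1 (ne_of_lt ((Nat.mul_le_mul_left _ h2).trans_lt
        (by rw [pow_succ p 2]; exact Nat.mul_lt_mul_of_pos_right hlt hpp.pos)))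
    refine ⟨f.ker, hfix y hy _ hk fun x hx => ?_, fun x hx => ?_⟩ <;>
      exact mul_inv_eq_one.1 (congrArg Subtype.val (MonoidHom.mem_ker.1 hx))
  haveI : D.Normal := ⟨fun x hx g => by rwa [mul_comm g x, mul_inv_cancel_right]⟩
  let r : ↥(normalizerIn S E) →* MulAut (E ⧸ D) :=
    MonoidHom.mk' (fun y => QuotientGroup.congr D D (ψ y) (hDmap y)) fun a b =>
      MulEquiv.ext fun q => by
        obtain ⟨x, rfl⟩ := QuotientGroup.mk'_surjective D q
        show ((ψ (a * b) x : E) : E ⧸ D) = ((ψ a (ψ b x) : E) : E ⧸ D)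
        rw [map_mul, MulAut.mul_apply]
  by_cases hexk : ∃ y : ↥(normalizerIn S E), (y : Ω) ∉ E ∧ r y = 1
  · obtain ⟨y, hy, hry⟩ := hexk
    obtain ⟨H, hH, hHf⟩ := htrans y hy fun x => by
      have h : r y (QuotientGroup.mk' D x) = QuotientGroup.mk' D x := by rw [hry]; rfl
      have h' : QuotientGroup.mk' D (ψ y x) = QuotientGroup.mk' D x := h
      rw [← QuotientGroup.eq_one_iff (N := D)]
      show QuotientGroup.mk' D (ψ y x * x⁻¹) = 1
      rw [map_mul, map_inv, h', mul_inv_cancel]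
    exact ⟨y, hy, H, hH, fun x hx => by rw [← hψa]; exact hHf x hx⟩
  push Not at hexk
  -- otherwise the normalizer has order `p⁴`
  have hEN : E ≤ N := le_normalizerIn hES
  have hNp : IsPGroup p N := hS.to_le inf_le_left
  have hQ : Nat.card (E ⧸ D) = p ^ 2 := by
    have h := D.card_mul_index
    rw [hD, h3, pow_succ' p 2] at h
    rw [← Subgroup.index_eq_card]
    exact Nat.eq_of_mul_eq_mul_left hpp.pos h
  haveI : Finite (MulAut (E ⧸ D)) := Finite.of_injective
    (fun e : MulAut (E ⧸ D) => (e : E ⧸ D → E ⧸ D)) DFunLike.coe_injective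
  have hrk : r.ker ≤ E.subgroupOf N := fun y hy => Subgroup.mem_subgroupOf.2 (by
    by_contra h; exact hexk y h (MonoidHom.mem_ker.1 hy))
  have hN4 : Nat.card N = p ^ 4 := by
    have h1 := r.ker.card_mul_index
    rw [Subgroup.index_ker] at h1
    have h2 : Nat.card r.range ≤ p := card_le_of_pgroup_aut hQ (hNp.of_surjective r.rangeRestrict r.rangeRestrict_surjective)
    have h4 : Nat.card r.ker ≤ p ^ 3 := (Subgroup.card_le_of_le hrk).trans
      (le_of_eq (by rw [Nat.card_congr (Subgroup.subgroupOfEquivOfLe hEN).toEquiv, h3]))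
    have hlt : Nat.card E < Nat.card N := card_lt_of_lt (lt_normalizerIn hS (lt_of_essential hS hF hE))
    obtain ⟨j, hj⟩ := IsPGroup.iff_card.1 hNp
    rw [hj] at h1 hlt ⊢
    rw [h3] at hlt
    have h5' : p ^ j ≤ p ^ 4 := by rw [← h1, pow_succ p 3]; exact Nat.mul_le_mul h4 h2
    have ha := (Nat.pow_lt_pow_iff_right hpp.one_lt).1 hlt
    have hb := (Nat.pow_le_pow_iff_right hpp.one_lt).1 h5'
    rw [show j = 4 by omega]
  have hNidx : (N.subgroupOf S).index = p := by
    have h := (N.subgroupOf S).card_mul_index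
    rw [Nat.card_congr (Subgroup.subgroupOfEquivOfLe (show N ≤ S from inf_le_left)).toEquiv, hN4, h5,
      pow_succ p 4] at h
    exact Nat.eq_of_mul_eq_mul_left (pow_pos hpp.pos 4) h
  haveI hNn : (N.subgroupOf S).Normal := Subgroup.normal_of_index_eq_minFac_card (by
    rw [hNidx, h5, Nat.Prime.pow_minFac hpp (by norm_num)])
  have hEidx : (E.subgroupOf N).index = p := by
    have h := (E.subgroupOf N).card_mul_index
    rw [Nat.card_congr (Subgroup.subgroupOfEquivOfLe hEN).toEquiv, h3, hN4, pow_succ p 3] at h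
    exact Nat.eq_of_mul_eq_mul_left (pow_pos hpp.pos 3) h
  haveI hEn : (E.subgroupOf N).Normal := Subgroup.normal_of_index_eq_minFac_card (by
    rw [hEidx, hN4, Nat.Prime.pow_minFac hpp (by norm_num)])
  -- a conjugate of `E` other than `E`
  obtain ⟨g, hg⟩ : ∃ g : S, (g : Ω) ∉ N := by
    by_contra h
    push Not at h
    rw [(eq_top_iff.2 fun s _ => Subgroup.mem_subgroupOf.2 (h s) : N.subgroupOf S = ⊤),
      Subgroup.index_top] at hNidx
    exact hpp.ne_one hNidx.symm
  have hgN : ∀ x ∈ N, (g : Ω) * x * (g : Ω)⁻¹ ∈ N ∧ (g : Ω)⁻¹ * x * g ∈ N := fun x hx => by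
    have hx' : (⟨x, hx.1⟩ : S) ∈ N.subgroupOf S := hx
    exact ⟨hNn.conj_mem _ hx' g, by simpa [Subgroup.mem_subgroupOf] using hNn.conj_mem _ hx' g⁻¹⟩
  obtain ⟨a, ha⟩ : ∃ a : E, (g : Ω) * a * (g : Ω)⁻¹ ∉ E := by
    by_contra h
    push Not at h
    refine hg ⟨g.2, ?_⟩
    have hle : E.map (MulAut.conj (g : Ω)).toMonoidHom ≤ E := by
      rintro _ ⟨x, hx, rfl⟩; exact h ⟨x, hx⟩
    have he : E.map (MulAut.conj (g : Ω)).toMonoidHom = E := Subgroup.eq_of_le_of_card_ge hle
      (Subgroup.card_map_of_injective (MulAut.conj (g : Ω)).injective).ge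
    refine mem_normalizer_of_forall (fun x hx => h ⟨x, hx⟩) fun x hx => ?_
    obtain ⟨w, hw, hwe⟩ := he.ge hx
    rw [← hwe]
    simpa [mul_assoc] using hw
  let b : N := ⟨_, (hgN a (hEN a.2)).1⟩
  -- the elements of `E` that come from `E`
  let k : E →* N ⧸ E.subgroupOf N := (QuotientGroup.mk' _).comp
    (MonoidHom.mk' (fun x : E => (⟨(g : Ω)⁻¹ * x * g, (hgN x (hEN x.2)).2⟩ : N))
      fun x y => Subtype.ext (by
        show (g : Ω)⁻¹ * ((x : Ω) * y) * g = ((g : Ω)⁻¹ * x * g) * ((g : Ω)⁻¹ * y * g)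
        group))
  have hk2 : p ^ 2 ≤ Nat.card k.ker := by
    have h1 := k.ker.card_mul_index
    rw [Subgroup.index_ker, h3] at h1
    have h2 : Nat.card k.range ≤ p :=
      (Nat.card_le_card_of_injective _ Subtype.val_injective).trans
        (le_of_eq (by rw [← Subgroup.index_eq_card, hEidx]))
    by_contra hlt
    push Not at hlt
    exact absurd h1 (ne_of_lt ((Nat.mul_le_mul_left _ h2).trans_lt
      (by rw [pow_succ p 2]; exact Nat.mul_lt_mul_of_pos_right hlt hpp.pos)))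
  have hbE : (b : Ω) ∉ E := ha
  refine ⟨b, hbE, k.ker, ?_, ?_⟩
  · refine hfix b hbE _ hk2 fun x hx => Subtype.ext ?_
    rw [hψc]
    have hx' : (g : Ω)⁻¹ * x * g ∈ E :=
      Subgroup.mem_subgroupOf.1 ((QuotientGroup.eq_one_iff _).1 (MonoidHom.mem_ker.1 hx))
    have hc := congrArg Subtype.val (mul_comm a ⟨_, hx'⟩)
    simp only [Subgroup.coe_mul] at hc
    show (g : Ω) * a * (g : Ω)⁻¹ * x * ((g : Ω) * a * (g : Ω)⁻¹)⁻¹ = x
    calc _ = (g : Ω) * ((a : Ω) * ((g : Ω)⁻¹ * x * g)) * (a : Ω)⁻¹ * (g : Ω)⁻¹ := by group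
      _ = x := by rw [hc]; group
  · intro x hx
    refine Subtype.ext ?_
    rw [cj_apply]
    have hx' : (g : Ω)⁻¹ * x * g ∈ E :=
      Subgroup.mem_subgroupOf.1 ((QuotientGroup.eq_one_iff _).1 (MonoidHom.mem_ker.1 hx))
    have hc := congrArg Subtype.val (mul_comm a ⟨_, hx'⟩)
    simp only [Subgroup.coe_mul] at hc
    show (g : Ω) * a * (g : Ω)⁻¹ * x * ((g : Ω) * a * (g : Ω)⁻¹)⁻¹ = x
    calc _ = (g : Ω) * ((a : Ω) * ((g : Ω)⁻¹ * x * g)) * (a : Ω)⁻¹ * (g : Ω)⁻¹ := by group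
      _ = x := by rw [hc]; group

/-- The data of an elementary abelian essential subgroup of order `p³`: an element `u` of the
normalizer inducing a transvection with centre `c` and fixed space `⟨c, l⟩`, moving `e`. -/
structure CubeData (F : FusionSystem S) (p : ℕ) {E : Subgroup Ω} (hES : E ≤ S)
    (u : ↥(normalizerIn S E)) (c l e : E) : Prop where
  card_norm : Nat.card (normalizerIn S E) = p ^ 4
  not_mem : (u : Ω) ∉ E
  fix_c : ((cj F hES u : F.autGroup E) : MulAut E) c = c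
  fix_l : ((cj F hES u : F.autGroup E) : MulAut E) l = l
  move_e : ((cj F hES u : F.autGroup E) : MulAut E) e = c * e
  c_ne : c ≠ 1
  l_not : l ∉ Subgroup.zpowers c
  e_not : ∀ i j : ℕ, e ≠ c ^ i * l ^ j
  dec : ∀ x : E, ∃ i j k : ℕ, x = c ^ i * l ^ j * e ^ k
  gen : ∀ x : ↥(normalizerIn S E), ∃ i : ℕ, cj F hES x = cj F hES u ^ i
  inv : ∀ α ∈ F.autGroup E, ∀ x ∈ Subgroup.closure ({c, e} : Set E),
    α x ∈ Subgroup.closure ({c, e} : Set E)
  torus : ∀ d : ZMod p, d ≠ 0 → ∃ β : Ω → Ω, IsMap F (normalizerIn S E) β ∧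
    (∀ x ∈ normalizerIn S E, β x ∈ normalizerIn S E) ∧
    β (c : Ω) = (c : Ω) ^ (d⁻¹).val ∧
    (∃ i : ℕ, β (e : Ω) = (e : Ω) ^ d.val * (c : Ω) ^ i) ∧
    (∃ i : ℕ, β (l : Ω) = (l : Ω) * (c : Ω) ^ i) ∧
    β u * ((u : Ω) ^ (d⁻¹ * d⁻¹).val)⁻¹ ∈ E

set_option maxHeartbeats 1000000 in
/-- An elementary abelian essential subgroup of order `p³` has such data. -/
theorem exists_cubeData (hS : IsPGroup p S) (hF : F.IsSaturated p)
    (h5 : Nat.card S = p ^ 5) {E : Subgroup Ω} (hE : F.IsEssential p E)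
    (hel : IsElementaryAbelian p E) (h3 : Nat.card E = p ^ 3) :
    ∃ (u : ↥(normalizerIn S E)) (c l e : E), CubeData F p hE.2.1.1 u c l e := by
  classical
  have hpp := hp.out
  obtain ⟨u, huE, H, hH, huH⟩ := exists_transvection_five hS hF h5 hE hel h3
  have hES : E ≤ S := hE.2.1.1
  haveI := finite_of_le hES
  haveI : Finite ↥(normalizerIn S E) := finite_of_le (S := S) inf_le_left
  letI : CommGroup E := { (inferInstance : Group E) with mul_comm := hel.1.is_comm.comm }
  haveI : Finite (MulAut E) :=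
    Finite.of_injective (fun e : MulAut E => (e : E → E)) DFunLike.coe_injective
  have hexp : ∀ x : E, x ^ p = 1 := fun x => Subtype.ext (hel.2 x x.2)
  have hker := cj_eq_one_iff (F := F) hES (centralizerIn_le_of_centric hE.1) mul_comm
  set B := F.autGroup E with hB
  obtain ⟨cN, hcN⟩ : ∃ cN : ↥(normalizerIn S E) →* B, cN = cj F hES := ⟨_, rfl⟩
  rw [← hcN] at hker
  have hInn : (Inn E).subgroupOf B = ⊥ := by
    rw [eq_bot_iff]
    rintro ⟨α, hα⟩ hmem
    obtain ⟨g, hg⟩ := hmem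
    refine Subgroup.mem_bot.2 (Subtype.ext (MulEquiv.ext fun x => ?_))
    show α x = x
    rw [show α = MulAut.conj g from hg.symm, MulAut.conj_apply, mul_comm g x, mul_inv_cancel_right]
  obtain ⟨hn, Y₀, hY₀⟩ := hE.2.2
  haveI := hn
  obtain ⟨Y, hY⟩ := MCCube.exists_spe_of_quotient hInn hY₀
  have hT : IsPGroup p ((autInducedBy S E).subgroupOf B) :=
    (isPGroup_autInducedBy hS E).comap_of_injective _ Subtype.val_injective
  have hmemT : ∀ y, cN y ∈ (autInducedBy S E).subgroupOf B := fun y =>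
    Subgroup.mem_subgroupOf.2 (by rw [hcN]; exact cj_mem_autInducedBy hES y)
  obtain ⟨τ, hτ⟩ : ∃ τ : B, τ = cN u := ⟨_, rfl⟩
  have hτ1 : τ ≠ 1 := fun h => huE ((hker u).1 (hτ.symm.trans h))
  have hτH : ∀ x ∈ H, (τ : MulAut E) x = x := fun x hx => by rw [hτ, hcN]; exact huH x hx
  obtain ⟨hTτ, hord, c, l, e, hc1, hl, hcH, hlH, heH, hτe, hgenH, hgenE, -, -, -, -, -, -,
    w, hwc, hwl, hwe⟩ :=
    CubeAut.transvection_facts' hexp h3 hY hT (τ := τ) (hτ ▸ hmemT u) hτ1 hH hτH
  have hgen : ∀ y, ∃ i : ℕ, cN y = τ ^ i := fun y => by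
    obtain ⟨i, hi⟩ := (IsOfFinOrder.mem_powers_iff_mem_zpowers (isOfFinOrder_of_finite τ)).2
      (hTτ _ (hmemT y))
    exact ⟨i, hi.symm⟩
  have hN4 : Nat.card (normalizerIn S E) = p ^ 4 := by
    have h1 := cN.ker.card_mul_index
    rw [Subgroup.index_ker,
      show cN.range = Subgroup.zpowers τ from le_antisymm
        (by rintro _ ⟨y, rfl⟩; exact hTτ _ (hmemT y)) (Subgroup.zpowers_le.2 ⟨u, hτ.symm⟩),
      Nat.card_zpowers, hord,
      show cN.ker = E.subgroupOf (normalizerIn S E) from Subgroup.ext fun y =>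
        MonoidHom.mem_ker.trans (hker y),
      Nat.card_congr (Subgroup.subgroupOfEquivOfLe (le_normalizerIn hES)).toEquiv, h3,
      ← pow_succ] at h1
    exact h1.symm
  -- coordinates
  have hτc : (τ : MulAut E) c = c := hτH c hcH
  have hτl : (τ : MulAut E) l = l := hτH l hlH
  have hnat : ∀ {v x : E}, x ∈ Subgroup.zpowers v → ∃ i : ℕ, v ^ i = x := fun {v x} h =>
    (isOfFinOrder_of_finite v).mem_powers_iff_mem_zpowers.2 h
  have hdec : ∀ x : E, ∃ i j k : ℕ, x = c ^ i * l ^ j * e ^ k := fun x => by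
    obtain ⟨v, hv, w', hw', rfl⟩ :=
      Subgroup.mem_sup_of_normal_left.1 (hgenE.ge (Subgroup.mem_top x))
    rw [← hgenH] at hv
    obtain ⟨v1, hv1, v2, hv2, rfl⟩ := Subgroup.mem_sup.1 hv
    obtain ⟨i, rfl⟩ := hnat hv1
    obtain ⟨j, rfl⟩ := hnat hv2
    obtain ⟨k, rfl⟩ := hnat hw'
    exact ⟨i, j, k, rfl⟩
  have hkey : ∀ k : ℕ, c ^ k = 1 → e ^ k = 1 ∧ (k : ZMod p) = 0 := fun k hk => by
    have hd := orderOf_dvd_of_pow_eq_one hk
    rw [orderOf_eq_prime (hexp c) hc1] at hd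
    exact ⟨orderOf_dvd_iff_pow_eq_one.1 ((orderOf_dvd_of_pow_eq_one (hexp e)).trans hd),
      (ZMod.natCast_eq_zero_iff k p).2 hd⟩
  have hτk : ∀ (m : ℕ) (i j k : ℕ), ((τ ^ m : B) : MulAut E) (c ^ i * l ^ j * e ^ k) =
      c ^ (i + m * k) * l ^ j * e ^ k := by
    intro m
    induction m with
    | zero => intro i j k; simp
    | succ m ih =>
      intro i j k
      rw [pow_succ', Subgroup.coe_mul, MulAut.mul_apply, ih, map_mul, map_mul, map_pow, map_pow,
        map_pow, hτc, hτl, hτe, mul_pow, ← mul_assoc, mul_right_comm (c ^ (i + m * k)) (l ^ j),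
        ← pow_add, add_assoc, ← Nat.succ_mul]
  have hτfix : ∀ x, (τ : MulAut E) x = x → x ∈ H := fun x hx => by
    obtain ⟨i, j, k, rfl⟩ := hdec x
    have h := hτk 1 i j k
    rw [pow_one, hx, one_mul, pow_add] at h
    have hk : c ^ k = 1 := by
      have h' := mul_right_cancel (mul_right_cancel h)
      exact mul_left_cancel (a := c ^ i) (by rw [mul_one]; exact h'.symm)
    rw [(hkey k hk).1, mul_one]
    exact mul_mem (pow_mem hcH i) (pow_mem hlH j)
  have hmove : ∀ x, (τ : MulAut E) x * x⁻¹ ∈ Subgroup.zpowers c := fun x => by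
    obtain ⟨i, j, k, rfl⟩ := hdec x
    have h := hτk 1 i j k
    rw [pow_one, one_mul] at h
    rw [h, show c ^ (i + k) * l ^ j * e ^ k * (c ^ i * l ^ j * e ^ k)⁻¹ = c ^ k by
      rw [pow_add, mul_right_comm (c ^ i), mul_right_comm (c ^ i * l ^ j), mul_right_comm,
        mul_inv_cancel, one_mul]]
    exact pow_mem (Subgroup.mem_zpowers c) k
  -- Sylow subgroups have order `p`
  obtain ⟨-, R, hR⟩ := fullyAutomized_of_fullyNormalized hS hF hE.2.1
  have hRc : Nat.card R ≤ p := by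
    have h : (R : Subgroup B) ≤ Subgroup.zpowers τ := fun g hg => hTτ g (hR ▸ hg)
    have := Subgroup.card_le_of_le h
    rwa [Nat.card_zpowers, hord] at this
  have hpc : ∀ A : Subgroup B, IsPGroup p A → Nat.card A ≤ p := fun A hA => by
    obtain ⟨T, hAT⟩ := hA.exists_le_sylow
    calc Nat.card A ≤ Nat.card T := Subgroup.card_le_of_le hAT
      _ = Nat.card R := by rw [Sylow.card_eq_multiplicity, Sylow.card_eq_multiplicity]
      _ ≤ p := hRc
  have hpair : ∀ s t : B, orderOf s = p → orderOf t = p →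
      s ∈ Subgroup.normalizer (Subgroup.zpowers t : Set B) → s ∈ Subgroup.zpowers t := by
    intro s t hs ht hst
    have hA : IsPGroup p ↥(Subgroup.zpowers s ⊔ Subgroup.zpowers t) :=
      IsPGroup.to_sup_of_normal_right' (IsPGroup.of_card (n := 1) (by rw [Nat.card_zpowers, hs, pow_one]))
        (IsPGroup.of_card (n := 1) (by rw [Nat.card_zpowers, ht, pow_one]))
        (Subgroup.zpowers_le.2 hst)
    rw [Subgroup.eq_of_le_of_card_ge (le_sup_right : Subgroup.zpowers t ≤ _)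
      (by rw [Nat.card_zpowers, ht]; exact hpc _ hA)]
    exact Subgroup.mem_sup_left (Subgroup.mem_zpowers s)
  -- the centres in the fixed space
  have hcentre : ∀ g : B, (g : MulAut E) c ∈ H → (g : MulAut E) c ∈ Subgroup.zpowers c := by
    intro g hgc
    obtain ⟨τ', hτ'⟩ : ∃ t, t = g * τ * g⁻¹ := ⟨_, rfl⟩
    have happ : ∀ x, (τ' : MulAut E) ((g : MulAut E) x) = (g : MulAut E) ((τ : MulAut E) x) := fun x => by
      rw [hτ', Subgroup.coe_mul, Subgroup.coe_mul, MulAut.mul_apply, MulAut.mul_apply,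
        Subgroup.coe_inv, MulAut.inv_apply_self]
    have hm' : ∀ x, (τ' : MulAut E) x * x⁻¹ ∈ Subgroup.zpowers ((g : MulAut E) c) := fun x => by
      obtain ⟨x, rfl⟩ := (g : MulAut E).surjective x
      obtain ⟨i, hi⟩ := hmove x
      refine ⟨i, ?_⟩
      show (g : MulAut E) c ^ i = _
      rw [happ, ← map_zpow, show c ^ i = _ from hi, map_mul, map_inv]
    have ho : ∀ q : B, orderOf (q * τ * q⁻¹) = p := fun q => by
      rw [← hord]
      exact orderOf_injective (MulAut.conj q).toMonoidHom (MulAut.conj q).injective τ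
    have ht'c : (τ' : MulAut E) ((g : MulAut E) c) = (g : MulAut E) c := by rw [happ, hτc]
    have hcomm : Commute τ' (τ * τ' * τ⁻¹) := Subtype.ext
      (CubeAut.commute_conj (s := (τ' : MulAut E)) (t := (τ : MulAut E)) hm' ht'c (hτH _ hgc)).eq
    have hoτ' : orderOf τ' = p := hτ' ▸ ho g
    have ha : τ * τ' * τ⁻¹ ∈ Subgroup.zpowers τ' := by
      refine hpair _ τ' ?_ hoτ' ((Subgroup.centralizer_le_normalizer _) ?_)
      · rw [hτ', show τ * (g * τ * g⁻¹) * τ⁻¹ = τ * g * τ * (τ * g)⁻¹ by group]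
        exact ho _
      · refine Subgroup.mem_centralizer_iff.2 ?_
        rintro _ ⟨i, rfl⟩
        exact (hcomm.zpow_left i).eq
    have hnorm : τ ∈ Subgroup.normalizer (Subgroup.zpowers τ' : Set B) := by
      haveI : Finite B := inferInstance
      refine Subgroup.mem_normalizer_iff.2 fun q => ⟨fun hq => ?_, fun hq => ?_⟩
      · obtain ⟨i, rfl⟩ := hq
        show τ * τ' ^ i * τ⁻¹ ∈ _
        rw [← conj_zpow]
        exact zpow_mem ha i
      · have he : (Subgroup.zpowers τ').map (MulAut.conj τ).toMonoidHom = Subgroup.zpowers τ' := by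
          refine Subgroup.eq_of_le_of_card_ge ?_
            (Subgroup.card_map_of_injective (MulAut.conj τ).injective).ge
          rw [MonoidHom.map_zpowers]
          exact Subgroup.zpowers_le.2 ha
        obtain ⟨q', hq', hqe⟩ := he.ge hq
        rwa [(MulAut.conj τ).injective (show MulAut.conj τ q = MulAut.conj τ q' from hqe.symm)]
    have hτmem := hpair τ τ' hord hoτ' hnorm
    have hmem : τ' ∈ Subgroup.zpowers τ := by
      rw [show Subgroup.zpowers τ = Subgroup.zpowers τ' from Subgroup.eq_of_le_of_card_ge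
        (Subgroup.zpowers_le.2 hτmem) (by rw [Nat.card_zpowers, Nat.card_zpowers, hord, hoτ'])]
      exact Subgroup.mem_zpowers τ'
    obtain ⟨m, hm⟩ := (isOfFinOrder_of_finite τ).mem_powers_iff_mem_zpowers.2 hmem
    obtain ⟨i, j, k, hijk⟩ := hdec ((g : MulAut E) e)
    have h := happ e
    rw [hτe, map_mul, hijk, ← hm] at h
    rw [hτk, pow_add, mul_comm (c ^ i) (c ^ (m * k)), mul_assoc (c ^ (m * k)),
      mul_assoc (c ^ (m * k))] at h
    rw [← mul_right_cancel h]
    exact pow_mem (Subgroup.mem_zpowers c) _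
  -- the invariant plane
  set W := Subgroup.closure ({c, e} : Set E) with hW
  have hcW : c ∈ W := Subgroup.subset_closure (Set.mem_insert _ _)
  have heW : e ∈ W := Subgroup.subset_closure (Set.mem_insert_of_mem _ rfl)
  have hzc : Subgroup.zpowers c ≤ W := Subgroup.zpowers_le.2 hcW
  have hgc : ∀ g : B, (g : MulAut E) c ∈ W := by
    intro g
    obtain ⟨i, j, k, hgd⟩ := hdec ((g : MulAut E) c)
    by_cases hk : (k : ZMod p) = 0
    · refine hzc (hcentre g ?_)
      rw [hgd, show e ^ k = 1 from orderOf_dvd_iff_pow_eq_one.1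
        ((orderOf_dvd_of_pow_eq_one (hexp e)).trans ((ZMod.natCast_eq_zero_iff k p).1 hk)), mul_one]
      exact mul_mem (pow_mem hcH i) (pow_mem hlH j)
    set m := (-(i : ZMod p) * (k : ZMod p)⁻¹).val
    have hm : c ^ (i + m * k) = 1 := by
      refine orderOf_dvd_iff_pow_eq_one.1 ?_
      rw [orderOf_eq_prime (hexp c) hc1, ← ZMod.natCast_eq_zero_iff, Nat.cast_add, Nat.cast_mul,
        ZMod.natCast_zmod_val, mul_assoc, inv_mul_cancel₀ hk, mul_one, add_neg_cancel]
    have hd : ((w * τ ^ m * g : B) : MulAut E) c = l ^ j * c ^ k := by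
      rw [Subgroup.coe_mul, Subgroup.coe_mul, MulAut.mul_apply, MulAut.mul_apply, hgd, hτk, hm,
        one_mul, map_mul, map_pow, map_pow, hwl, hwe]
    have h2 := hcentre _ (by rw [hd]; exact mul_mem (pow_mem hlH j) (pow_mem hcH k))
    rw [hd, Subgroup.mul_mem_cancel_right _ (pow_mem (Subgroup.mem_zpowers c) k)] at h2
    have hlj : l ^ j = 1 := by
      by_contra hlj
      refine hl ?_
      have hj0 : (j : ZMod p) ≠ 0 := fun h0 => hlj (orderOf_dvd_iff_pow_eq_one.1
        ((orderOf_dvd_of_pow_eq_one (hexp l)).trans ((ZMod.natCast_eq_zero_iff j p).1 h0)))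
      obtain ⟨b, hb⟩ := RankTwo.exists_pow_eq (hexp l) hj0
      rw [← hb]; exact pow_mem h2 b
    rw [hgd, hlj, mul_one]
    exact mul_mem (pow_mem hcW i) (pow_mem heW k)
  have hge : ∀ g : B, (g : MulAut E) e ∈ W := fun g => by
    have h := inv_mem (hgc (g * w))
    rwa [Subgroup.coe_mul, MulAut.mul_apply, hwc, map_inv, inv_inv] at h
  have hinv : ∀ g : B, ∀ x ∈ W, (g : MulAut E) x ∈ W := fun g x hx => by
    have hle : W ≤ W.comap (g : MulAut E).toMonoidHom := by
      refine (Subgroup.closure_le _).2 ?_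
      rintro _ (rfl | rfl)
      exacts [hgc g, hge g]
    exact hle hx
  have hWmap : ∀ g : B, W.map (g : MulAut E).toMonoidHom = W := fun g => by
    refine Subgroup.eq_of_le_of_card_ge ?_ (Subgroup.card_map_of_injective (g : MulAut E).injective).ge
    rintro _ ⟨x, hx, rfl⟩; exact hinv g x hx
  have hWdec : ∀ x ∈ W, ∃ i k : ℕ, x = c ^ i * e ^ k := by
    intro x hx
    rw [hW] at hx
    induction hx using Subgroup.closure_induction with
    | mem x hx =>
      rcases hx with rfl | rfl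
      · exact ⟨1, 0, by simp⟩
      · exact ⟨0, 1, by simp⟩
    | one => exact ⟨0, 0, by simp⟩
    | mul a b _ _ iha ihb =>
      obtain ⟨i, k, rfl⟩ := iha
      obtain ⟨i', k', rfl⟩ := ihb
      exact ⟨i + i', k + k', by rw [pow_add, pow_add, mul_mul_mul_comm]⟩
    | inv a _ iha =>
      obtain ⟨i, k, rfl⟩ := iha
      exact ⟨i * (p - 1), k * (p - 1), by
        refine inv_eq_of_mul_eq_one_right ?_
        have hm : ∀ i : ℕ, i + i * (p - 1) = p * i := fun i => by
          have := Nat.le_mul_of_pos_right i hpp.pos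
          rw [Nat.mul_sub_one, Nat.mul_comm p i]; omega
        rw [mul_mul_mul_comm, ← pow_add, ← pow_add, hm, hm, pow_mul, pow_mul, hexp, hexp, one_pow,
          one_pow, one_mul]⟩
  have hWH : ∀ x ∈ W, x ∈ H → x ∈ Subgroup.zpowers c := fun x hx hxH => by
    obtain ⟨i, k, rfl⟩ := hWdec x hx
    rw [Subgroup.mul_mem_cancel_left _ (pow_mem hcH i)] at hxH
    have hk : e ^ k = 1 := by
      by_contra hk
      refine heH ?_
      have hk0 : (k : ZMod p) ≠ 0 := fun h0 => hk (orderOf_dvd_iff_pow_eq_one.1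
        ((orderOf_dvd_of_pow_eq_one (hexp e)).trans ((ZMod.natCast_eq_zero_iff k p).1 h0)))
      obtain ⟨b, hb⟩ := RankTwo.exists_pow_eq (hexp e) hk0
      rw [← hb]; exact pow_mem hxH b
    rw [hk, mul_one]
    exact pow_mem (Subgroup.mem_zpowers c) i
  have hW2 : Nat.card W = p ^ 2 := by
    have hWsup : Subgroup.zpowers c ⊔ Subgroup.zpowers e = W := le_antisymm
      (sup_le hzc (Subgroup.zpowers_le.2 heW)) ((Subgroup.closure_le _).2 (by
        rintro _ (rfl | rfl)
        exacts [Subgroup.mem_sup_left (Subgroup.mem_zpowers _),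
          Subgroup.mem_sup_right (Subgroup.mem_zpowers _)]))
    haveI : (Subgroup.zpowers e).Normal := ⟨fun x hx g => by rwa [mul_comm g x, mul_inv_cancel_right]⟩
    have h := Grp.card_sup_mul_card_inf_normal (H := Subgroup.zpowers c) (N := Subgroup.zpowers e)
    rw [hWsup, show Subgroup.zpowers c ⊓ Subgroup.zpowers e = ⊥ from ?_, Subgroup.card_bot, mul_one,
      Nat.card_zpowers, Nat.card_zpowers, orderOf_eq_prime (hexp c) hc1,
      orderOf_eq_prime (hexp e) (fun h => heH (h ▸ one_mem H)), ← sq] at h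
    · exact h
    · rw [eq_bot_iff]
      rintro x ⟨hxc, hxe⟩
      obtain ⟨k, rfl⟩ := hnat hxe
      by_contra hk
      refine heH ?_
      have hk0 : (k : ZMod p) ≠ 0 := fun h0 => hk (Subgroup.mem_bot.2 (orderOf_dvd_iff_pow_eq_one.1
        ((orderOf_dvd_of_pow_eq_one (hexp e)).trans ((ZMod.natCast_eq_zero_iff k p).1 h0))))
      obtain ⟨b, hb⟩ := RankTwo.exists_pow_eq (hexp e) hk0
      rw [← hb]
      exact pow_mem ((Subgroup.zpowers_le.2 hcH) hxc) b
  -- the action on the plane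
  let res : B →* MulAut W := MonoidHom.mk'
    (fun g => ((g : MulAut E).subgroupMap W).trans (MulEquiv.subgroupCongr (hWmap g)))
    fun g g' => MulEquiv.ext fun x => Subtype.ext rfl
  have hres : ∀ (g : B) (x : W), ((res g x : W) : E) = (g : MulAut E) x := fun g x => rfl
  let S1 : Subgroup B :=
    { carrier := {g | ∀ x : E, x⁻¹ * (g : MulAut E) x ∈ W}
      one_mem' := fun x => by simp
      mul_mem' := fun {g g'} hg hg' x => by
        have h := mul_mem (hg' x) (hg ((g' : MulAut E) x))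
        rwa [mul_assoc, mul_inv_cancel_left] at h
      inv_mem' := fun {g} hg x => by
        have h := inv_mem (hg ((g : MulAut E)⁻¹ x))
        rwa [MulAut.apply_inv_self, mul_inv_rev, inv_inv] at h }
  haveI : S1.Normal := ⟨fun g hg h x => by
    have h1 := hinv h _ (hg ((h : MulAut E)⁻¹ x))
    rwa [map_mul, map_inv, MulAut.apply_inv_self] at h1⟩
  have hWidx : W.index = p := by
    have h := W.card_mul_index
    rw [hW2, h3, pow_succ p 2] at h
    exact Nat.eq_of_mul_eq_mul_left (pow_pos hpp.pos 2) h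
  have hK1 : pElts F p E ≤ S1 := by
    refine (Subgroup.closure_le _).2 ?_
    rintro g ⟨k, hk⟩ x
    exact pElt_trivial hWidx.dvd (hWmap g) (k := k) (by rw [← SubmonoidClass.coe_pow, hk]; rfl) x
  have hker1 : ∀ g : B, res g = 1 → g ∈ S1 → g = 1 := by
    have hp0 : IsPGroup p ↥(res.ker ⊓ S1) := by
      intro g
      refine ⟨1, Subtype.ext (Subtype.ext ?_)⟩
      show (((g : B) : MulAut E)) ^ p ^ 1 = 1
      refine MulEquiv.ext fun x => ?_
      have hfixW : ∀ y ∈ W, ((g : B) : MulAut E) y = y := fun y hy => by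
        have h : res (g : B) ⟨y, hy⟩ = ⟨y, hy⟩ := by rw [MonoidHom.mem_ker.1 g.2.1]; rfl
        exact congrArg Subtype.val h
      have hit : ∀ n : ℕ, (((g : B) : MulAut E) ^ n) x = x * (x⁻¹ * ((g : B) : MulAut E) x) ^ n := by
        intro n
        induction n with
        | zero => simp
        | succ n ih =>
          rw [pow_succ', MulAut.mul_apply, ih, map_mul, map_pow, hfixW _ (g.2.2 x), pow_succ',
            ← mul_assoc, mul_inv_cancel_left]
      rw [pow_one, hit, hexp, mul_one]; rfl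
    intro g h1 h2
    have h : (g : MulAut E) ∈ Inn E := by
      rw [← (radical_of_essential hS hE).2]
      exact ⟨g, Grp.le_pCore inferInstance hp0 ⟨MonoidHom.mem_ker.2 h1, h2⟩, rfl⟩
    exact Subgroup.mem_bot.1 (hInn.le (Subgroup.mem_subgroupOf.2 h))
  have hτp : τ ^ p ^ 1 = 1 := by rw [pow_one, ← hord, pow_orderOf_eq_one]
  have hnotpow : res w * res τ * (res w)⁻¹ ∉ Subgroup.zpowers (res τ) := fun hmem => by
    obtain ⟨i, hi⟩ := hmem
    have hfix : ∀ i : ℤ, ((res τ ^ i) ⟨c, hcW⟩ : W) = ⟨c, hcW⟩ := by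
      intro i
      have h1 : res τ ⟨c, hcW⟩ = ⟨c, hcW⟩ := Subtype.ext hτc
      induction i using Int.induction_on with
      | zero => rfl
      | succ i ih => rw [zpow_add, zpow_one, MulAut.mul_apply, h1, ih]
      | pred i ih =>
        rw [zpow_sub, zpow_one, MulAut.mul_apply]
        conv_lhs => arg 2; rw [← h1]
        rw [MulAut.inv_apply_self, ih]
    have h := DFunLike.congr_fun hi ⟨c, hcW⟩
    rw [hfix i, MulAut.mul_apply, MulAut.mul_apply] at h
    have h2 : (res w)⁻¹ ⟨c, hcW⟩ = ⟨e, heW⟩ := by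
      apply (res w).injective
      rw [MulAut.apply_inv_self]
      exact Subtype.ext hwe.symm
    rw [h2] at h
    have h3' : c = (w : MulAut E) ((τ : MulAut E) e) := congrArg Subtype.val h
    rw [hτe, map_mul, hwc, hwe] at h3'
    have : e = 1 := inv_eq_one.1 (mul_eq_right.1 h3'.symm)
    exact heH (this ▸ one_mem H)
  obtain ⟨co, s, hs, hau, -, htor⟩ := exists_lift (p := p) res hW2 (fun x y => mul_comm x y)
    (fun x => Subtype.ext (by rw [SubmonoidClass.coe_pow, hexp]; rfl)) hτp ⟨w, hnotpow⟩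
  obtain ⟨f0, hf0⟩ : ∃ f : W, co (Multiplicative.ofAdd (Pi.single 0 1)) = f := ⟨_, rfl⟩
  obtain ⟨f1, hf1⟩ : ∃ f : W, co (Multiplicative.ofAdd (Pi.single 1 1)) = f := ⟨_, rfl⟩
  have hf0c : ∃ n : ℕ, (c : E) = (f0 : E) ^ n := by
    have hfix0 : res τ f0 = f0 := by rw [hau, ← hf0]; exact (act_up co s).1
    have hmem : (f0 : E) ∈ Subgroup.zpowers c :=
      hWH _ f0.2 (hτfix _ (congrArg Subtype.val hfix0))
    have hne : (f0 : E) ≠ 1 := fun h => by
      have h' : Multiplicative.ofAdd (Pi.single (0 : Fin 2) (1 : ZMod p)) = 1 :=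
        co.injective (by rw [hf0, map_one]; exact Subtype.ext h)
      have := congrFun (congrArg Multiplicative.toAdd h') 0
      simp at this
    have hz := CubeAut.zpowers_eq hexp hmem hne
    obtain ⟨n, hn⟩ := hnat (hz.ge (Subgroup.mem_zpowers c))
    exact ⟨n, hn.symm⟩
  obtain ⟨n0, hn0⟩ := hf0c
  have hfc : ∀ n : ℕ, ∃ i : ℕ, (f0 : E) ^ n = c ^ i := fun n => by
    have hmem : (f0 : E) ∈ Subgroup.zpowers c := by
      have hfix0 : res τ f0 = f0 := by rw [hau, ← hf0]; exact (act_up co s).1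
      exact hWH _ f0.2 (hτfix _ (congrArg Subtype.val hfix0))
    obtain ⟨i, hi⟩ := hnat (pow_mem hmem n)
    exact ⟨i, hi.symm⟩
  refine ⟨u, c, l, e,
    { card_norm := hN4, not_mem := huE
      fix_c := huH c hcH, fix_l := huH l hlH
      move_e := by rw [← hcN, ← hτ]; exact hτe
      c_ne := hc1, l_not := hl
      e_not := fun i j h => heH (h ▸ mul_mem (pow_mem hcH i) (pow_mem hlH j))
      dec := hdec
      gen := fun y => by
        obtain ⟨i, hi⟩ := hgen y
        exact ⟨i, by rw [← hcN, ← hτ, hi]⟩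
      inv := fun α hα x hx => hinv ⟨α, hα⟩ x hx
      torus := fun d hd => ?_ }⟩
  obtain ⟨t, htK, -, ht⟩ := htor d⁻¹ d (inv_mul_cancel₀ hd)
  have ht1 := hK1 htK
  set n := (d⁻¹ * d⁻¹).val
  have htτ : t * τ * t⁻¹ = τ ^ n := by
    have hrest : res (t * τ * t⁻¹) = res (τ ^ n) := by
      rw [map_mul, map_mul, map_inv, map_pow, ht, hau, ← map_inv (act co), ← map_pow, ← map_mul,
        ← map_mul, up_pow, ZMod.natCast_zmod_val, dg_mul_up, mul_inv_cancel_right]
    have h := hker1 (t * τ * t⁻¹ * (τ ^ n)⁻¹)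
      (by rw [map_mul, map_inv, hrest, mul_inv_cancel])
      (mul_mem ((inferInstance : S1.Normal).conj_mem _ (hK1 (mem_pElts hτp)) t)
        (inv_mem (pow_mem (hK1 (mem_pElts hτp)) n)))
    exact mul_inv_eq_one.1 h
  obtain ⟨β, hβ, hβt, hβN, hβe⟩ := extend_of_normalizes hS hF (centralizerIn_le_of_centric hE.1)
    hE.2.1 t fun x => by
      obtain ⟨i, hi⟩ := hgen x
      refine ⟨u ^ (n * i), ?_⟩
      rw [map_pow, ← hcN, hi, ← hτ, pow_mul, ← htτ, conj_pow]
  obtain ⟨ha0, ha1⟩ := act_dg co d⁻¹ d (inv_mul_cancel₀ hd)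
  rw [hf0] at ha0
  rw [hf1] at ha1
  have hap : ∀ x : W, (t : MulAut E) x = ((act co (dg d⁻¹ d (inv_mul_cancel₀ hd)) x : W) : E) :=
    fun x => by rw [← ht]; rfl
  have htf0 : (t : MulAut E) f0 = (f0 : E) ^ (d⁻¹).val := by
    rw [hap, ha0, SubmonoidClass.coe_pow]
  have htf1 : (t : MulAut E) f1 = (f1 : E) ^ d.val := by
    rw [hap, ha1, SubmonoidClass.coe_pow]
  have hβE : ∀ {x y : E}, (t : MulAut E) x = y → β (x : Ω) = (y : Ω) := fun {x y} h => by
    rw [hβt, h]
  refine ⟨β, hβ, hβN, ?_, ?_, ?_, hβe u (u ^ n) (by rw [map_pow, ← hcN, ← hτ, htτ])⟩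
  · rw [hβE (y := c ^ (d⁻¹).val) (by rw [hn0, map_pow, htf0, ← pow_mul, ← pow_mul, mul_comm]),
      SubmonoidClass.coe_pow]
  · obtain ⟨a, b, hab⟩ := exists_coord co (⟨e, heW⟩ : W)
    rw [hf0, hf1] at hab
    have he : e = (f0 : E) ^ a * (f1 : E) ^ b := by
      rw [← SubmonoidClass.coe_pow, ← SubmonoidClass.coe_pow, ← Subgroup.coe_mul, ← hab]
    obtain ⟨i, hi⟩ := hfc (a * (d⁻¹).val + (p - 1) * (a * d.val))
    refine ⟨i, ?_⟩
    rw [hβE (y := e ^ d.val * c ^ i) ?_, Subgroup.coe_mul, SubmonoidClass.coe_pow, SubmonoidClass.coe_pow]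
    rw [← hi, he, map_mul, map_pow, map_pow, htf0, htf1, mul_pow, ← pow_mul, ← pow_mul, ← pow_mul,
      ← pow_mul, mul_right_comm, ← pow_add, show a * d.val + (a * (d⁻¹).val + (p - 1) * (a * d.val)) =
        a * (d⁻¹).val + p * (a * d.val) by
          have := Nat.le_mul_of_pos_left (a * d.val) hpp.pos
          rw [Nat.sub_one_mul]; omega,
      pow_add (f0 : E) (a * (d⁻¹).val), pow_mul (f0 : E) p, hexp, one_pow, mul_one, mul_comm d.val b,
      mul_comm (d⁻¹).val a]
  · have hmem : l⁻¹ * (t : MulAut E) l ∈ Subgroup.zpowers c := by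
      refine hWH _ (ht1 l) (mul_mem (inv_mem hlH) (hτfix _ ?_))
      have hn : (n : ZMod p) ≠ 0 := by
        rw [ZMod.natCast_zmod_val]; exact mul_ne_zero (inv_ne_zero hd) (inv_ne_zero hd)
      have h1 : ((τ ^ n : B) : MulAut E) ((t : MulAut E) l) = (t : MulAut E) l := by
        rw [← htτ, Subgroup.coe_mul, Subgroup.coe_mul, MulAut.mul_apply, MulAut.mul_apply,
          Subgroup.coe_inv, MulAut.inv_apply_self, hτl]
      obtain ⟨b, hb⟩ := RankTwo.exists_pow_eq (x := τ) (by rw [← hord, pow_orderOf_eq_one]) hn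
      have h2 : ∀ j : ℕ, (((τ ^ n) ^ j : B) : MulAut E) ((t : MulAut E) l) = (t : MulAut E) l := by
        intro j
        induction j with
        | zero => rfl
        | succ j ih => rw [pow_succ', Subgroup.coe_mul, MulAut.mul_apply, ih, h1]
      have h3' := h2 b
      rwa [hb] at h3'
    obtain ⟨i, hi⟩ := hnat hmem
    refine ⟨i, ?_⟩
    rw [hβE (y := l * c ^ i) (by rw [hi, mul_inv_cancel_left]), Subgroup.coe_mul,
      SubmonoidClass.coe_pow]

end Cfsg.Agent.Fus.OrdFive
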