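import Mathlib
import Cfsg.Agent.Lib.Fus.MaxClassDegree
import Cfsg.Agent.Lib.Grp.Frattini

/-!
Groups of order `p⁵` without an abelian subgroup of index `p`, in the two configurations that carry
essential subgroups: the weights of an automorphism satisfy `c = a²`.
-/

set_option autoImplicit false
set_option linter.unusedSectionVars false
set_option linter.style.haveILetI false

namespace Cfsg.Agent.Fus.OrdFive

open scoped commutatorElement
open Cfsg.Agent.Fus.MC (lc lc_anti lc_comm lc_step Ck mem_Ck lc_one_le_Ck)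
open Cfsg.Agent.Grp.Uni
open Cfsg.Agent.Fus.MCDeg (Act act_step map_lc_mem map_Ck_mem)

section algebra

variable {G : Type*} [Group G]

theorem comm_pow_right {a b : G} (hz : ∀ g, Commute ⁅a, b⁆ g) (j : ℕ) :
    ⁅a, b ^ j⁆ = ⁅a, b⁆ ^ j := by
  induction j with
  | zero => simp
  | succ j ih =>
    rw [pow_succ, show ⁅a, b ^ j * b⁆ = ⁅a, b ^ j⁆ * (b ^ j * ⁅a, b⁆ * (b ^ j)⁻¹) by
      simp only [commutatorElement_def]; group, ih, ← (hz (b ^ j)).eq, mul_inv_cancel_right, pow_succ]

/-- A central commutator is bilinear. -/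
theorem comm_pow_pow {a b m n : G} (hz : ∀ g, Commute ⁅a, b⁆ g) (hmb : Commute m b)
    (han : Commute a n) (hmn : Commute m n) (i j : ℕ) :
    ⁅a ^ i * m, b ^ j * n⁆ = ⁅a, b⁆ ^ (i * j) := by
  have h1 : Commute m (b ^ j * n) := (hmb.pow_right j).mul_right hmn
  have h2 : Commute (a ^ i) n := han.pow_left i
  have hij : ∀ g, Commute ⁅a, b ^ j⁆ g := fun g => by
    rw [comm_pow_right hz]; exact (hz g).pow_left j
  have hflip : ∀ g, Commute ⁅b ^ j, a⁆ g := fun g => by
    rw [← commutatorElement_inv]; exact (hij g).inv_left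
  rw [show ⁅a ^ i * m, b ^ j * n⁆ = a ^ i * ⁅m, b ^ j * n⁆ * (a ^ i)⁻¹ * ⁅a ^ i, b ^ j * n⁆ by
      simp only [commutatorElement_def]; group, commutatorElement_eq_one_iff_commute.2 h1, mul_one,
    mul_inv_cancel, one_mul,
    show ⁅a ^ i, b ^ j * n⁆ = ⁅a ^ i, b ^ j⁆ * (b ^ j * ⁅a ^ i, n⁆ * (b ^ j)⁻¹) by
      simp only [commutatorElement_def]; group, commutatorElement_eq_one_iff_commute.2 h2, mul_one,
    mul_inv_cancel, mul_one, ← commutatorElement_inv, comm_pow_right hflip, ← inv_pow,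
    commutatorElement_inv, comm_pow_right hz, ← pow_mul, mul_comm j]

theorem mul_self_pow_eq {z : G} {p : ℕ} [Fact p.Prime] (hz : z ^ p = 1) (h1 : z ≠ 1) {i j : ℕ}
    (h : z ^ i = z ^ j) : (i : ZMod p) = j :=
  (ZMod.natCast_eq_natCast_iff' i j p).2 (by
    have := pow_eq_pow_iff_modEq.1 h
    rwa [orderOf_eq_prime hz h1] at this)

end algebra

/-- The configuration of class three: `y = ⁅w, e⁆`, `z = ⁅w, u⁆`. -/
structure CfgC (G : Type*) [Group G] (p : ℕ) (e w u : G) : Prop where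
  wy : Commute w ⁅w, e⁆
  eu : Commute e u
  yu : Commute ⁅w, e⁆ u
  zc : ∀ g, Commute ⁅w, u⁆ g
  zne : ⁅w, u⁆ ≠ 1
  zp : ⁅w, u⁆ ^ p = 1
  ye : ∃ k : ℕ, ⁅⁅w, e⁆, e⁆ = ⁅w, u⁆ ^ k ∧ ¬ p ∣ k
  gen : Subgroup.closure {e, w, u} = ⊤
  epow : e ^ p ∈ Subgroup.closure {⁅w, e⁆, ⁅w, u⁆}
  wpow : w ^ p ∈ Subgroup.closure {⁅w, e⁆, ⁅w, u⁆}
  upow : u ^ p ∈ Subgroup.closure {⁅w, e⁆, ⁅w, u⁆}

namespace CfgC

variable {G : Type*} [Group G] [Finite G] {p : ℕ} [hp : Fact p.Prime] {e w u : G}
  (h : CfgC G p e w u)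

include h

/-- The group generated by `y` and `z` is the derived group. -/
theorem derived : Subgroup.closure {⁅w, e⁆, ⁅w, u⁆} = commutator G := by
  set N := Subgroup.closure ({⁅w, e⁆, ⁅w, u⁆} : Set G) with hN
  obtain ⟨k, hk, -⟩ := h.ye
  have hy : ⁅w, e⁆ ∈ N := Subgroup.subset_closure (Set.mem_insert _ _)
  have hz : ⁅w, u⁆ ∈ N := Subgroup.subset_closure (Set.mem_insert_of_mem _ rfl)
  have hnorm : ∀ g ∈ ({e, w, u} : Set G), ∀ t ∈ N, g * t * g⁻¹ ∈ N := by
    intro g hg t ht
    induction ht using Subgroup.closure_induction with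
    | mem t ht =>
      rcases ht with rfl | rfl
      · rcases hg with rfl | rfl | rfl
        · rw [show g * ⁅w, g⁆ * g⁻¹ = ⁅⁅w, g⁆, g⁆⁻¹ * ⁅w, g⁆ by
            simp only [commutatorElement_def]; group, hk]
          exact N.mul_mem (N.inv_mem (N.pow_mem hz k)) hy
        · rw [h.wy.eq, mul_inv_cancel_right]; exact hy
        · rw [← h.yu.eq, mul_inv_cancel_right]; exact hy
      · rw [← (h.zc g).eq, mul_inv_cancel_right]; exact hz
    | one => simp
    | mul a b _ _ iha ihb => simpa [mul_assoc] using N.mul_mem iha ihb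
    | inv a _ iha => simpa [mul_assoc] using N.inv_mem iha
  haveI : N.Normal := by
    refine Subgroup.normalizer_eq_top_iff.1 (top_le_iff.1 (h.gen.ge.trans ((Subgroup.closure_le _).2
      fun g hg => ?_)))
    have hle : N.map (MulAut.conj g).toMonoidHom ≤ N := by
      rintro _ ⟨t, ht, rfl⟩
      exact hnorm g hg t ht
    have heq := Subgroup.eq_of_le_of_card_ge hle
      (Subgroup.card_map_of_injective (MulAut.conj g).injective).ge
    refine Subgroup.mem_normalizer_iff.2 fun t => ⟨hnorm g hg t, fun ht => ?_⟩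
    obtain ⟨t', ht', e'⟩ := heq.ge ht
    rwa [← (MulAut.conj g).injective e']
  refine le_antisymm ((Subgroup.closure_le _).2 ?_) ?_
  · rintro _ (rfl | rfl) <;>
      exact Subgroup.commutator_mem_commutator (Subgroup.mem_top _) (Subgroup.mem_top _)
  set π := QuotientGroup.mk' N
  have hπ : ∀ {a b : G}, ⁅a, b⁆ ∈ N → Commute (π a) (π b) := fun {a b} hab =>
    commutatorElement_eq_one_iff_mul_comm.1 (by
      rw [← map_commutatorElement]; exact (QuotientGroup.eq_one_iff _).2 hab)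
  have h2 : ∀ a ∈ ({e, w, u} : Set G), ∀ b ∈ ({e, w, u} : Set G), Commute (π a) (π b) := by
    have hew : Commute (π w) (π e) := hπ hy
    have hwu : Commute (π w) (π u) := hπ hz
    have heu : Commute (π e) (π u) := h.eu.map π
    rintro a (rfl | rfl | rfl) b (rfl | rfl | rfl) <;>
      first | exact Commute.refl _ | exact hew | exact hew.symm | exact hwu | exact hwu.symm |
        exact heu | exact heu.symm
  rw [commutator_def, Subgroup.commutator_le]
  intro a _ b _
  have hcen : ∀ a : G, ∀ b : G, Commute (π a) (π b) := by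
    intro a b
    have ha : a ∈ Subgroup.closure {e, w, u} := h.gen.ge (Subgroup.mem_top a)
    induction ha using Subgroup.closure_induction with
    | mem a ha =>
      have hb : b ∈ Subgroup.closure {e, w, u} := h.gen.ge (Subgroup.mem_top b)
      induction hb using Subgroup.closure_induction with
      | mem b hb => exact h2 a ha b hb
      | one => simp
      | mul c d _ _ ihc ihd => rw [map_mul]; exact ihc.mul_right ihd
      | inv c _ ihc => rw [map_inv]; exact ihc.inv_right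
    | one => simp
    | mul c d _ _ ihc ihd => rw [map_mul]; exact ihc.mul_left ihd
    | inv c _ ihc => rw [map_inv]; exact ihc.inv_left
  refine (QuotientGroup.eq_one_iff _).1 ?_
  show π ⁅a, b⁆ = 1
  rw [map_commutatorElement, commutatorElement_eq_one_iff_mul_comm]
  exact hcen a b

theorem center_of_mem {t : G} (ht : t ∈ commutator G) : Commute w t ∧ Commute u t := by
  rw [← h.derived] at ht
  induction ht using Subgroup.closure_induction with
  | mem t ht =>
    rcases ht with rfl | rfl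
    · exact ⟨h.wy, h.yu.symm⟩
    · exact ⟨(h.zc w).symm, (h.zc u).symm⟩
  | one => simp
  | mul a b _ _ iha ihb => exact ⟨iha.1.mul_right ihb.1, iha.2.mul_right ihb.2⟩
  | inv a _ iha => exact ⟨iha.1.inv_right, iha.2.inv_right⟩

/-- Normal form. -/
theorem decomp (g : G) : ∃ i j k : ℕ, ∃ n ∈ commutator G, g = e ^ i * w ^ j * u ^ k * n := by
  set π := QuotientGroup.mk' (commutator G)
  have hcom : ∀ a b : G, Commute (π a) (π b) := fun a b =>
    commutatorElement_eq_one_iff_mul_comm.1 (by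
      rw [← map_commutatorElement]
      exact (QuotientGroup.eq_one_iff _).2
        (Subgroup.commutator_mem_commutator (Subgroup.mem_top a) (Subgroup.mem_top b)))
  suffices hh : ∃ i j k : ℕ, π g = π (e ^ i * w ^ j * u ^ k) by
    obtain ⟨i, j, k, hg⟩ := hh
    exact ⟨i, j, k, _, QuotientGroup.eq.1 hg.symm, (mul_inv_cancel_left _ _).symm⟩
  have hg : g ∈ Subgroup.closure {e, w, u} := h.gen.ge (Subgroup.mem_top g)
  have hmul : ∀ a b, (∃ i j k : ℕ, π a = π (e ^ i * w ^ j * u ^ k)) →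
      (∃ i j k : ℕ, π b = π (e ^ i * w ^ j * u ^ k)) →
      ∃ i j k : ℕ, π (a * b) = π (e ^ i * w ^ j * u ^ k) := by
    rintro a b ⟨i, j, k, ha⟩ ⟨i', j', k', hb⟩
    refine ⟨i + i', j + j', k + k', ?_⟩
    simp only [map_mul, map_pow] at ha hb ⊢
    rw [ha, hb, pow_add, pow_add, pow_add]
    letI : CommGroup (G ⧸ commutator G) :=
      { (inferInstance : Group (G ⧸ commutator G)) with
        mul_comm := fun x y => by
          obtain ⟨x, rfl⟩ := QuotientGroup.mk'_surjective _ x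
          obtain ⟨y, rfl⟩ := QuotientGroup.mk'_surjective _ y
          exact (hcom x y).eq }
    ac_rfl
  induction hg using Subgroup.closure_induction with
  | mem a ha =>
    rcases ha with rfl | rfl | rfl
    exacts [⟨1, 0, 0, by simp⟩, ⟨0, 1, 0, by simp⟩, ⟨0, 0, 1, by simp⟩]
  | one => exact ⟨0, 0, 0, by simp⟩
  | mul a b _ _ iha ihb => exact hmul a b iha ihb
  | inv a _ iha =>
    have hpow : ∀ n : ℕ, ∃ i j k : ℕ, π (a ^ n) = π (e ^ i * w ^ j * u ^ k) := fun n => by
      induction n with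
      | zero => exact ⟨0, 0, 0, by simp⟩
      | succ n ih => rw [pow_succ]; exact hmul _ _ ih iha
    obtain ⟨n, hn⟩ : ∃ n : ℕ, a ^ n = a⁻¹ := ⟨orderOf a - 1, by
      rw [eq_inv_iff_mul_eq_one, ← pow_succ, Nat.sub_add_cancel (orderOf_pos a), pow_orderOf_eq_one]⟩
    rw [← hn]
    exact hpow n

theorem pow_mem_derived (g : G) : g ^ p ∈ commutator G := by
  obtain ⟨i, j, k, n, hn, rfl⟩ := h.decomp g
  set π := QuotientGroup.mk' (commutator G)
  have hcom : ∀ a b : G, Commute (π a) (π b) := fun a b =>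
    commutatorElement_eq_one_iff_mul_comm.1 (by
      rw [← map_commutatorElement]
      exact (QuotientGroup.eq_one_iff _).2
        (Subgroup.commutator_mem_commutator (Subgroup.mem_top a) (Subgroup.mem_top b)))
  have h1 : ∀ {t : G}, t ∈ commutator G → π t = 1 := fun ht => (QuotientGroup.eq_one_iff _).2 ht
  refine (QuotientGroup.eq_one_iff _).1 ?_
  show π _ = 1
  simp only [map_pow, map_mul, h1 hn, mul_one]
  rw [(((hcom e u).pow_pow i k).mul_left ((hcom w u).pow_pow j k)).mul_pow,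
    ((hcom e w).pow_pow i j).mul_pow, ← pow_mul, ← pow_mul, ← pow_mul, mul_comm i, mul_comm j,
    mul_comm k, pow_mul, pow_mul, pow_mul, ← map_pow π e p, ← map_pow π w p, ← map_pow π u p,
    h1 (h.derived.le h.epow), h1 (h.derived.le h.wpow), h1 (h.derived.le h.upow), one_pow, one_pow,
    one_pow, one_mul, one_mul]

theorem derived_comm {s t : G} (hs : s ∈ commutator G) (ht : t ∈ commutator G) : Commute s t := by
  rw [← h.derived] at hs ht
  induction hs using Subgroup.closure_induction with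
  | mem s hs =>
    induction ht using Subgroup.closure_induction with
    | mem t ht =>
      rcases hs with rfl | rfl <;> rcases ht with rfl | rfl <;>
        first | exact Commute.refl _ | exact h.zc _ | exact (h.zc _).symm
    | one => simp
    | mul a b _ _ iha ihb => exact iha.mul_right ihb
    | inv a _ iha => exact iha.inv_right
  | one => simp
  | mul a b _ _ iha ihb => exact iha.mul_left ihb
  | inv a _ iha => exact iha.inv_left

theorem not_mem_derived : u ∉ commutator G := fun hu =>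
  h.zne (commutatorElement_eq_one_iff_mul_comm.2 (h.center_of_mem hu).1.eq)

theorem not_mem_frattini : u ∉ frattini G := fun hu =>
  h.not_mem_derived (Grp.frattini_le_of_elementary hp.out le_rfl h.pow_mem_derived hu)

theorem dvd_of_comm_e {i : ℕ} (hi : ⁅⁅w, e⁆, e ^ i⁆ = 1) : p ∣ i := by
  obtain ⟨k, hk, hk'⟩ := h.ye
  rw [comm_pow_right (fun g => by rw [hk]; exact (h.zc g).pow_left k), hk, ← pow_mul] at hi
  have := orderOf_dvd_of_pow_eq_one hi
  rw [orderOf_eq_prime h.zp h.zne] at this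
  exact (hp.out.dvd_mul.1 this).resolve_left hk'

/-- The weight relation. -/
theorem weight {φ : G ≃* G} {a c : ℕ} {me nu : G}
    (hme : ∀ t ∈ commutator G, Commute me t) (hφe : φ e = e ^ a * me)
    (hnu : nu ∈ commutator G) (hφu : φ u = u ^ c * nu) :
    (c : ZMod p) = (a : ZMod p) ^ 2 ∧ (c : ZMod p) ≠ 0 := by
  obtain ⟨k, hk, hk'⟩ := h.ye
  have hyN : ⁅w, e⁆ ∈ commutator G :=
    Subgroup.commutator_mem_commutator (Subgroup.mem_top w) (Subgroup.mem_top e)
  -- `φ w` centralizes the derived group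
  obtain ⟨i, b, l, nw, hnw, hφw⟩ := h.decomp (φ w)
  have hwC : ∀ t ∈ commutator G, Commute (φ w) t := fun t ht => by
    have hs : φ.symm t ∈ commutator G :=
      ((Subgroup.map_commutator (⊤ : Subgroup G) ⊤ φ.symm.toMonoidHom).trans (by
        rw [Subgroup.map_top_of_surjective _ φ.symm.surjective]; rfl)).le ⟨t, ht, rfl⟩
    simpa using (h.center_of_mem hs).1.map φ.toMonoidHom
  have hpi : p ∣ i := by
    refine h.dvd_of_comm_e (commutatorElement_eq_one_iff_mul_comm.2 ?_)
    have h1 := hwC _ hyN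
    have h2 : Commute (w ^ b * u ^ l * nw) ⁅w, e⁆ :=
      (((h.center_of_mem hyN).1.pow_left b).mul_left ((h.center_of_mem hyN).2.pow_left l)).mul_left
        (h.derived_comm hnw hyN)
    rw [hφw, show e ^ i * w ^ b * u ^ l * nw = e ^ i * (w ^ b * u ^ l * nw) by group] at h1
    have h3 := h1.mul_left h2.inv_left
    rw [mul_inv_cancel_right] at h3
    exact h3.symm.eq
  obtain ⟨i, rfl⟩ := hpi
  obtain ⟨nw', hnw', hφw⟩ : ∃ n ∈ commutator G, φ w = w ^ b * u ^ l * n := by
    refine ⟨((w ^ b * u ^ l)⁻¹ * e ^ (p * i) * (w ^ b * u ^ l)) * nw, mul_mem ?_ hnw, ?_⟩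
    · simpa using (inferInstance : (commutator G).Normal).conj_mem _
        (pow_mul e p i ▸ pow_mem (h.pow_mem_derived e) i) (w ^ b * u ^ l)⁻¹
    · rw [hφw]; group
  have hz : φ ⁅w, u⁆ = ⁅w, u⁆ ^ (b * c) := by
    rw [map_commutatorElement, hφw, hφu, show w ^ b * u ^ l * nw' = w ^ b * (u ^ l * nw') by group,
      comm_pow_pow h.zc (((Commute.refl u).pow_left l).mul_left (h.center_of_mem hnw').2.symm)
        (h.center_of_mem hnu).1 ?_]
    refine ((h.center_of_mem hnu).2.pow_left l).mul_left ?_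
    exact h.derived_comm hnw' hnu
  -- the image of `y` modulo the centre
  set π := QuotientGroup.mk' (Subgroup.center G)
  have hπz : π ⁅w, u⁆ = 1 :=
    (QuotientGroup.eq_one_iff _).2 (Subgroup.mem_center_iff.2 fun g => (h.zc g).symm.eq)
  have hcen : ∀ s : G, (∀ r ∈ ({e, w, u} : Set G), Commute (π s) (π r)) →
      ∀ g, Commute (π s) (π g) := by
    intro s hs g
    have hg : g ∈ Subgroup.closure {e, w, u} := h.gen.ge (Subgroup.mem_top g)
    induction hg using Subgroup.closure_induction with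
    | mem r hr => exact hs r hr
    | one => simp
    | mul a b _ _ iha ihb => rw [map_mul]; exact iha.mul_right ihb
    | inv a _ iha => rw [map_inv]; exact iha.inv_right
  have hcomm1 : ∀ {s r : G}, π ⁅s, r⁆ = 1 → Commute (π s) (π r) := fun hh => by
    rw [map_commutatorElement] at hh
    exact commutatorElement_eq_one_iff_mul_comm.1 hh
  have hπy : ∀ g, Commute (π ⁅w, e⁆) (π g) := hcen _ (by
    rintro r (rfl | rfl | rfl)
    · exact hcomm1 (by rw [hk, map_pow, hπz, one_pow])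
    · exact h.wy.symm.map π
    · exact h.yu.map π)
  have hπu : ∀ g, Commute (π u) (π g) := hcen _ (by
    rintro r (rfl | rfl | rfl)
    · exact h.eu.symm.map π
    · exact (hcomm1 hπz).symm
    · exact Commute.refl _)
  have hπN : ∀ t ∈ commutator G, ∀ g, Commute (π t) (π g) := by
    intro t ht g
    rw [← h.derived] at ht
    induction ht using Subgroup.closure_induction with
    | mem t ht =>
      rcases ht with rfl | rfl
      exacts [hπy g, by rw [hπz]; exact Commute.one_left _]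
    | one => simp
    | mul a b _ _ iha ihb => rw [map_mul]; exact iha.mul_left ihb
    | inv a _ iha => rw [map_inv]; exact iha.inv_left
  obtain ⟨i', j', l', n', hn', hme'⟩ := h.decomp me
  have hpi' : p ∣ i' := by
    refine h.dvd_of_comm_e (commutatorElement_eq_one_iff_mul_comm.2 ?_)
    have h1 : Commute me ⁅w, e⁆ := hme _ hyN
    have h2 : Commute (w ^ j' * u ^ l' * n') ⁅w, e⁆ :=
      (((h.center_of_mem hyN).1.pow_left j').mul_left ((h.center_of_mem hyN).2.pow_left l')).mul_left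
        (h.derived_comm hn' hyN)
    rw [hme', show e ^ i' * w ^ j' * u ^ l' * n' = e ^ i' * (w ^ j' * u ^ l' * n') by group] at h1
    have h3 := h1.mul_left h2.inv_left
    rw [mul_inv_cancel_right] at h3
    exact h3.symm.eq
  have hπme : Commute (π w) (π me) := by
    obtain ⟨i', rfl⟩ := hpi'
    rw [hme']
    simp only [map_mul, map_pow]
    have h1 : Commute (π w) (π e ^ (p * i')) := by
      rw [pow_mul]
      refine Commute.pow_right ?_ i'
      rw [← map_pow]
      exact (hπN _ (h.pow_mem_derived e) w).symm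
    exact ((h1.mul_right ((Commute.refl _).pow_right j')).mul_right
      ((hπu w).symm.pow_right l')).mul_right (hπN _ hn' w).symm
  have hy : π (φ ⁅w, e⁆) = π ⁅w, e⁆ ^ (b * a) := by
    rw [map_commutatorElement φ, hφw, hφe, show w ^ b * u ^ l * nw' = w ^ b * (u ^ l * nw') by group,
      map_commutatorElement π, map_mul, map_mul π (e ^ a), map_pow, map_pow, map_mul π (u ^ l), map_pow,
      comm_pow_pow (fun g => by
        obtain ⟨g, rfl⟩ := QuotientGroup.mk'_surjective _ g
        rw [← map_commutatorElement]; exact hπy g)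
        (((hπu e).pow_left l).mul_left (hπN _ hnw' e)) hπme
        (((hπu me).pow_left l).mul_left (hπN _ hnw' me)), ← map_commutatorElement]
  obtain ⟨ζ, hζ, hζe⟩ : ∃ ζ ∈ Subgroup.center G, φ ⁅w, e⁆ = ⁅w, e⁆ ^ (b * a) * ζ :=
    ⟨(⁅w, e⁆ ^ (b * a))⁻¹ * φ ⁅w, e⁆, QuotientGroup.eq.1 (by
      rw [← map_pow] at hy; exact hy.symm), (mul_inv_cancel_left _ _).symm⟩
  have hye : φ ⁅⁅w, e⁆, e⁆ = ⁅⁅w, e⁆, e⁆ ^ (b * a * a) := by
    rw [map_commutatorElement φ, hζe, hφe]
    exact comm_pow_pow (fun g => by rw [hk]; exact (h.zc g).pow_left k)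
      (Subgroup.mem_center_iff.1 hζ e).symm (hme _ hyN).symm (Subgroup.mem_center_iff.1 hζ me).symm _ _
  rw [hk, map_pow, hz, ← pow_mul, ← pow_mul] at hye
  have e1 := mul_self_pow_eq (p := p) h.zp h.zne hye
  push_cast at e1
  have hb0 : (b : ZMod p) * c ≠ 0 := by
    intro h0
    have : φ ⁅w, u⁆ = 1 := by
      rw [hz, ← orderOf_dvd_iff_pow_eq_one, orderOf_eq_prime h.zp h.zne,
        ← ZMod.natCast_eq_zero_iff]
      exact_mod_cast h0
    exact h.zne (φ.injective (this.trans (map_one φ).symm))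
  refine ⟨?_, right_ne_zero_of_mul hb0⟩
  have hk0 : (k : ZMod p) ≠ 0 := fun h0 => hk' ((ZMod.natCast_eq_zero_iff _ _).1 h0)
  refine mul_left_cancel₀ (mul_ne_zero (left_ne_zero_of_mul hb0) hk0) ?_
  linear_combination e1

theorem exists_weights (φ : G ≃* G) : ∃ a c : ℕ, ∃ me nu : G,
    (∀ t ∈ commutator G, Commute me t) ∧ φ e = e ^ a * me ∧ nu ∈ commutator G ∧
      φ u = u ^ c * nu := by
  obtain ⟨a, j, l, n, hn, hφe⟩ := h.decomp (φ e)
  set π := QuotientGroup.mk' (Subgroup.center G)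
  obtain ⟨k, hk, hk'⟩ := h.ye
  -- `φ u` is central modulo the centre
  obtain ⟨i, b, c, n', hn', hφu⟩ := h.decomp (φ u)
  have hZ : ⁅w, u⁆ ∈ Subgroup.center G := Subgroup.mem_center_iff.2 fun g => (h.zc g).symm.eq
  have hu2 : ∀ g, ⁅u, g⁆ ∈ Subgroup.center G := by
    intro g
    refine (QuotientGroup.eq_one_iff _).1 ?_
    show π ⁅u, g⁆ = 1
    rw [map_commutatorElement, commutatorElement_eq_one_iff_mul_comm]
    show Commute (π u) (π g)
    have hg : g ∈ Subgroup.closure {e, w, u} := h.gen.ge (Subgroup.mem_top g)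
    induction hg using Subgroup.closure_induction with
    | mem r hr =>
      rcases hr with rfl | rfl | rfl
      · exact h.eu.symm.map π
      · refine (commutatorElement_eq_one_iff_mul_comm.1 ?_ : π r * π u = π u * π r).symm
        rw [← map_commutatorElement]; exact (QuotientGroup.eq_one_iff _).2 hZ
      · exact Commute.refl _
    | one => simp
    | mul a b _ _ iha ihb => rw [map_mul]; exact iha.mul_right ihb
    | inv a _ iha => rw [map_inv]; exact iha.inv_right
  have hy2 : ∀ t ∈ commutator G, ∀ g, Commute (π t) (π g) := by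
    intro t ht g
    rw [← h.derived] at ht
    induction ht using Subgroup.closure_induction with
    | mem t ht =>
      rcases ht with rfl | rfl
      · have hg : g ∈ Subgroup.closure {e, w, u} := h.gen.ge (Subgroup.mem_top g)
        induction hg using Subgroup.closure_induction with
        | mem r hr =>
          rcases hr with rfl | rfl | rfl
          · refine commutatorElement_eq_one_iff_mul_comm.1 ?_
            rw [← map_commutatorElement, hk]
            exact (QuotientGroup.eq_one_iff _).2 (pow_mem hZ k)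
          · exact h.wy.symm.map π
          · exact h.yu.map π
        | one => simp
        | mul a b _ _ iha ihb => rw [map_mul]; exact iha.mul_right ihb
        | inv a _ iha => rw [map_inv]; exact iha.inv_right
      · rw [show π ⁅w, u⁆ = 1 from (QuotientGroup.eq_one_iff _).2 hZ]; exact Commute.one_left _
    | one => simp
    | mul a b _ _ iha ihb => rw [map_mul]; exact iha.mul_left ihb
    | inv a _ iha => rw [map_inv]; exact iha.inv_left
  have hπu : ∀ g, Commute (π u) (π g) := fun g => commutatorElement_eq_one_iff_mul_comm.1 (by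
    rw [← map_commutatorElement]; exact (QuotientGroup.eq_one_iff _).2 (hu2 g))
  have hφu2 : ∀ g, Commute (π (φ u)) (π g) := fun g => commutatorElement_eq_one_iff_mul_comm.1 (by
    rw [← map_commutatorElement, ← φ.apply_symm_apply g, ← map_commutatorElement φ]
    refine (QuotientGroup.eq_one_iff _).2 (Subgroup.mem_center_iff.2 fun r => ?_)
    obtain ⟨r, rfl⟩ := φ.surjective r
    rw [← map_mul, ← map_mul, Subgroup.mem_center_iff.1 (hu2 _) r])
  have hy1 : ∀ q : ℕ, π ⁅w, e⁆ ^ q = 1 → p ∣ q := fun q hq => by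
    rw [← map_pow] at hq
    have hq' := Subgroup.mem_center_iff.1 ((QuotientGroup.eq_one_iff _).1 hq) e
    have hflip : ∀ g, Commute ⁅e, ⁅w, e⁆⁆ g := fun g => by
      rw [← commutatorElement_inv, hk]; exact ((h.zc g).pow_left k).inv_left
    have h1 := comm_pow_right hflip q
    rw [commutatorElement_eq_one_iff_mul_comm.2 hq', ← commutatorElement_inv ⁅w, e⁆ e, hk, inv_pow,
      eq_comm, inv_eq_one, ← pow_mul] at h1
    have := orderOf_dvd_of_pow_eq_one h1
    rw [orderOf_eq_prime h.zp h.zne] at this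
    exact (hp.out.dvd_mul.1 this).resolve_left hk'
  have hπwe : ∀ g, Commute ⁅π w, π e⁆ g := fun g => by
    obtain ⟨g, rfl⟩ := QuotientGroup.mk'_surjective _ g
    rw [← map_commutatorElement]
    exact hy2 _ (Subgroup.commutator_mem_commutator (Subgroup.mem_top w) (Subgroup.mem_top e)) g
  have hrest : ∀ g, Commute (π (e ^ i * w ^ b)) (π g) := fun g => by
    have h1 := (hφu2 g).mul_left (((hπu g).pow_left c).mul_left (hy2 n' hn' g)).inv_left
    rw [hφu] at h1
    simp only [map_mul, map_pow] at h1 ⊢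
    rwa [mul_assoc (π e ^ i * π w ^ b), mul_inv_cancel_right] at h1
  have hbp : p ∣ b := hy1 b (by
    have h1 := commutatorElement_eq_one_iff_mul_comm.2 (hrest e).eq
    simp only [map_mul, map_pow] at h1
    have e1 : ⁅π e ^ i * π w ^ b, π e⁆ = π e ^ i * ⁅π w ^ b, π e⁆ * (π e ^ i)⁻¹ := by
      simp only [commutatorElement_def]; group
    rw [e1] at h1
    have h2 : ⁅π w ^ b, π e⁆ = 1 := by simpa using conj_eq_one_iff.1 h1
    have h3 := comm_pow_pow (m := 1) (n := 1) (a := π w) (b := π e) hπwe (Commute.one_left _)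
      (Commute.one_right _) (Commute.one_left _) b 1
    rw [mul_one, pow_one, mul_one, mul_one, h2, ← map_commutatorElement] at h3
    exact h3.symm)
  have hip : p ∣ i := hy1 i (by
    have h1 := commutatorElement_eq_one_iff_mul_comm.2 (hrest w).symm.eq
    simp only [map_mul, map_pow] at h1
    have h2 : ⁅π w, π e ^ i⁆ = 1 := by
      rw [show ⁅π w, π e ^ i * π w ^ b⁆ = ⁅π w, π e ^ i⁆ * (π e ^ i * ⁅π w, π w ^ b⁆ * (π e ^ i)⁻¹) by
        simp only [commutatorElement_def]; group,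
        commutatorElement_eq_one_iff_mul_comm.2 ((Commute.refl (π w)).pow_right b).eq, mul_one,
        mul_inv_cancel, mul_one] at h1
      exact h1
    rw [comm_pow_right hπwe, ← map_commutatorElement] at h2
    exact h2)
  obtain ⟨i, rfl⟩ := hip
  obtain ⟨b, rfl⟩ := hbp
  refine ⟨a, c, w ^ j * u ^ l * n, (u ^ c)⁻¹ * (e ^ (p * i) * w ^ (p * b)) * u ^ c * n', ?_, ?_,
    mul_mem ?_ hn', ?_⟩
  · exact fun t ht => (((h.center_of_mem ht).1.pow_left j).mul_left
      ((h.center_of_mem ht).2.pow_left l)).mul_left (h.derived_comm hn ht)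
  · rw [hφe]; group
  · simpa using (inferInstance : (commutator G).Normal).conj_mem _
      (mul_mem (pow_mul e p i ▸ pow_mem (h.pow_mem_derived e) i)
        (pow_mul w p b ▸ pow_mem (h.pow_mem_derived w) b)) (u ^ c)⁻¹
  · rw [hφu]; group

theorem fixed_mod_frattini (hG : IsPGroup p G) (h3 : p = 3) (φ : G ≃* G) : u⁻¹ * φ u ∈ frattini G := by
  obtain ⟨a, c, me, nu, hme, hφe, hnu, hφu⟩ := h.exists_weights φ
  obtain ⟨hc, hc0⟩ := h.weight hme hφe hnu hφu
  subst h3
  have hc1 : (c : ZMod 3) = 1 := by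
    rw [hc] at hc0 ⊢
    exact ZMod.pow_card_sub_one_eq_one fun e => hc0 (by rw [e]; simp)
  have hN : u⁻¹ * φ u ∈ commutator G := by
    rw [← Nat.cast_one, ZMod.natCast_eq_natCast_iff'] at hc1
    obtain ⟨d, hd⟩ : ∃ d, c = 3 * d + 1 := ⟨c / 3, by omega⟩
    rw [hφu, hd, pow_succ']
    simp only [mul_assoc, inv_mul_cancel_left]
    exact mul_mem (pow_mul u 3 d ▸ pow_mem (h.pow_mem_derived u) d) hnu
  exact Grp.pGroup_commutator_le_frattini hG hN

end CfgC

section maxclass

variable {G : Type*} [Group G] [Finite G] {p : ℕ} [hp : Fact p.Prime]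

theorem Ck_two (hm : MaxCl G p 5) : Ck G 2 = Ck G 1 := by
  by_contra hne
  obtain ⟨k, hk⟩ := Cfsg.Agent.Fus.MCDeg.even_of_exceptional hm le_rfl hne
  omega

/-- An action on one element of a factor is an action on the factor. -/
theorem act_of_elem {n : ℕ} (hm : MaxCl G p n) (φ : G ≃* G) {k : ℕ} (h1 : 1 ≤ k) {a : G}
    (ha : a ∈ lc G k) (ha' : a ∉ lc G (k + 1)) {ε : ℤ} (h : φ a * (a ^ ε)⁻¹ ∈ lc G (k + 1)) :
    Act φ k ε := by
  set π := QuotientGroup.mk' (lc G (k + 1))
  have key : π (φ a) = π a ^ ε := by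
    rw [← map_zpow, ← mul_inv_eq_one, ← map_inv, ← map_mul]
    exact (QuotientGroup.eq_one_iff _).2 h
  intro b hb
  rw [← sup_zpowers hm h1 ha ha'] at hb
  obtain ⟨w, hw, _, ⟨i, rfl⟩, rfl⟩ := Subgroup.mem_sup_of_normal_left.1 hb
  refine (QuotientGroup.eq_one_iff _).1 ?_
  show π _ = 1
  have hw1 : π w = 1 := (QuotientGroup.eq_one_iff _).2 hw
  have hw2 : π (φ w) = 1 := (QuotientGroup.eq_one_iff _).2 (map_lc_mem φ hw)
  simp only [map_mul, map_zpow, map_inv, key, hw1, hw2, one_mul]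
  rw [← zpow_mul, ← zpow_mul, mul_comm ε, mul_inv_cancel]

/-- The weights on a group of maximal class of order `p⁵` with nonabelian two-step centralizer. -/
theorem weight_maxcl (hm : MaxCl G p 5) {x s : G} (hx : x ∉ Ck G 1) (hs : s ∈ Ck G 1)
    (hs1 : s ∉ lc G 1) (hna : ¬ ∀ a ∈ Ck G 1, ∀ b ∈ Ck G 1, a * b = b * a) (φ : G ≃* G) {a c : ℕ}
    (hφx : φ x * (x ^ a)⁻¹ ∈ Ck G 1) (hφs : φ s * (s ^ c)⁻¹ ∈ lc G 1) :
    (c : ZMod p) = (a : ZMod p) ^ 2 ∧ (c : ZMod p) ≠ 0 ∧
      Act φ 2 (((a * a * c : ℕ)) : ℤ) ∧ Act φ 3 (((a * a * a * c : ℕ)) : ℤ) := by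
  haveI hCn : (Ck G 1).Normal := ⟨fun c hc g => by
    rw [show g * c * g⁻¹ = ⁅g, c⁆ * c by rw [commutatorElement_def]; group]
    refine mul_mem (lc_one_le_Ck 1 ?_) hc
    rw [lc, Subgroup.lowerCentralSeries_succ]
    exact Subgroup.commutator_mem_commutator (by simp) (Subgroup.mem_top c)⟩
  have hC : Ck G 1 = lc G 1 ⊔ Subgroup.zpowers s :=
    eq_sup_of_ne_top hm (lc_one_le_Ck 1) (Ck_ne_top hm le_rfl (by omega)) hs hs1
  have h0 : ∀ g, g ∈ lc G 0 := fun g => by simp [lc]
  obtain ⟨v, hv⟩ : ∃ v, v = ⁅x, s⁆ := ⟨_, rfl⟩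
  have hv1 : v ∈ lc G 1 := hv ▸ lc_step (h0 x)
  set π₂ := QuotientGroup.mk' (lc G 2)
  have hπ1 : ∀ d ∈ lc G 1, ∀ g, Commute (π₂ d) (π₂ g) := fun d hd g =>
    commutatorElement_eq_one_iff_mul_comm.1 (by
      rw [← map_commutatorElement]; exact (QuotientGroup.eq_one_iff _).2 (lc_step hd))
  have hCs : ∀ m ∈ Ck G 1, Commute (π₂ m) (π₂ s) := fun m hm' => by
    rw [hC] at hm'
    obtain ⟨d, hd, _, ⟨i, rfl⟩, rfl⟩ := Subgroup.mem_sup_of_normal_left.1 hm'
    rw [map_mul, map_zpow]
    exact (hπ1 d hd s).mul_left ((Commute.refl _).zpow_left i)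
  have hv2 : v ∉ lc G 2 := fun h => by
    -- otherwise the first term collapses
    have hxs : Commute (π₂ x) (π₂ s) := commutatorElement_eq_one_iff_mul_comm.1 (by
      rw [← map_commutatorElement, ← hv]; exact (QuotientGroup.eq_one_iff _).2 h)
    have htop : Ck G 1 ⊔ Subgroup.zpowers x = ⊤ := by
      by_contra hne
      have h1 := eq_sup_of_ne_top hm ((lc_one_le_Ck 1).trans le_sup_left) hne
        (Subgroup.mem_sup_left hs) hs1
      exact hx (hC.ge (h1.le (Subgroup.mem_sup_right (Subgroup.mem_zpowers x))))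
    have hall : ∀ g, Commute (π₂ s) (π₂ g) := fun g => by
      obtain ⟨m, hm', _, ⟨i, rfl⟩, rfl⟩ :=
        Subgroup.mem_sup_of_normal_left.1 (htop.ge (Subgroup.mem_top g))
      rw [map_mul, map_zpow]
      exact (hCs m hm').symm.mul_right (hxs.symm.zpow_right i)
    obtain ⟨w, hw, hw'⟩ := Cfsg.Agent.Grp.Uni.exists_depth hm (k := 1) le_rfl (by omega)
    refine hw' ((?_ : lc G 1 ≤ lc G 2) hw)
    conv_lhs => rw [lc, Subgroup.lowerCentralSeries_succ]
    rw [Subgroup.commutator_le]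
    intro g _ g' _
    refine (QuotientGroup.eq_one_iff _).1 ?_
    show π₂ ⁅g, g'⁆ = 1
    rw [map_commutatorElement, commutatorElement_eq_one_iff_mul_comm]
    have hgen : ∀ g : G, ∃ k : ℕ, ∃ i : ℤ, ∃ d ∈ lc G 1, π₂ g = π₂ d * π₂ s ^ k * π₂ x ^ i := by
      intro g
      obtain ⟨m, hm', _, ⟨i, rfl⟩, rfl⟩ :=
        Subgroup.mem_sup_of_normal_left.1 (htop.ge (Subgroup.mem_top g))
      rw [hC] at hm'
      obtain ⟨d, hd, w, hw, rfl⟩ := Subgroup.mem_sup_of_normal_left.1 hm'
      obtain ⟨k, rfl⟩ := (isOfFinOrder_of_finite s).mem_powers_iff_mem_zpowers.2 hw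
      exact ⟨k, i, d, hd, by rw [map_mul, map_mul, map_pow, map_zpow]⟩
    obtain ⟨k, i, d, hd, e⟩ := hgen g
    obtain ⟨k', i', d', hd', e'⟩ := hgen g'
    have hxc : Commute (π₂ x) (π₂ g') := by
      rw [e']
      exact (((hπ1 d' hd' x).symm).mul_right (hxs.pow_right k')).mul_right
        ((Commute.refl _).zpow_right i')
    rw [e]
    exact (((hπ1 d hd g').mul_left ((hall g').pow_left k)).mul_left (hxc.zpow_left i)).eq
  -- the first factor
  have hφv : φ v * (v ^ ((a * c : ℕ) : ℤ))⁻¹ ∈ lc G 2 := by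
    refine (QuotientGroup.eq_one_iff _).1 ?_
    show π₂ _ = 1
    rw [map_mul, map_inv, mul_inv_eq_one, zpow_natCast, map_pow, hv, map_commutatorElement φ,
      map_commutatorElement π₂, map_commutatorElement π₂]
    obtain ⟨m, hm', hxe⟩ : ∃ m ∈ Ck G 1, φ x = x ^ a * m := ⟨(x ^ a)⁻¹ * φ x, by
      simpa [mul_assoc] using hCn.conj_mem _ hφx (x ^ a)⁻¹, (mul_inv_cancel_left _ _).symm⟩
    obtain ⟨d, hd, hse⟩ : ∃ d ∈ lc G 1, φ s = s ^ c * d := ⟨(s ^ c)⁻¹ * φ s, by
      simpa [mul_assoc] using (inferInstance : (lc G 1).Normal).conj_mem _ hφs (s ^ c)⁻¹,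
      (mul_inv_cancel_left _ _).symm⟩
    rw [hxe, hse, map_mul, map_mul, map_pow, map_pow]
    refine comm_pow_pow (fun g => ?_) (hCs m hm') (hπ1 d hd x).symm (hπ1 d hd m).symm a c
    obtain ⟨g, rfl⟩ := QuotientGroup.mk'_surjective _ g
    rw [← map_commutatorElement, ← hv]
    exact hπ1 v hv1 g
  have a1 : Act φ 1 ((a * c : ℕ) : ℤ) := act_of_elem hm φ le_rfl hv1 hv2 hφv
  have hy : ∀ k, k = 1 ∨ k = 2 → ∀ w ∈ lc G k, ⁅w, φ x * (x ^ (a : ℤ))⁻¹⁆ ∈ lc G (k + 2) := by
    rintro k (rfl | rfl) w hw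
    · exact mem_Ck.1 (by rwa [zpow_natCast]) w hw
    · exact mem_Ck.1 (by rw [zpow_natCast, Ck_two hm]; exact hφx) w hw
  have step : ∀ k, k = 1 ∨ k = 2 → ∀ ε, Act φ k ε → Act φ (k + 1) (ε * (a : ℤ)) := by
    intro k hk ε hε
    obtain ⟨w, hw, hw'⟩ := Cfsg.Agent.Grp.Uni.exists_depth hm (k := k) (by omega) (by omega)
    refine act_step hm φ hw (hε w hw) (hy k hk) fun h => ?_
    have := mem_Ck_of_depth hm (by omega) hw hw' h
    rcases hk with rfl | rfl
    · exact hx this
    · exact hx (Ck_two hm ▸ this)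
  have a2 : Act φ 2 ((a * a * c : ℕ) : ℤ) := by
    have h2 := step 1 (Or.inl rfl) _ a1
    rwa [show ((a * c : ℕ) : ℤ) * (a : ℤ) = ((a * a * c : ℕ) : ℤ) by push_cast; ring] at h2
  have a3 : Act φ 3 ((a * a * a * c : ℕ) : ℤ) := by
    have h2 := step 2 (Or.inr rfl) _ a2
    rwa [show ((a * a * c : ℕ) : ℤ) * (a : ℤ) = ((a * a * a * c : ℕ) : ℤ) by push_cast; ring] at h2
  -- the commutator inside the two-step centralizer
  have h4 : lc G 4 = ⊥ := lc_eq_bot hm le_rfl
  have hCl2 : ∀ m ∈ Ck G 1, ∀ w ∈ lc G 2, Commute m w := fun m hm' w hw => by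
    have h := mem_Ck.1 ((Ck_two hm).ge hm') w hw
    rw [h4, Subgroup.mem_bot] at h
    exact (commutatorElement_eq_one_iff_mul_comm.1 h : w * m = m * w).symm
  have hl1 : ∀ d ∈ lc G 1, ∀ d' ∈ lc G 1, Commute d d' := by
    intro d hd d' hd'
    rw [← sup_zpowers hm le_rfl hv1 hv2] at hd hd'
    obtain ⟨w, hw, _, ⟨i, rfl⟩, rfl⟩ := Subgroup.mem_sup_of_normal_left.1 hd
    obtain ⟨w', hw', _, ⟨j, rfl⟩, rfl⟩ := Subgroup.mem_sup_of_normal_left.1 hd'
    have hvw : ∀ w ∈ lc G 2, Commute v w := fun w hw => hCl2 v (lc_one_le_Ck 1 hv1) w hw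
    have hww : Commute w w' := hCl2 w (lc_one_le_Ck 1 (lc_anti (by omega) hw)) w' hw'
    exact ((hww.mul_right ((hvw w hw).symm.zpow_right j))).mul_left
      (((hvw w' hw').zpow_left i).mul_right (Commute.zpow_zpow_self v i j))
  obtain ⟨z, hzdef⟩ : ∃ z, z = ⁅s, v⁆ := ⟨_, rfl⟩
  have hsv : z ≠ 1 := fun h => by
    refine hna fun g hg g' hg' => ?_
    have hsv : Commute s v := commutatorElement_eq_one_iff_mul_comm.1 (hzdef ▸ h)
    have hsl : ∀ d ∈ lc G 1, Commute s d := fun d hd => by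
      rw [← sup_zpowers hm le_rfl hv1 hv2] at hd
      obtain ⟨w, hw, _, ⟨i, rfl⟩, rfl⟩ := Subgroup.mem_sup_of_normal_left.1 hd
      exact (hCl2 s hs w hw).mul_right (hsv.zpow_right i)
    rw [hC] at hg hg'
    obtain ⟨d, hd, _, ⟨i, rfl⟩, rfl⟩ := Subgroup.mem_sup_of_normal_left.1 hg
    obtain ⟨d', hd', _, ⟨j, rfl⟩, rfl⟩ := Subgroup.mem_sup_of_normal_left.1 hg'
    exact (((hl1 d hd d' hd').mul_right ((hsl d hd).symm.zpow_right j)).mul_left
      (((hsl d' hd').zpow_left i).mul_right (Commute.zpow_zpow_self s i j))).eq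
  have hz3 : z ∈ lc G 3 := by
    rw [hzdef, ← commutatorElement_inv]
    exact inv_mem (mem_Ck.1 hs v hv1)
  have hzc : ∀ g, Commute z g := fun g =>
    ((Subgroup.mem_center_iff.1 (lc_two_le_center hm hz3) g : g * z = z * g)).symm
  have hzp : z ^ p = 1 := by
    have hc := card_lc hm (k := 3) (by omega)
    have h := pow_card_eq_one' (x := (⟨z, hz3⟩ : lc G 3))
    rw [hc, show 5 - 1 - 3 = 1 from rfl, pow_one] at h
    exact congrArg Subtype.val h
  have hφz : φ z = z ^ (c * (a * c)) := by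
    obtain ⟨d, hd, hse⟩ : ∃ d ∈ lc G 1, φ s = s ^ c * d := ⟨(s ^ c)⁻¹ * φ s, by
      simpa [mul_assoc] using (inferInstance : (lc G 1).Normal).conj_mem _ hφs (s ^ c)⁻¹,
      (mul_inv_cancel_left _ _).symm⟩
    obtain ⟨l, hl, hve⟩ : ∃ l ∈ lc G 2, φ v = v ^ (a * c) * l := ⟨(v ^ (a * c))⁻¹ * φ v, by
      have := (inferInstance : (lc G 2).Normal).conj_mem _ hφv (v ^ (a * c))⁻¹
      rw [zpow_natCast] at this
      simpa [mul_assoc] using this, (mul_inv_cancel_left _ _).symm⟩
    rw [hzdef, map_commutatorElement φ, hse, hve]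
    exact comm_pow_pow (fun g => by rw [← hzdef]; exact hzc g) (hl1 d hd v hv1) (hCl2 s hs l hl)
      (hl1 d hd l (lc_anti (by omega) hl)) _ _
  have e3 := a3 z hz3
  rw [show lc G (3 + 1) = ⊥ from h4, Subgroup.mem_bot, mul_inv_eq_one, zpow_natCast, hφz] at e3
  have e1 := mul_self_pow_eq (p := p) hzp hsv e3
  push_cast at e1
  have hne : ((c : ZMod p) * ((a : ZMod p) * c)) ≠ 0 := by
    intro h0
    have : φ z = 1 := by
      rw [hφz, ← orderOf_dvd_iff_pow_eq_one, orderOf_eq_prime hzp hsv, ← ZMod.natCast_eq_zero_iff]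
      exact_mod_cast h0
    exact hsv (φ.injective (this.trans (map_one φ).symm))
  have hc0 := left_ne_zero_of_mul hne
  have ha0 := left_ne_zero_of_mul (right_ne_zero_of_mul hne)
  refine ⟨mul_left_cancel₀ (mul_ne_zero ha0 hc0) (by linear_combination e1), hc0, a2, a3⟩

theorem not_mem_frattini_maxcl (hm : MaxCl G p 5) {s : G} (hs1 : s ∉ lc G 1) :
    s ∉ frattini G := by
  refine fun h => hs1 ?_
  rw [lc, Subgroup.top_lowerCentralSeries_one]
  refine Grp.frattini_le_of_elementary hp.out le_rfl (fun g => ?_) h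
  have hlc : lc G 1 = commutator G := by rw [lc, Subgroup.top_lowerCentralSeries_one]
  rw [← hlc]
  by_contra hg
  have hg1 : g ∉ lc G 1 := fun h => hg (pow_mem h p)
  have hidx := lc_index hm (k := 1) le_rfl (by omega)
  have hq : Nat.card (G ⧸ lc G 1) = p ^ 2 := by rw [← Subgroup.index_eq_card, hidx]
  have hnc : ¬ IsCyclic (G ⧸ lc G 1) := fun hc => by
    haveI : Group.IsNilpotent G := (IsPGroup.of_card hm.card).isNilpotent
    obtain ⟨q, hq'⟩ := hc.exists_generator
    obtain ⟨r, rfl⟩ := QuotientGroup.mk'_surjective _ q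
    have htop : Subgroup.zpowers r = ⊤ := frattini_nongenerating (top_le_iff.1 (by
      intro t _
      obtain ⟨i, hi⟩ := hq' (QuotientGroup.mk' (lc G 1) t)
      rw [← mul_inv_cancel_left (r ^ i) t]
      refine mul_mem (Subgroup.mem_sup_left ⟨i, rfl⟩) (Subgroup.mem_sup_right ?_)
      refine (hlc.le.trans (Grp.pGroup_commutator_le_frattini (IsPGroup.of_card hm.card))) ?_
      refine QuotientGroup.eq.1 ?_
      show QuotientGroup.mk' (lc G 1) (r ^ i) = QuotientGroup.mk' (lc G 1) t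
      rw [map_zpow]; exact hi))
    haveI : IsCyclic G := ⟨⟨r, fun t => htop.ge (Subgroup.mem_top t)⟩⟩
    letI := IsCyclic.commGroup (α := G)
    exact center_ne_top hm (eq_top_iff.2 fun t _ => Subgroup.mem_center_iff.2 fun t' => mul_comm t' t)
  refine hg ((QuotientGroup.eq_one_iff _).1 ?_)
  show QuotientGroup.mk' (lc G 1) (g ^ p) = 1
  rw [map_pow]
  generalize QuotientGroup.mk' (lc G 1) g = q
  by_contra hq1
  refine hnc (isCyclic_of_orderOf_eq_card q ?_)
  rw [hq]
  refine orderOf_eq_prime_pow (n := 1) (p := p) (by simpa using hq1) ?_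
  rw [← hq]
  exact pow_card_eq_one'

theorem fixed_maxcl (hm : MaxCl G p 5) (h3 : p = 3) {x s : G} (hx : x ∉ Ck G 1) (hs : s ∈ Ck G 1)
    (hs1 : s ∉ lc G 1) (hna : ¬ ∀ a ∈ Ck G 1, ∀ b ∈ Ck G 1, a * b = b * a) (φ : G ≃* G) :
    s⁻¹ * φ s ∈ frattini G := by
  haveI hCn : (Ck G 1).Normal := ⟨fun c hc g => by
    rw [show g * c * g⁻¹ = ⁅g, c⁆ * c by rw [commutatorElement_def]; group]
    refine mul_mem (lc_one_le_Ck 1 ?_) hc
    rw [lc, Subgroup.lowerCentralSeries_succ]
    exact Subgroup.commutator_mem_commutator (by simp) (Subgroup.mem_top c)⟩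
  have htop : Ck G 1 ⊔ Subgroup.zpowers x = ⊤ := by
    by_contra hne
    have h1 := eq_sup_of_ne_top hm ((lc_one_le_Ck 1).trans le_sup_left) hne
      (Subgroup.mem_sup_left hs) hs1
    exact hx ((eq_sup_of_ne_top hm (lc_one_le_Ck 1) (Ck_ne_top hm le_rfl (by omega)) hs hs1).ge
      (h1.le (Subgroup.mem_sup_right (Subgroup.mem_zpowers x))))
  obtain ⟨m, hm', w, hw, e⟩ := Subgroup.mem_sup_of_normal_left.1 (htop.ge (Subgroup.mem_top (φ x)))
  obtain ⟨a, rfl⟩ := (isOfFinOrder_of_finite x).mem_powers_iff_mem_zpowers.2 hw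
  have hφC := map_Ck_mem φ hs
  rw [eq_sup_of_ne_top hm (lc_one_le_Ck 1) (Ck_ne_top hm le_rfl (by omega)) hs hs1] at hφC
  obtain ⟨d, hd, w', hw', e'⟩ := Subgroup.mem_sup_of_normal_left.1 hφC
  obtain ⟨c, rfl⟩ := (isOfFinOrder_of_finite s).mem_powers_iff_mem_zpowers.2 hw'
  beta_reduce at e e'
  obtain ⟨hc, hc0, -⟩ := weight_maxcl hm hx hs hs1 hna φ (a := a) (c := c)
    (by rw [← e, mul_inv_cancel_right]; exact hm') (by rw [← e', mul_inv_cancel_right]; exact hd)
  subst h3
  have hc1 : (c : ZMod 3) = 1 := by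
    rw [hc] at hc0 ⊢
    exact ZMod.pow_card_sub_one_eq_one fun e => hc0 (by rw [e]; simp)
  rw [← Nat.cast_one, ZMod.natCast_eq_natCast_iff'] at hc1
  have hΦ : lc G 1 ≤ frattini G := by
    rw [lc, Subgroup.top_lowerCentralSeries_one]
    exact Grp.pGroup_commutator_le_frattini (IsPGroup.of_card hm.card)
  obtain ⟨q, hq⟩ : ∃ q, c = 3 * q + 1 := ⟨c / 3, by omega⟩
  rw [← e', hq, pow_succ, show s⁻¹ * (d * (s ^ (3 * q) * s)) = s⁻¹ * d * s * s ^ (3 * q) by
    rw [← pow_succ, pow_succ']; group]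
  refine mul_mem (hΦ ?_) (pow_mul s 3 q ▸ pow_mem
    (Grp.pGroup_pow_mem_frattini (IsPGroup.of_card hm.card) s) q)
  simpa using (inferInstance : (lc G 1).Normal).conj_mem _ hd s⁻¹

end maxclass

end Cfsg.Agent.Fus.OrdFive
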