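import Mathlib
import Cfsg.Agent.Lib.Fus.OrdFive.Group
import Cfsg.Agent.Lib.Fus.OrdFive.Auto
import Cfsg.Agent.Lib.Fus.EssentialFour
import Cfsg.Agent.Lib.Fus.RankTwoExtra
import Cfsg.Agent.Lib.Fus.MaxClassExtend

/-!
Nonabelian essential subgroups of order `p⁴` in a group of order `p⁵` without abelian subgroups
of index `p`.
-/

set_option autoImplicit false
set_option linter.unusedSectionVars false
set_option linter.style.haveILetI false

universe u

namespace Cfsg.Agent.Fus.OrdFive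

open Cfsg FusionSystem TorusExt RankTwoAut Invol.CubicStable
open Cfsg.Agent.Fus.RankTwo (restrictChar act_dg act_up exists_coord coord_cast)
open Grp.SL2 (up low up_mul up_pow up_zero)
open scoped commutatorElement

/-- No subgroup of index `p` is abelian. -/
def NoA (S : Type*) [Group S] (p : ℕ) : Prop :=
  ∀ A : Subgroup S, A.index = p → ¬ ∀ a ∈ A, ∀ b ∈ A, a * b = b * a

variable {Ω : Type u} [Group Ω] {S : Subgroup Ω} [Finite S] {p : ℕ} [hp : Fact p.Prime]
  {F : FusionSystem S}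

/-- The subgroup generated by the displacements of the automorphisms of `S`. -/
def moved (F : FusionSystem S) : Subgroup Ω :=
  Subgroup.closure {w | ∃ φ ∈ F.autGroup S, ∃ y ∈ S, w = y⁻¹ * autFun φ y}

theorem mem_moved {φ : MulAut S} (hφ : φ ∈ F.autGroup S) (y : S) :
    (y : Ω)⁻¹ * (φ y : S) ∈ moved F :=
  Subgroup.subset_closure ⟨φ, hφ, y, y.2, by rw [autFun_coe]⟩

theorem comm_mem_moved (a b : S) : ((⁅a, b⁆ : S) : Ω) ∈ moved F := by
  have h := mem_moved (F := F) (inn_le_autGroup F le_rfl ⟨a, rfl⟩) b⁻¹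
  rw [MulAut.conj_apply] at h
  have h2 := (moved F).inv_mem h
  convert h2 using 1
  simp [commutatorElement_def, mul_assoc]

/-- The data of a nonabelian essential subgroup of order `p⁴`: `y = ⁅x₀, eh⁆`, and an automorphism
`t` inverting modulo the centre. -/
structure MaxData (F : FusionSystem S) (p : ℕ) (E : Subgroup Ω) (hES : E ≤ S) (x₀ : S) (eh y : E)
    (t : MulAut E) : Prop where
  card_frat : Nat.card (frattini E) = p
  frat_le : frattini E ≤ Subgroup.center E
  card_center : Nat.card (Subgroup.center E) = p ^ 2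
  comm : ∀ a b : E, ⁅a, b⁆ ∈ frattini E
  not_mem : x₀ ∉ E.subgroupOf S
  gen : ∀ T : Subgroup S, x₀ ∈ T → E.subgroupOf S ≤ T → T = ⊤
  y_eq : Subgroup.inclusion hES y = ⁅x₀, Subgroup.inclusion hES eh⁆
  y_eh : y * eh ≠ eh * y
  y_fix : ∃ dy ∈ Subgroup.center E,
    ⁅x₀, Subgroup.inclusion hES y⁆ = Subgroup.inclusion hES dy
  dec : ∀ b : E, ∃ a c : ℕ, ∃ z ∈ Subgroup.center E, b = y ^ a * eh ^ c * z
  frat_cen : ∀ w ∈ frattini E, ∀ s : S, Commute s (Subgroup.inclusion hES w)
  cen_step : ∀ z ∈ Subgroup.center E, ∀ s : S,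
    ∃ w ∈ frattini E, ⁅s, Subgroup.inclusion hES z⁆ = Subgroup.inclusion hES w
  torus : ∀ μ : ZMod p, μ ≠ 0 → ∃ φ ∈ F.autGroup S,
    (∀ z ∈ Subgroup.center E, φ (Subgroup.inclusion hES z) = Subgroup.inclusion hES z) ∧
    ∃ z ∈ Subgroup.center E, φ (Subgroup.inclusion hES eh) =
      Subgroup.inclusion hES (eh ^ μ.val * z)
  inv_mod : ∀ b : E, b * t b ∈ Subgroup.center E
  inv_comm : ∀ α ∈ F.autGroup E, ∀ b : E, ∃ q : E, α (t b) = q * t (α b) * q⁻¹
  inv_ext : ∃ φ ∈ F.autGroup S, (∀ b, φ (Subgroup.inclusion hES b) = Subgroup.inclusion hES (t b)) ∧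
    (∀ z ∈ Subgroup.center E, t z = z) ∧ φ x₀ * x₀⁻¹ ∈ E.subgroupOf S

set_option maxHeartbeats 1000000 in
/-- A nonabelian essential subgroup of order `p⁴` has such data. -/
theorem exists_maxData (hS : IsPGroup p S) (hF : F.IsSaturated p) (h5 : Nat.card S = p ^ 5)
    (hNA : NoA S p) {E : Subgroup Ω} (hE : F.IsEssential p E) (h4 : Nat.card E = p ^ 4) :
    ∃ (x₀ : S) (eh y : E) (t : MulAut E), MaxData F p E hE.1.1 x₀ eh y t := by
  classical
  have hpp := hp.out
  have hES : E ≤ S := hE.1.1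
  haveI := finite_of_le hES
  haveI : Finite (MulAut E) :=
    Finite.of_injective (fun e : MulAut E => (e : E → E)) DFunLike.coe_injective
  have hEidx : (E.subgroupOf S).index = p := by
    have h := (E.subgroupOf S).card_mul_index
    rw [Nat.card_congr (Subgroup.subgroupOfEquivOfLe hES).toEquiv, h4, h5, pow_succ p 4] at h
    exact Nat.eq_of_mul_eq_mul_left (pow_pos hpp.pos 4) h
  obtain ⟨ι, hιdef⟩ : ∃ ι : E →* S, ι = Subgroup.inclusion hES := ⟨_, rfl⟩
  have hιc : ∀ a : E, ((ι a : S) : Ω) = a := fun a => by rw [hιdef]; rfl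
  have hιmem : ∀ s : S, s ∈ E.subgroupOf S → ∃ a : E, ι a = s := fun s hs =>
    ⟨⟨s, hs⟩, Subtype.ext (hιc _)⟩
  have hna : ¬ ∀ a b : E, a * b = b * a := fun h => hNA (E.subgroupOf S) hEidx fun a ha b hb => by
    obtain ⟨a, rfl⟩ := hιmem a ha
    obtain ⟨b, rfl⟩ := hιmem b hb
    rw [← map_mul, h, map_mul]
  have hΦ := EssFour.card_frattini hS hE h4 hna
  obtain ⟨hΦZ, hZc, hZi, a₀, b₀, hab₀, -⟩ := EssFour.exists_frame_four h4 hna hΦ
  have hEp : IsPGroup p E := hS.to_le hES
  haveI : Group.IsNilpotent E := hEp.isNilpotent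
  have hcomm : ∀ a b : E, ⁅a, b⁆ ∈ frattini E := fun a b =>
    Grp.pGroup_commutator_le_frattini hEp
      (Subgroup.commutator_mem_commutator (Subgroup.mem_top a) (Subgroup.mem_top b))
  have hΦgen : ∀ {a b : E}, a * b ≠ b * a → Subgroup.zpowers ⁅a, b⁆ = frattini E := fun {a b} hab => by
    refine Subgroup.eq_of_le_of_card_ge (Subgroup.zpowers_le.2 (hcomm a b)) ?_
    have hd : orderOf ⁅a, b⁆ ∣ p := by
      have := orderOf_dvd_natCard (⟨_, hcomm a b⟩ : frattini E)
      rwa [hΦ, Subgroup.orderOf_mk] at this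
    rw [hΦ, Nat.card_zpowers]
    rcases (Nat.dvd_prime hpp).1 hd with h | h
    · exact absurd (commutatorElement_eq_one_iff_mul_comm.1 (orderOf_eq_one_iff.1 h)) hab
    · rw [h]
  set Z := Subgroup.center E
  -- the action on the quotient by the centre
  set r : F.autGroup E →* MulAut (E ⧸ Z) :=
    (RankTwo.Frame.quotAut E).comp (F.autGroup E).subtype
  have hr : ∀ (g : F.autGroup E) (a : E), r g (QuotientGroup.mk' Z a) =
      QuotientGroup.mk' Z ((g : MulAut E) a) := fun _ _ => rfl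
  have hchar : ∀ (g : MulAut E) {z : E}, z ∈ Z → g z ∈ Z := fun g z hz =>
    ((inferInstance : Z.Characteristic).fixed g).ge hz
  have hcharΦ : ∀ (g : MulAut E) {z : E}, z ∈ frattini E → g z ∈ frattini E := fun g z hz =>
    ((inferInstance : (frattini E).Characteristic).fixed g).ge hz
  let S1 : Subgroup (F.autGroup E) :=
    { carrier := {g | (∀ z ∈ Z, z⁻¹ * (g : MulAut E) z ∈ frattini E) ∧
        ∀ w ∈ frattini E, (g : MulAut E) w = w}
      one_mem' := ⟨fun z _ => by simp, fun w _ => rfl⟩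
      mul_mem' := fun {g g'} hg hg' => ⟨fun z hz => by
        have h := mul_mem (hg'.1 z hz) (hg.1 _ (hchar g' hz))
        rwa [mul_assoc, mul_inv_cancel_left] at h, fun w hw => by
        show (g : MulAut E) ((g' : MulAut E) w) = w
        rw [hg'.2 w hw, hg.2 w hw]⟩
      inv_mem' := fun {g} hg => ⟨fun z hz => by
        have h := inv_mem (hg.1 _ (hchar (g : MulAut E)⁻¹ hz))
        rw [MulAut.apply_inv_self, mul_inv_rev, inv_inv] at h
        exact h, fun w hw => by
        show (g : MulAut E)⁻¹ w = w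
        conv_lhs => rw [← hg.2 w hw]
        exact MulAut.inv_apply_self _ _ _⟩ }
  haveI hS1n : S1.Normal := ⟨fun g hg h => ⟨fun z hz => by
    have e := hcharΦ (h : MulAut E) (hg.1 _ (hchar (h : MulAut E)⁻¹ hz))
    rw [map_mul, map_inv, MulAut.apply_inv_self] at e
    exact e, fun w hw => by
    show (h : MulAut E) ((g : MulAut E) ((h : MulAut E)⁻¹ w)) = w
    rw [hg.2 _ (hcharΦ _ hw), MulAut.apply_inv_self]⟩⟩
  have hK1 : pElts F p E ≤ S1 := by
    refine (Subgroup.closure_le _).2 ?_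
    rintro g ⟨k, hk⟩
    have hk' : (g : MulAut E) ^ p ^ k = 1 := by rw [← SubmonoidClass.coe_pow, hk]; rfl
    constructor
    · intro z hz
      have hidx : ((frattini E).subgroupOf Z).index ∣ p := by
        have h := ((frattini E).subgroupOf Z).card_mul_index
        rw [Nat.card_congr (Subgroup.subgroupOfEquivOfLe hΦZ).toEquiv, hΦ, hZc, sq] at h
        rw [Nat.eq_of_mul_eq_mul_left hpp.pos h]
      have hmap : ((frattini E).subgroupOf Z).map (restrictChar Z (g : MulAut E)).toMonoidHom =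
          (frattini E).subgroupOf Z := by
        refine Subgroup.eq_of_le_of_card_ge ?_
          (Subgroup.card_map_of_injective (restrictChar Z (g : MulAut E)).injective).ge
        rintro _ ⟨w, hw, rfl⟩
        exact hcharΦ _ hw
      exact pElt_trivial (P := ↥Z) hidx hmap (k := k) (by rw [← map_pow, hk', map_one]) ⟨z, hz⟩
    · intro w hw
      have hw' := pElt_trivial (P := ↥(frattini E)) (W := (⊥ : Subgroup ↥(frattini E)))
        (by rw [Subgroup.index_bot, hΦ]) (g := restrictChar (frattini E) (g : MulAut E))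
        (Subgroup.map_bot _) (k := k) (by rw [← map_pow, hk', map_one]) ⟨w, hw⟩
      rw [Subgroup.mem_bot] at hw'
      exact (congrArg Subtype.val (inv_mul_eq_one.1 hw')).symm
  have hker : ∀ g : F.autGroup E, r g = 1 → g ∈ S1 → (g : MulAut E) ∈ Inn E := by
    have hp0 : IsPGroup p ↥(r.ker ⊓ S1) := by
      intro g
      obtain ⟨U, hU⟩ : ∃ U : ℕ → Subgroup E, U = fun j =>
          if j = 0 then ⊤ else if j = 1 then Z else if j = 2 then frattini E else ⊥ := ⟨_, rfl⟩
      have h0 : U 0 = ⊤ := by simp [hU]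
      have h1 : U 1 = Z := by simp [hU]
      have h2 : U 2 = frattini E := by simp [hU]
      have h3 : ∀ j, U (j + 3) = ⊥ := fun j => by simp [hU]
      obtain ⟨k, hk⟩ := SelfAut.exists_pow_eq_one_of_stable (p := p) h4 U (r := 3) h0 (h3 0)
        (fun j => by
          match j with
          | 0 => rw [h0]; exact le_top
          | 1 => rw [h1, h2]; exact hΦZ
          | j + 2 => rw [h3]; exact bot_le)
        (α := ((g : F.autGroup E) : MulAut E)) (fun j => by
          match j with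
          | 0 =>
            intro a _
            rw [h1]
            have h : r g.1 (QuotientGroup.mk' Z a) = QuotientGroup.mk' Z a := by
              rw [MonoidHom.mem_ker.1 g.2.1]; rfl
            rw [hr] at h
            have e := (inferInstance : Z.Normal).conj_mem _ (QuotientGroup.eq.1 h.symm) a
            simpa [mul_assoc] using e
          | 1 =>
            intro a ha
            rw [h1] at ha
            rw [h2]
            have e := (inferInstance : (frattini E).Normal).conj_mem _ (g.2.2.1 a ha) a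
            simpa [mul_assoc] using e
          | 2 =>
            intro a ha
            rw [h2] at ha
            rw [h3 0, Subgroup.mem_bot, g.2.2.2 a ha, mul_inv_cancel]
          | j + 3 =>
            intro a ha
            rw [h3, Subgroup.mem_bot] at ha
            simp [ha])
      exact ⟨k, Subtype.ext (Subtype.ext (by simpa using hk))⟩
    intro g h1 h2
    rw [← (radical_of_essential hS hE).2]
    exact ⟨g, Grp.le_pCore inferInstance hp0 ⟨MonoidHom.mem_ker.2 h1, h2⟩, rfl⟩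
  -- an element outside
  obtain ⟨x₀, hx₀⟩ : ∃ x₀ : S, x₀ ∉ E.subgroupOf S := by
    by_contra hcon
    push Not at hcon
    rw [(eq_top_iff.2 fun s _ => hcon s : E.subgroupOf S = ⊤), Subgroup.index_top] at hEidx
    exact hpp.ne_one hEidx.symm
  haveI hEn : (E.subgroupOf S).Normal :=
    Subgroup.normal_of_index_eq_minFac_card (by
      rw [hEidx, h5, Nat.Prime.pow_minFac hpp (by norm_num)])
  have hEnorm : ∀ s : S, (s : Ω) ∈ Subgroup.normalizer (E : Set Ω) := fun s =>
    Fus.mem_normalizer_of_forall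
      (fun a ha => hEn.conj_mem ⟨a, hES ha⟩ ha s)
      fun a ha => by
        have h := hEn.conj_mem ⟨a, hES ha⟩ ha s⁻¹
        simpa [Subgroup.mem_subgroupOf] using h
  have hN : normalizerIn S E = S := inf_eq_left.2 fun s hs => hEnorm ⟨s, hs⟩
  let cS : S →* F.autGroup E :=
    (cj F hES).comp (Subgroup.inclusion hN.ge)
  have hcS : ∀ (s : S) (a : E), ((((cS s : F.autGroup E) : MulAut E) a : E) : Ω) =
      (s : Ω) * a * (s : Ω)⁻¹ := fun s a => rfl
  have hcι : ∀ (s : S) (a : E), ι (((cS s : F.autGroup E) : MulAut E) a) = s * ι a * s⁻¹ := fun s a =>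
    Subtype.ext (by simp only [Subgroup.coe_mul, Subgroup.coe_inv, hιc, hcS])
  have hgenS : ∀ T : Subgroup S, x₀ ∈ T → E.subgroupOf S ≤ T → T = ⊤ := fun T hxT hET => by
    refine Subgroup.index_eq_one.1 (((Nat.dvd_prime hpp).1
      (hEidx ▸ Subgroup.index_dvd_of_le hET)).resolve_right fun e => hx₀ ?_)
    have : E.subgroupOf S = T := by
      refine Subgroup.eq_of_le_of_card_ge hET ?_
      have h1 := T.card_mul_index
      have h2 := (E.subgroupOf S).card_mul_index
      rw [e] at h1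
      rw [hEidx] at h2
      exact (Nat.eq_of_mul_eq_mul_right hpp.pos (h1.trans h2.symm)).le
    rw [this]; exact hxT
  obtain ⟨k₀, hk₀⟩ := hS x₀
  have hcx : cS x₀ ^ p ^ k₀ = 1 := by rw [← map_pow, hk₀, map_one]
  have hinn : ∀ a : E, r (cS (ι a)) = 1 := fun a => by
    refine MulEquiv.ext fun q => ?_
    obtain ⟨b, rfl⟩ := QuotientGroup.mk'_surjective Z q
    rw [hr]
    refine QuotientGroup.eq.2 (hΦZ ?_)
    have e : ((cS (ι a) : F.autGroup E) : MulAut E) b = a * b * a⁻¹ :=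
      Subtype.ext (by rw [hcS, hιc]; rfl)
    rw [e, show (a * b * a⁻¹)⁻¹ * b = ⁅a, b⁻¹⁆ by simp only [commutatorElement_def]; group]
    exact hcomm _ _
  obtain ⟨-, R, hR⟩ := fullyAutomized_of_fullyNormalized hS hF hE.2.1
  obtain ⟨gg, hgg⟩ : ∃ g, r g * r (cS x₀) * (r g)⁻¹ ∉ Subgroup.zpowers (r (cS x₀)) := by
    by_contra hcon
    push Not at hcon
    set a := r (cS x₀) with ha
    have hall : ∀ s, r (cS s) ∈ Subgroup.zpowers a := fun s =>
      (hgenS ((Subgroup.zpowers a).comap (r.comp cS)) (Subgroup.mem_zpowers a) (fun s hs => by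
        obtain ⟨b, rfl⟩ := hιmem s hs
        rw [Subgroup.mem_comap, MonoidHom.comp_apply, hinn]; exact one_mem _)).ge (Subgroup.mem_top s)
    have hKn : ((Subgroup.zpowers a).comap r ⊓ S1).Normal := by
      haveI : ((Subgroup.zpowers a).comap r).Normal := ⟨fun y hy g => by
        obtain ⟨i, hi⟩ := hy
        show r (g * y * g⁻¹) ∈ Subgroup.zpowers a
        rw [map_mul, map_mul, map_inv, ← hi]
        show r g * a ^ i * (r g)⁻¹ ∈ _
        rw [← conj_zpow]
        exact Subgroup.zpow_mem _ (hcon g) i⟩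
      infer_instance
    refine not_essential_of_normal_pgroup hS hE _ hKn (fun y => ?_) fun g j hg => ?_
    · have hy : ((y : F.autGroup E) ^ p ^ k₀ : F.autGroup E) ∈ r.ker ⊓ S1 := by
        refine ⟨MonoidHom.mem_ker.2 ?_, pow_mem y.2.2 _⟩
        obtain ⟨i, hi⟩ := y.2.1
        rw [map_pow, ← hi]
        show (a ^ i) ^ p ^ k₀ = 1
        rw [← zpow_natCast, zpow_comm, zpow_natCast, ha, ← map_pow, hcx, map_one, one_zpow]
      have hI := hker _ (MonoidHom.mem_ker.1 hy.1) hy.2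
      obtain ⟨m, hm⟩ := (isPGroup_inn hEp) ⟨_, hI⟩
      refine ⟨k₀ + m, Subtype.ext (Subtype.ext ?_)⟩
      rw [pow_add, pow_mul]
      simpa using congrArg Subtype.val hm
    · obtain ⟨T, hT⟩ := (show IsPGroup p (Subgroup.zpowers g) from fun y => by
        obtain ⟨i, hi⟩ := Subgroup.mem_zpowers_iff.1 y.2
        exact ⟨j, Subtype.ext (by
          rw [SubmonoidClass.coe_pow, ← hi, ← zpow_natCast (g ^ i), zpow_comm, zpow_natCast, hg,
            one_zpow]
          rfl)⟩).exists_le_sylow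
      obtain ⟨c, hc⟩ := MulAction.exists_smul_eq (F.autGroup E) T R
      have hmem : c * g * c⁻¹ ∈ (R : Subgroup (F.autGroup E)) := by
        rw [← hc]; exact ⟨g, hT (Subgroup.mem_zpowers g), rfl⟩
      rw [hR, Subgroup.mem_subgroupOf] at hmem
      obtain ⟨y, hy⟩ := exists_cj (F := F) hES hmem
      have h1 : c * g * c⁻¹ ∈ (Subgroup.zpowers a).comap r ⊓ S1 := by
        refine ⟨?_, hS1n.conj_mem _ (hK1 (mem_pElts hg)) c⟩
        rw [SetLike.mem_coe, Subgroup.mem_toSubmonoid, Subgroup.mem_comap, ← hy]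
        exact hall ⟨y, y.2.1⟩
      have h2 := hKn.conj_mem _ h1 c⁻¹
      rwa [show c⁻¹ * (c * g * c⁻¹) * c⁻¹⁻¹ = g by group] at h2
  have hQc : Nat.card (E ⧸ Z) = p ^ 2 := by rw [← Subgroup.index_eq_card, hZi]
  have hQab : ∀ q q' : E ⧸ Z, q * q' = q' * q := by
    intro q q'
    obtain ⟨b, rfl⟩ := QuotientGroup.mk'_surjective Z q
    obtain ⟨b', rfl⟩ := QuotientGroup.mk'_surjective Z q'
    rw [← commutatorElement_eq_one_iff_mul_comm, ← map_commutatorElement]
    exact (QuotientGroup.eq_one_iff _).2 (hΦZ (hcomm b b'))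
  have hQexp : ∀ q : E ⧸ Z, q ^ p = 1 := fun q => by
    obtain ⟨b, rfl⟩ := QuotientGroup.mk'_surjective Z q
    rw [← map_pow]
    exact (QuotientGroup.eq_one_iff _).2 (hΦZ (Grp.pGroup_pow_mem_frattini hEp b))
  obtain ⟨co, s, hs, hau, -, htor⟩ := exists_lift r hQc hQab hQexp hcx ⟨gg, hgg⟩
  obtain ⟨v₀, hv₀⟩ := QuotientGroup.mk'_surjective Z (co (Multiplicative.ofAdd (Pi.single 0 1)))
  obtain ⟨eh, heh⟩ := QuotientGroup.mk'_surjective Z (co (Multiplicative.ofAdd (Pi.single 1 1)))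
  obtain ⟨hf0, hf1⟩ := act_up co s
  rw [← hau, ← hv₀, ← heh, hr] at hf1
  rw [← hau, ← hv₀, hr] at hf0
  set cx := ((cS x₀ : F.autGroup E) : MulAut E)
  obtain ⟨y, hydef⟩ : ∃ y : E, y = cx eh * eh⁻¹ := ⟨_, rfl⟩
  have hy0 : QuotientGroup.mk' Z y = QuotientGroup.mk' Z v₀ ^ s.val := by
    rw [hydef, map_mul, map_inv, hf1, mul_inv_cancel_right]
  have hιy : ι y = ⁅x₀, ι eh⁆ := by
    rw [hydef, map_mul, map_inv, hcι, commutatorElement_def]
  -- `y` and `eh` do not commute
  have hyeh : y * eh ≠ eh * y := by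
    intro hc
    refine hna fun b b' => ?_
    have hgen : ∀ b : E, ∃ i j : ℕ, ∃ z ∈ Z, b = y ^ i * eh ^ j * z := fun b => by
      obtain ⟨i, j, hij⟩ := exists_coord co (QuotientGroup.mk' Z b)
      obtain ⟨i', hi'⟩ : ∃ i' : ℕ, QuotientGroup.mk' Z v₀ ^ i = QuotientGroup.mk' Z y ^ i' := by
        refine ⟨((i : ZMod p) * s⁻¹).val, ?_⟩
        rw [hy0, ← pow_mul]
        refine RankTwo.pow_eq_of_cast (hQexp _) ?_
        rw [Nat.cast_mul, ZMod.natCast_zmod_val, ZMod.natCast_zmod_val, mul_left_comm,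
          mul_inv_cancel₀ hs, mul_one]
      rw [← hv₀, ← heh, hi', ← map_pow, ← map_pow, ← map_mul] at hij
      exact ⟨i', j, _, QuotientGroup.eq.1 hij.symm, (mul_inv_cancel_left _ _).symm⟩
    obtain ⟨i, j, z, hz, rfl⟩ := hgen b
    obtain ⟨i', j', z', hz', rfl⟩ := hgen b'
    have hcy : Commute y eh := hc
    have h1 : Commute (y ^ i * eh ^ j) (y ^ i' * eh ^ j') :=
      (((Commute.refl y).pow_pow i i').mul_right (hcy.pow_pow i j')).mul_left
        ((hcy.symm.pow_pow j i').mul_right ((Commute.refl eh).pow_pow j j'))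
    exact ((h1.mul_right (Subgroup.mem_center_iff.1 hz' _)).mul_left
      (Subgroup.mem_center_iff.1 hz _).symm).eq
  have hy1 : ∀ {i : ℕ}, y ^ i ∈ Z → (i : ZMod p) = 0 := fun {i} hi => by
    by_contra hi0
    refine hyeh ?_
    obtain ⟨j, hj⟩ := RankTwo.exists_pow_eq (hQexp (QuotientGroup.mk' Z y)) hi0
    have hyi : QuotientGroup.mk' Z y = 1 := by
      rw [← hj, ← map_pow, show QuotientGroup.mk' Z (y ^ i) = 1 from
        (QuotientGroup.eq_one_iff _).2 hi, one_pow]
    exact (Subgroup.mem_center_iff.1 ((QuotientGroup.eq_one_iff _).1 hyi) eh).symm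
  -- extensions of the tori
  have hext : ∀ (c d : ZMod p) (hcd : c * d = 1), ∃ φ ∈ F.autGroup S,
      (∀ z ∈ Z, φ (ι z) = ι z) ∧
      (∃ z ∈ Z, φ (ι eh) = ι (eh ^ d.val * z)) ∧
      (φ x₀ * (x₀ ^ (c * c).val)⁻¹ ∈ E.subgroupOf S) ∧
      ∃ t : F.autGroup E, t ∈ S1 ∧ r t = act co (dg c d hcd) ∧
        ∀ b, φ (ι b) = ι ((t : MulAut E) b) := by
    intro c d hcd
    obtain ⟨t, htK, htp, ht⟩ := htor c d hcd
    have htS1 := hK1 htK
    set n := (c * c).val
    have hcomp : r (t * cS x₀ * t⁻¹ * (cS x₀ ^ n)⁻¹) = 1 := by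
      rw [map_mul, map_mul, map_mul, map_inv, map_inv, map_pow, ht, hau, ← map_inv (act co),
        ← map_pow, ← map_mul, ← map_mul, up_pow, ZMod.natCast_zmod_val, dg_mul_up,
        mul_inv_cancel_right, mul_inv_cancel]
    have hxS1 : cS x₀ ∈ S1 := hK1 (mem_pElts hcx)
    obtain ⟨q, hq⟩ := hker _ hcomp
      (mul_mem (hS1n.conj_mem _ hxS1 t) (inv_mem (pow_mem hxS1 n)))
    have hqe : t * cS x₀ * t⁻¹ = cS (ι q * x₀ ^ n) := by
      rw [map_mul, map_pow, ← eq_mul_inv_iff_mul_eq.1 (show cS (ι q) =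
        t * cS x₀ * t⁻¹ * (cS x₀ ^ n)⁻¹ from Subtype.ext (MulEquiv.ext fun b => Subtype.ext (by
          rw [hcS, hιc, ← hq]; rfl)))]
    obtain ⟨β, hβ, hβt, -, hβe⟩ := extend_of_normalizes hS hF (centralizerIn_le_of_centric hE.1) hE.2.1 t
      (fun w => by
        have hw : (⟨w, w.2.1⟩ : S) ∈ (cS.range.comap ((MulAut.conj t).toMonoidHom.comp cS) : Subgroup S) := by
          refine (hgenS _ ?_ ?_).ge (Subgroup.mem_top _)
          · exact ⟨_, hqe.symm⟩
          · intro b hb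
            obtain ⟨b, rfl⟩ := hιmem b hb
            refine ⟨ι ((t : MulAut E) b), Subtype.ext (MulEquiv.ext fun a => Subtype.ext ?_)⟩
            obtain ⟨a, rfl⟩ := (t : MulAut E).surjective a
            show _ = ((((t * cS (ι b) * t⁻¹ : F.autGroup E) : MulAut E) ((t : MulAut E) a) : E) : Ω)
            rw [Subgroup.coe_mul, Subgroup.coe_mul, MulAut.mul_apply, MulAut.mul_apply,
              Subgroup.coe_inv, MulAut.inv_apply_self,
              show ((cS (ι b) : F.autGroup E) : MulAut E) a = b * a * b⁻¹ from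
                Subtype.ext (by rw [hcS, hιc]; rfl), hcS, hιc, map_mul, map_mul, map_inv]
            rfl
        obtain ⟨w', hw'⟩ := hw
        exact ⟨⟨w', hN.ge w'.2⟩, hw'.symm⟩)
    obtain ⟨φ, hφ, hφβ⟩ := exists_top_aut (F := F) (β := β) (by rw [hN] at hβ; exact hβ)
    have hφι : ∀ b, φ (ι b) = ι ((t : MulAut E) b) := fun b => Subtype.ext (by
      rw [hφβ, hιc, hιc, hβt])
    refine ⟨φ, hφ, fun z hz => ?_, ?_, ?_, t, htS1, ht, hφι⟩
    · rw [hφι]
      congr 1
      -- a stabilizer of the series of the centre of order prime to `p`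
      obtain ⟨U, hU⟩ : ∃ U : ℕ → Subgroup ↥Z, U = fun j =>
          if j = 0 then ⊤ else if j = 1 then (frattini E).subgroupOf Z else ⊥ := ⟨_, rfl⟩
      have h0 : U 0 = ⊤ := by simp [hU]
      have h1 : U 1 = (frattini E).subgroupOf Z := by simp [hU]
      have h2 : ∀ j, U (j + 2) = ⊥ := fun j => by simp [hU]
      obtain ⟨k, hk⟩ := SelfAut.exists_pow_eq_one_of_stable (p := p) hZc U (r := 2) h0 (h2 0)
        (fun j => by
          match j with
          | 0 => rw [h0]; exact le_top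
          | j + 1 => rw [h2]; exact bot_le)
        (α := restrictChar Z (t : MulAut E)) (fun j => by
          match j with
          | 0 =>
            intro a _
            rw [h1, Subgroup.mem_subgroupOf]
            have e := (inferInstance : (frattini E).Normal).conj_mem _ (htS1.1 a a.2) a
            simpa [mul_assoc] using e
          | 1 =>
            intro a ha
            rw [h1] at ha
            rw [h2 0, Subgroup.mem_bot]
            refine Subtype.ext ?_
            show (t : MulAut E) a * (a : E)⁻¹ = 1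
            rw [htS1.2 a ha, mul_inv_cancel]
          | j + 2 =>
            intro a ha
            rw [h2, Subgroup.mem_bot] at ha
            simp [ha])
      have h1' : restrictChar Z (t : MulAut E) = 1 := by
        rw [← orderOf_eq_one_iff]
        refine Nat.eq_one_of_dvd_coprimes (Nat.Coprime.pow_right k htp) ?_
          (orderOf_dvd_of_pow_eq_one hk)
        exact orderOf_map_dvd ((restrictChar Z).comp (F.autGroup E).subtype) t
      exact congrArg (fun α : MulAut Z => ((α ⟨z, hz⟩ : Z) : E)) h1'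
    · refine ⟨(eh ^ d.val)⁻¹ * (t : MulAut E) eh, QuotientGroup.eq.1 ?_, by
        rw [mul_inv_cancel_left, hφι]⟩
      show QuotientGroup.mk' Z (eh ^ d.val) = QuotientGroup.mk' Z ((t : MulAut E) eh)
      rw [← hr, ht, heh, map_pow, heh]
      exact (act_dg co c d hcd).2.symm
    · have h := hβe ⟨x₀, hN.ge x₀.2⟩ ⟨_, hN.ge (ι q * x₀ ^ n).2⟩ hqe
      rw [← hφβ, Subgroup.coe_mul, hιc, mul_inv_rev, ← mul_assoc] at h
      rw [Subgroup.mem_subgroupOf]
      simpa using E.mul_mem h q.2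
  -- the involution shows that `⁅x₀, y⁆` lies in the Frattini subgroup
  obtain ⟨φ₁, hφ₁, hfixZ, -, hφx, t₁, ht₁S, ht₁, hφ₁ι⟩ := hext (-1) (-1) (by ring)
  have ht₁inv : ∀ b : E, QuotientGroup.mk' Z ((t₁ : MulAut E) b) = (QuotientGroup.mk' Z b)⁻¹ := by
    intro b
    rw [← hr, ht₁]
    apply co.symm.injective
    apply Multiplicative.toAdd.injective
    have h := lin_act co (dg (-1 : ZMod p) (-1) (by ring))
      (Multiplicative.toAdd (co.symm (QuotientGroup.mk' Z b)))
    rw [lin_apply, ofAdd_toAdd, MulEquiv.apply_symm_apply] at h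
    rw [h, map_inv, toAdd_inv]
    funext i
    fin_cases i <;> simp [dg, Matrix.mulVec, dotProduct, Fin.sum_univ_two]
  have hΦcen : ∀ w ∈ frattini E, ∀ s : S, Commute s (ι w) := fun w hw s => by
    obtain ⟨j, hj⟩ := hS s
    have h := (hK1 (mem_pElts (k := j) (show cS s ^ p ^ j = 1 by rw [← map_pow, hj, map_one]))).2 w hw
    have e := congrArg ι h
    rw [hcι] at e
    exact mul_inv_eq_iff_eq_mul.1 e
  have hxZ : ∀ z ∈ Z, ∀ s : S, ∃ w ∈ frattini E, ⁅s, ι z⁆ = ι w := fun z hz s => by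
    obtain ⟨j, hj⟩ := hS s
    have h := (hK1 (mem_pElts (k := j) (show cS s ^ p ^ j = 1 by rw [← map_pow, hj, map_one]))).1 z hz
    refine ⟨_, (inferInstance : (frattini E).Normal).conj_mem _ h z, ?_⟩
    rw [map_mul, map_mul, map_mul, map_inv, hcι, commutatorElement_def]
    group
  have hdecE : ∀ b : E, ∃ a c : ℕ, ∃ z ∈ Z, b = y ^ a * eh ^ c * z := fun b => by
    obtain ⟨a, c, hac⟩ := exists_coord co (QuotientGroup.mk' Z b)
    refine ⟨((a : ZMod p) * s⁻¹).val, c, (y ^ ((a : ZMod p) * s⁻¹).val * eh ^ c)⁻¹ * b,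
      QuotientGroup.eq.1 ?_, (mul_inv_cancel_left _ _).symm⟩
    show QuotientGroup.mk' Z (y ^ ((a : ZMod p) * s⁻¹).val * eh ^ c) = QuotientGroup.mk' Z b
    rw [hac, map_mul, map_pow, map_pow, hy0, ← pow_mul, hv₀, heh]
    congr 1
    refine RankTwo.pow_eq_of_cast (hQexp _) ?_
    rw [Nat.cast_mul, ZMod.natCast_zmod_val, ZMod.natCast_zmod_val, mul_left_comm,
      mul_inv_cancel₀ hs, mul_one]
  have hdy : ∃ dy : E, dy ∈ Z ∧ ⁅x₀, ι y⁆ = ι dy := by
    refine ⟨cx y * y⁻¹, ?_, by rw [map_mul, map_inv, hcι, commutatorElement_def]⟩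
    refine (QuotientGroup.eq_one_iff _).1 ?_
    show QuotientGroup.mk' Z (cx y * y⁻¹) = 1
    rw [map_mul, map_inv, mul_inv_eq_one, ← hr, hy0, map_pow, hau, hv₀]
    exact congrArg (· ^ s.val) (act_up co s).1
  obtain ⟨dy, hdyZ, hdye⟩ := hdy
  subst hιdef
  refine ⟨x₀, eh, y, (t₁ : MulAut E),
    { card_frat := hΦ, frat_le := hΦZ, card_center := hZc, comm := hcomm, not_mem := hx₀
      gen := hgenS, y_eq := hιy, y_eh := hyeh, y_fix := ⟨dy, hdyZ, hdye⟩, dec := hdecE
      frat_cen := hΦcen, cen_step := hxZ, torus := fun μ hμ => ?_, inv_mod := fun b => ?_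
      inv_comm := fun α hα b => ?_, inv_ext := ⟨φ₁, hφ₁, hφ₁ι, fun z hz => ?_, ?_⟩ }⟩
  · obtain ⟨φ, hφ, hZf, hze, -, -⟩ := hext μ⁻¹ μ (inv_mul_cancel₀ hμ)
    exact ⟨φ, hφ, hZf, hze⟩
  · refine (QuotientGroup.eq_one_iff _).1 ?_
    show QuotientGroup.mk' Z (b * (t₁ : MulAut E) b) = 1
    rw [map_mul, ht₁inv, mul_inv_cancel]
  · set g : F.autGroup E := ⟨α, hα⟩
    have hr1 : r (g * t₁ * g⁻¹ * t₁⁻¹) = 1 := by
      have hcm : r g * r t₁ = r t₁ * r g := by
        refine MulEquiv.ext fun q => ?_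
        obtain ⟨c, rfl⟩ := QuotientGroup.mk'_surjective Z q
        simp only [MulAut.mul_apply, hr, ht₁inv, map_inv]
      rw [map_mul, map_mul, map_mul, hcm, map_inv, map_inv, mul_inv_cancel_right, mul_inv_cancel]
    obtain ⟨q, hq⟩ := hker _ hr1 (mul_mem (hS1n.conj_mem _ ht₁S g) (inv_mem ht₁S))
    refine ⟨q, ?_⟩
    have e := DFunLike.congr_fun hq ((t₁ : MulAut E) ((g : MulAut E) b))
    simp only [Subgroup.coe_mul, Subgroup.coe_inv, MulAut.mul_apply,
      MulAut.inv_apply_self, MulAut.conj_apply] at e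
    exact e.symm
  · exact (Subgroup.inclusion_injective hES) ((hφ₁ι z).symm.trans (hfixZ z hz))
  · rwa [show ((-1 : ZMod p) * -1).val = 1 by rw [neg_one_mul, neg_neg, ZMod.val_one], pow_one] at hφx

set_option maxHeartbeats 1000000 in
/-- The configuration of class three from the data. -/
theorem MaxData.exists_cfg (hS : IsPGroup p S) (h5 : Nat.card S = p ^ 5) (hp2 : p ≠ 2)
    (hNA : NoA S p) {E : Subgroup Ω} {hES : E ≤ S} (h4 : Nat.card E = p ^ 4) {x₀ : S} {eh y : E}
    {t : MulAut E} (D : MaxData F p E hES x₀ eh y t) :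
    ∃ e x u : S, CfgC S p e x u ∧
      ∀ μ : ZMod p, μ ≠ 0 → ∃ φ ∈ F.autGroup S, ∃ me : S,
        (∀ t ∈ commutator S, Commute me t) ∧ φ e = e ^ μ.val * me ∧ φ u = u := by
  classical
  have hpp := hp.out
  haveI := finite_of_le hES
  obtain ⟨ι, hιdef⟩ : ∃ ι : E →* S, ι = Subgroup.inclusion hES := ⟨_, rfl⟩
  subst hιdef
  set ι := Subgroup.inclusion hES with hιdef
  have hιc : ∀ a : E, ((ι a : S) : Ω) = a := fun a => rfl
  have hιmem : ∀ s : S, s ∈ E.subgroupOf S → ∃ a : E, ι a = s := fun s hs =>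
    ⟨⟨s, hs⟩, Subtype.ext (hιc _)⟩
  have hEidx : (E.subgroupOf S).index = p := by
    have h := (E.subgroupOf S).card_mul_index
    rw [Nat.card_congr (Subgroup.subgroupOfEquivOfLe hES).toEquiv, h4, h5, pow_succ p 4] at h
    exact Nat.eq_of_mul_eq_mul_left (pow_pos hpp.pos 4) h
  haveI hEn : (E.subgroupOf S).Normal :=
    Subgroup.normal_of_index_eq_minFac_card (by
      rw [hEidx, h5, Nat.Prime.pow_minFac hpp (by norm_num)])
  have hEp : IsPGroup p E := hS.to_le hES
  have hΦ := D.card_frat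
  have hΦZ := D.frat_le
  have hZc := D.card_center
  have hcomm := D.comm
  have hx₀ := D.not_mem
  have hgenS := D.gen
  have hιy := D.y_eq
  have hyeh := D.y_eh
  have hdecE := D.dec
  have hΦcen := D.frat_cen
  have hxZ := D.cen_step
  set Z := Subgroup.center E
  obtain ⟨dy, hdy⟩ := D.y_fix
  obtain ⟨φ₁, hφ₁, hφ₁ι, hfixt, hφx⟩ := D.inv_ext
  have hfixZ : ∀ z ∈ Z, φ₁ (ι z) = ι z := fun z hz => by rw [hφ₁ι, hfixt z hz]
  have hΦgen : ∀ {a b : E}, a * b ≠ b * a → Subgroup.zpowers ⁅a, b⁆ = frattini E := fun {a b} hab => by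
    refine Subgroup.eq_of_le_of_card_ge (Subgroup.zpowers_le.2 (hcomm a b)) ?_
    have hd : orderOf ⁅a, b⁆ ∣ p := by
      have := orderOf_dvd_natCard (⟨_, hcomm a b⟩ : frattini E)
      rwa [hΦ, Subgroup.orderOf_mk] at this
    rw [hΦ, Nat.card_zpowers]
    rcases (Nat.dvd_prime hpp).1 hd with h | h
    · exact absurd (commutatorElement_eq_one_iff_mul_comm.1 (orderOf_eq_one_iff.1 h)) hab
    · rw [h]
  haveI hFn : ((frattini E).map ι).Normal := ⟨by
    rintro _ ⟨w, hw, rfl⟩ s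
    rw [(hΦcen w hw s).eq, mul_inv_cancel_right]
    exact ⟨w, hw, rfl⟩⟩
  have hdyΦ : dy ∈ frattini E := by
    set π := QuotientGroup.mk' ((frattini E).map ι)
    have hπ1 : ∀ w ∈ frattini E, π (ι w) = 1 := fun w hw =>
      (QuotientGroup.eq_one_iff _).2 ⟨w, hw, rfl⟩
    have hπZ : ∀ z ∈ Z, ∀ g : S, Commute (π g) (π (ι z)) := fun z hz g => by
      obtain ⟨w, hw, he⟩ := hxZ z hz g
      refine commutatorElement_eq_one_iff_mul_comm.1 ?_
      rw [← map_commutatorElement, he, hπ1 w hw]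
    have hπE : ∀ b b' : E, Commute (π (ι b)) (π (ι b')) := fun b b' => by
      refine commutatorElement_eq_one_iff_mul_comm.1 ?_
      rw [← map_commutatorElement π, ← map_commutatorElement ι, hπ1 _ (hcomm b b')]
    obtain ⟨m, hm⟩ := hιmem _ hφx
    obtain ⟨z', hz', hyz⟩ : ∃ z' ∈ Z, t y = y⁻¹ * z' :=
      ⟨y * t y, D.inv_mod y, (inv_mul_cancel_left _ _).symm⟩
    have hφd := congrArg φ₁ hdy.2
    rw [map_commutatorElement φ₁, hφ₁ι, hfixZ dy hdy.1, hyz,
      show φ₁ x₀ = ι m * x₀ by rw [hm, inv_mul_cancel_right]] at hφd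
    have e := congrArg π hφd
    rw [map_commutatorElement π, map_mul ι, map_mul π, map_mul π, map_inv, map_inv] at e
    have hc1 : Commute (π (ι m)) ((π (ι y))⁻¹ * π (ι z')) :=
      (hπE m y).inv_right.mul_right (hπE m z')
    have hc2 : Commute (π (ι m)) (π (ι dy)) := hπE m dy
    have hd : ⁅π x₀, π (ι y)⁆ = π (ι dy) := by rw [← map_commutatorElement, hdy.2]
    have hinv : ⁅π x₀, (π (ι y))⁻¹⁆ = (π (ι dy))⁻¹ := by
      rw [← hd, show ⁅π x₀, (π (ι y))⁻¹⁆ = (π (ι y))⁻¹ * ⁅π x₀, π (ι y)⁆⁻¹ * π (ι y) by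
        simp only [commutatorElement_def]; group, hd, ((hπE y dy).inv_inv).eq, inv_mul_cancel_right]
    have e2 : ⁅π (ι m) * π x₀, (π (ι y))⁻¹ * π (ι z')⁆ = (π (ι dy))⁻¹ := by
      rw [show ⁅π (ι m) * π x₀, (π (ι y))⁻¹ * π (ι z')⁆ =
        π (ι m) * (⁅π x₀, (π (ι y))⁻¹⁆ * ((π (ι y))⁻¹ * ⁅π x₀, π (ι z')⁆ * ((π (ι y))⁻¹)⁻¹)) *
          (π (ι m))⁻¹ * ⁅π (ι m), (π (ι y))⁻¹ * π (ι z')⁆ by
          simp only [commutatorElement_def]; group,
        commutatorElement_eq_one_iff_mul_comm.2 (hπZ z' hz' x₀).eq,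
        commutatorElement_eq_one_iff_mul_comm.2 hc1.eq, hinv, mul_one, mul_one, inv_inv, inv_mul_cancel,
        mul_one, hc2.inv_right.eq, mul_inv_cancel_right]
    rw [e2] at e
    have h2 : π (ι (dy ^ 2)) = 1 := by
      rw [map_pow, map_pow, sq]
      calc π (ι dy) * π (ι dy) = (π (ι dy))⁻¹⁻¹ * π (ι dy) := by rw [inv_inv]
        _ = 1 := by rw [e, inv_mul_cancel]
    obtain ⟨w, hw, hwe⟩ := (QuotientGroup.eq_one_iff _).1 h2
    have hw2 : dy ^ 2 ∈ frattini E := by
      have : w = dy ^ 2 := Subtype.ext (by rw [← hιc w, ← hιc (dy ^ 2), hwe])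
      exact this ▸ hw
    have hpdy : dy ^ p ∈ frattini E := Grp.pGroup_pow_mem_frattini hEp dy
    obtain ⟨k, hk⟩ := hpp.odd_of_ne_two hp2
    have e3 : dy = dy ^ p * ((dy ^ 2) ^ k)⁻¹ := by
      rw [← pow_mul, hk, pow_succ', mul_inv_cancel_right]
    rw [e3]
    exact mul_mem hpdy (inv_mem (pow_mem hw2 k))
  -- adjust the outer element
  obtain ⟨i, hi⟩ := Subgroup.mem_zpowers_iff.1 ((hΦgen (Ne.symm hyeh)).ge hdyΦ)
  obtain ⟨x, hxdef⟩ : ∃ x : S, x = ι (eh ^ (-i)) * x₀ := ⟨_, rfl⟩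
  have hx : x ∉ E.subgroupOf S := fun h => hx₀ (by
    have := mul_mem (inv_mem (show ι (eh ^ (-i)) ∈ E.subgroupOf S from by
      rw [Subgroup.mem_subgroupOf, hιc]; exact Subtype.coe_prop _)) (hxdef ▸ h)
    rwa [inv_mul_cancel_left] at this)
  have hxy : Commute x (ι y) := by
    refine commutatorElement_eq_one_iff_mul_comm.1 ?_
    have hzc : ∀ g : E, Commute ⁅eh, y⁆ g := fun g =>
      (Subgroup.mem_center_iff.1 (hΦZ (hcomm eh y)) g).symm
    rw [hxdef, show ⁅ι (eh ^ (-i)) * x₀, ι y⁆ =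
      ι (eh ^ (-i)) * ⁅x₀, ι y⁆ * (ι (eh ^ (-i)))⁻¹ * ⁅ι (eh ^ (-i)), ι y⁆ by
      simp only [commutatorElement_def]; group, hdy.2, (hΦcen dy hdyΦ _).eq, mul_inv_cancel_right,
      ← map_commutatorElement, ← map_mul, ← hi]
    have hflip : ∀ g : E, Commute ⁅y, eh⁆ g := fun g => by
      rw [← commutatorElement_inv]; exact (hzc g).inv_left
    have hlin : ⁅eh ^ (-i), y⁆ = ⁅eh, y⁆ ^ (-i) := by
      let f : E →* E := MonoidHom.mk' (fun b => ⁅b, y⁆) fun b b' => by
        rw [show ⁅b * b', y⁆ = b * ⁅b', y⁆ * b⁻¹ * ⁅b, y⁆ by simp only [commutatorElement_def]; group]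
        have hc : ∀ c c' : E, Commute ⁅c, y⁆ c' := fun c c' =>
          (Subgroup.mem_center_iff.1 (hΦZ (hcomm c y)) c').symm
        rw [← (hc b' b).eq, mul_inv_cancel_right, (hc b' ⁅b, y⁆).eq]
      exact map_zpow f eh (-i)
    rw [hlin, ← zpow_add, add_neg_cancel, zpow_zero, map_one]
  obtain ⟨y', hy'def⟩ : ∃ y', y' = ⁅x, ι eh⁆ := ⟨_, rfl⟩
  obtain ⟨w₁, hw₁, hy'w⟩ : ∃ w ∈ frattini E, y' = ι (w * y) := by
    refine ⟨⁅eh ^ (-i), y⁆, hcomm _ _, ?_⟩
    rw [hy'def, hxdef, show ⁅ι (eh ^ (-i)) * x₀, ι eh⁆ =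
      ι (eh ^ (-i)) * ⁅x₀, ι eh⁆ * (ι (eh ^ (-i)))⁻¹ * ⁅ι (eh ^ (-i)), ι eh⁆ by
      simp only [commutatorElement_def]; group, ← hιy, ← map_commutatorElement,
      commutatorElement_eq_one_iff_mul_comm.2 ((Commute.refl eh).zpow_left (-i)).eq, map_one,
      mul_one, ← map_inv, ← map_mul, ← map_mul]
    congr 1
    simp only [commutatorElement_def]; group
  have hxy' : Commute x y' := by
    rw [hy'w, map_mul]; exact (hΦcen w₁ hw₁ x).mul_right hxy
  -- the element of the centre moved by `x`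
  obtain ⟨u, huZ, hu⟩ : ∃ u ∈ Z, ¬ Commute x (ι u) := by
    by_contra hcon
    push Not at hcon
    set A := Subgroup.closure ({x, ι y} ∪ (ι '' (Z : Set E)) : Set S) with hA
    have hcomA : ∀ a ∈ A, ∀ b ∈ A, a * b = b * a := by
      intro a ha b hb
      have hle : A ≤ Subgroup.centralizer (A : Set S) := by
        rw [hA, Subgroup.closure_le]
        intro g hg
        rw [SetLike.mem_coe, Subgroup.centralizer_closure, Subgroup.mem_centralizer_iff]
        intro g' hg'
        have hZy : ∀ z ∈ Z, Commute (ι y) (ι z) := fun z hz =>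
          Commute.map (Subgroup.mem_center_iff.1 hz y) ι
        have hZZ : ∀ z ∈ Z, ∀ z' ∈ Z, Commute (ι z) (ι z') := fun z _ z' hz' =>
          Commute.map (Subgroup.mem_center_iff.1 hz' z) ι
        rcases hg with (rfl | rfl) | ⟨z, hz, rfl⟩ <;> rcases hg' with (rfl | rfl) | ⟨z', hz', rfl⟩
        · rfl
        · exact hxy.symm.eq
        · exact (hcon z' hz').symm.eq
        · exact hxy.eq
        · rfl
        · exact (hZy z' hz').symm.eq
        · exact (hcon z hz).eq
        · exact (hZy z hz).eq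
        · exact (hZZ z' hz' z hz).eq
      exact Subgroup.mem_centralizer_iff.1 (hle hb) a ha
    have hne : A ≠ ⊤ := fun e => hNA (E.subgroupOf S) hEidx fun a _ b _ =>
      hcomA a (e.ge (Subgroup.mem_top a)) b (e.ge (Subgroup.mem_top b))
    refine hNA A ?_ hcomA
    set B := A.comap ι
    have hyB : y ∈ B := Subgroup.subset_closure (Or.inl (Or.inr rfl))
    have hZB : Z ≤ B := fun z hz => Subgroup.subset_closure (Or.inr ⟨z, hz, rfl⟩)
    obtain ⟨j, hj, hjc⟩ := (Nat.dvd_prime_pow hpp).1 (h4 ▸ B.card_subgroup_dvd_card)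
    have hlt : p ^ 2 < p ^ j := by
      rw [← hjc, ← hZc]
      refine lt_of_le_of_ne (Subgroup.card_le_of_le hZB) fun e => ?_
      have hyZ : y ∈ Z := (Subgroup.eq_of_le_of_card_ge hZB e.ge).ge hyB
      exact hyeh (Subgroup.mem_center_iff.1 hyZ eh).symm
    have hj3 : 3 ≤ j := (Nat.pow_lt_pow_iff_right hpp.one_lt).1 hlt
    obtain ⟨l, hl, hlc⟩ := (Nat.dvd_prime_pow hpp).1 (h5 ▸ A.card_subgroup_dvd_card)
    have hBA : Nat.card (B.map ι) < Nat.card A := by
      refine lt_of_le_of_ne (Subgroup.card_le_of_le (Subgroup.map_comap_le _ _)) fun e => hx ?_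
      obtain ⟨b, -, hb⟩ := (Subgroup.eq_of_le_of_card_ge (Subgroup.map_comap_le _ _) e.ge).ge
        (show x ∈ A from Subgroup.subset_closure (Or.inl (Or.inl rfl)))
      rw [← hb, Subgroup.mem_subgroupOf, hιc]
      exact b.2
    rw [Subgroup.card_map_of_injective (Subgroup.inclusion_injective _), hjc,
      hlc] at hBA
    have hjl := (Nat.pow_lt_pow_iff_right hpp.one_lt).1 hBA
    have hl5 : l ≠ 5 := fun e => hne (Subgroup.eq_top_of_card_eq _ (by rw [hlc, h5, e]))
    have h := A.card_mul_index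
    rw [hlc, h5, show l = 4 by omega, pow_succ p 4] at h
    exact Nat.eq_of_mul_eq_mul_left (pow_pos hpp.pos 4) h
  obtain ⟨w₂, hw₂, hxu⟩ := hxZ u huZ x
  have hw₂1 : w₂ ≠ 1 := fun e => hu (commutatorElement_eq_one_iff_mul_comm.1 (by
    rw [hxu, e, map_one]))
  have hw₂p : w₂ ^ p = 1 := by
    have h := congrArg Subtype.val (pow_card_eq_one' (x := (⟨w₂, hw₂⟩ : frattini E)))
    rwa [SubmonoidClass.coe_pow, OneMemClass.coe_one, hΦ] at h
  have hΦw : Subgroup.zpowers w₂ = frattini E := Subgroup.eq_of_le_of_card_ge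
    (Subgroup.zpowers_le.2 hw₂) (by rw [hΦ, Nat.card_zpowers, orderOf_eq_prime hw₂p hw₂1])
  set N := Subgroup.closure ({y', ⁅x, ι u⁆} : Set S)
  have hΦN : ∀ w ∈ frattini E, ι w ∈ N := fun w hw => by
    obtain ⟨j, rfl⟩ := Subgroup.mem_zpowers_iff.1 (hΦw.ge hw)
    rw [map_zpow, ← hxu]
    have hin : ⁅x, ι u⁆ ∈ N := Subgroup.subset_closure (Set.mem_insert_of_mem _ rfl)
    exact Subgroup.zpow_mem N hin j
  have hyN : ι y ∈ N := by
    have h := mul_mem (inv_mem (hΦN w₁ hw₁)) (Subgroup.subset_closure (Set.mem_insert _ _) : y' ∈ N)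
    rwa [hy'w, map_mul, inv_mul_cancel_left] at h
  have hu2 : u ∉ frattini E := fun h => hu (hΦcen u h x)
  have hZdec : ∀ z ∈ Z, ∃ j : ℤ, ∃ w ∈ frattini E, z = u ^ j * w := by
    intro z hz
    have htop : frattini E ⊔ Subgroup.zpowers u = Z := by
      refine Subgroup.eq_of_le_of_card_ge (sup_le hΦZ (Subgroup.zpowers_le.2 huZ)) ?_
      obtain ⟨j, hj, hjc⟩ := (Nat.dvd_prime_pow hpp).1 (hZc ▸ Subgroup.card_dvd_of_le
        (sup_le hΦZ (Subgroup.zpowers_le.2 huZ)))
      rw [hjc, hZc]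
      refine Nat.pow_le_pow_right hpp.pos ?_
      by_contra hj2
      refine hu2 ?_
      rw [Subgroup.eq_of_le_of_card_ge (le_sup_left : frattini E ≤ frattini E ⊔ Subgroup.zpowers u) (by
        rw [hjc, hΦ]; exact (Nat.pow_le_pow_right hpp.pos (by omega : j ≤ 1)).trans (pow_one p).le)]
      exact Subgroup.mem_sup_right (Subgroup.mem_zpowers u)
    obtain ⟨w, hw, _, ⟨j, rfl⟩, rfl⟩ := Subgroup.mem_sup_of_normal_left.1 (htop.ge hz)
    exact ⟨j, w, hw, Subgroup.mem_center_iff.1 (Subgroup.zpow_mem _ huZ j) w⟩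
  have hcfg : CfgC S p (ι eh) x (ι u) := by
    refine
      { wy := hy'def ▸ hxy'
        eu := Commute.map (Subgroup.mem_center_iff.1 huZ eh) ι
        yu := ?_
        zc := fun g => by rw [hxu]; exact (hΦcen w₂ hw₂ g).symm
        zne := fun h => hu (commutatorElement_eq_one_iff_mul_comm.1 h)
        zp := by rw [hxu, ← map_pow, hw₂p, map_one]
        ye := ?_
        gen := ?_
        epow := ?_
        wpow := ?_
        upow := ?_ }
    · rw [← hy'def, hy'w]; exact Commute.map (Subgroup.mem_center_iff.1 huZ _) ι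
    · have hmem : ⁅w₁ * y, eh⁆ ∈ frattini E := hcomm _ _
      obtain ⟨k, hk⟩ := (isOfFinOrder_of_finite w₂).mem_powers_iff_mem_zpowers.2 (hΦw.ge hmem)
      refine ⟨k, ?_, fun ⟨l, hl⟩ => hyeh ?_⟩
      · rw [← hy'def, hy'w, hxu, ← map_commutatorElement, ← hk, map_pow]
      · have h1 : ⁅w₁ * y, eh⁆ = 1 := by
          rw [← hk]; show w₂ ^ k = 1; rw [hl, pow_mul, hw₂p, one_pow]
        have h2 : Commute (w₁ * y) eh := commutatorElement_eq_one_iff_mul_comm.1 h1
        have h3 : Commute w₁ eh := (Subgroup.mem_center_iff.1 (hΦZ hw₁) eh).symm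
        have h4 := h3.inv_left.mul_left h2
        rwa [inv_mul_cancel_left] at h4
    · set T := Subgroup.closure ({ι eh, x, ι u} : Set S)
      have hx' : x ∈ T := Subgroup.subset_closure (by simp)
      have he' : ι eh ∈ T := Subgroup.subset_closure (by simp)
      have hu' : ι u ∈ T := Subgroup.subset_closure (by simp)
      have hx0 : x₀ ∈ T := by
        rw [show x₀ = (ι (eh ^ (-i)))⁻¹ * x by rw [hxdef, inv_mul_cancel_left], map_zpow]
        exact mul_mem (inv_mem (zpow_mem he' _)) hx'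
      refine hgenS _ hx0 fun b hb => ?_
      obtain ⟨b, rfl⟩ := hιmem b hb
      have hNT : N ≤ T := by
        refine (Subgroup.closure_le _).2 ?_
        rintro _ (rfl | rfl)
        · rw [hy'def, commutatorElement_def]
          exact mul_mem (mul_mem (mul_mem hx' he') (inv_mem hx')) (inv_mem he')
        · rw [commutatorElement_def]
          exact mul_mem (mul_mem (mul_mem hx' hu') (inv_mem hx')) (inv_mem hu')
      obtain ⟨a, c, z, hz, rfl⟩ := hdecE b
      obtain ⟨j, w, hw, rfl⟩ := hZdec z hz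
      rw [map_mul, map_mul, map_pow, map_pow, map_mul, map_zpow]
      exact mul_mem (mul_mem (pow_mem (hNT hyN) a) (pow_mem he' c))
        (mul_mem (zpow_mem hu' j) (hNT (hΦN w hw)))
    · rw [← hy'def, ← map_pow]
      exact hΦN _ (Grp.pGroup_pow_mem_frattini hEp eh)
    · rw [← hy'def]
      obtain ⟨b, hb⟩ := hιmem (x ^ p) (by
        rw [← hEidx]; exact (E.subgroupOf S).pow_index_mem x)
      obtain ⟨a, c, z, hz, rfl⟩ := hdecE b
      have hxb : Commute x (ι (y ^ a * eh ^ c * z)) := hb ▸ (Commute.refl x).pow_right p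
      have hyb : Commute y (y ^ a * eh ^ c * z) := by
        have h : Commute (ι y) (ι (y ^ a * eh ^ c * z)) := hb ▸ hxy.symm.pow_right p
        exact Subgroup.inclusion_injective hES (by rw [map_mul, map_mul]; exact h.eq)
      have hpowZ : ∀ r : E, r ^ p ∈ Z := fun r => hΦZ (Grp.pGroup_pow_mem_frattini hEp r)
      have hc0 : (c : ZMod p) = 0 := by
        by_contra hc0
        refine hyeh ?_
        have h1 : Commute y (eh ^ c) := by
          have h := (((Commute.refl y).pow_right a).inv_right.mul_right hyb).mul_right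
            (Commute.inv_right (Subgroup.mem_center_iff.1 hz y))
          rwa [show (y ^ a)⁻¹ * (y ^ a * eh ^ c * z) * z⁻¹ = eh ^ c by group] at h
        obtain ⟨j, hj⟩ := RankTwo.exists_pow_eq (x := QuotientGroup.mk' Z eh) (by
          rw [← map_pow]; exact (QuotientGroup.eq_one_iff _).2 (hpowZ eh)) hc0
        have h2 := QuotientGroup.eq.1 (show QuotientGroup.mk' Z ((eh ^ c) ^ j) = QuotientGroup.mk' Z eh by
          rw [map_pow, map_pow, hj])
        have h3 := (h1.pow_right j).mul_right (Subgroup.mem_center_iff.1 h2 y)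
        rwa [mul_inv_cancel_left] at h3
      obtain ⟨l, hl⟩ : p ∣ c := (ZMod.natCast_eq_zero_iff c p).1 hc0
      obtain ⟨j, w, hw, rfl⟩ := hZdec z hz
      have hep : ι (eh ^ c) ∈ N := by
        rw [hl, pow_mul, map_pow]; exact pow_mem (hΦN _ (Grp.pGroup_pow_mem_frattini hEp eh)) l
      have huj : Commute x (ι u ^ j) := by
        have hec : Commute x (ι (eh ^ c)) := by
          rw [hl, pow_mul, map_pow]
          exact (hΦcen _ (Grp.pGroup_pow_mem_frattini hEp eh) x).pow_right l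
        rw [map_mul, map_mul, map_pow, map_mul, map_zpow] at hxb
        have h := ((((hxy.pow_right a).mul_right hec).inv_right).mul_right hxb).mul_right
          (hΦcen w hw x).inv_right
        rwa [show (ι y ^ a * ι (eh ^ c))⁻¹ * (ι y ^ a * ι (eh ^ c) * (ι u ^ j * ι w)) * (ι w)⁻¹ =
          ι u ^ j by group] at h
      have hj : ι u ^ j ∈ N := by
        by_cases hpj : (p : ℤ) ∣ j
        · obtain ⟨q, rfl⟩ := hpj
          rw [zpow_mul, zpow_natCast, ← map_pow]
          exact zpow_mem (hΦN _ (Grp.pGroup_pow_mem_frattini hEp u)) q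
        · exfalso
          obtain ⟨a', b', hab'⟩ :=
            ((Nat.prime_iff_prime_int.1 hpp).coprime_iff_not_dvd.2 hpj).symm
          refine hu ?_
          have h1 : Commute x (ι u ^ (p : ℤ)) := by
            rw [zpow_natCast, ← map_pow]; exact hΦcen _ (Grp.pGroup_pow_mem_frattini hEp u) x
          have h := (huj.zpow_right a').mul_right (h1.zpow_right b')
          rwa [← zpow_mul, ← zpow_mul, ← zpow_add, mul_comm j, mul_comm (p : ℤ), hab', zpow_one] at h
      rw [← hb, map_mul, map_mul, map_pow, map_mul, map_zpow]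
      exact mul_mem (mul_mem (pow_mem hyN a) hep) (mul_mem hj (hΦN w hw))
    · rw [← hy'def, ← map_pow]
      exact hΦN _ (Grp.pGroup_pow_mem_frattini hEp u)
  refine ⟨ι eh, x, ι u, hcfg, fun μ hμ => ?_⟩
  obtain ⟨φ, hφ, hZf, z, hz, hze⟩ := D.torus μ hμ
  refine ⟨φ, hφ, ι z, fun t ht => ?_, by rw [hze, map_mul, map_pow], hZf u huZ⟩
  rw [← hcfg.derived, ← hy'def] at ht
  induction ht using Subgroup.closure_induction with
  | mem t ht =>
    rcases ht with rfl | rfl
    · rw [hy'w]; exact Commute.map (Subgroup.mem_center_iff.1 hz _).symm ι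
    · exact (hcfg.zc (ι z)).symm
  | one => simp
  | mul a b _ _ iha ihb => exact iha.mul_right ihb
  | inv a _ iha => exact iha.inv_right

/-- The invariant subgroup of index `p` inside the displacements. -/
theorem MaxData.exists_inv (hS : IsPGroup p S) (hp2 : p ≠ 2) {E : Subgroup Ω} {hES : E ≤ S}
    {x₀ : S} {eh y : E} {t : MulAut E} (D : MaxData F p E hES x₀ eh y t) :
    ∃ W : Subgroup Ω, W ≤ E ∧ W ≤ moved F ∧ (∀ α ∈ F.autGroup E, ∀ w ∈ W, autFun α w ∈ W) ∧
      (W.subgroupOf E).index ∣ p := by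
  classical
  have hpp := hp.out
  haveI := finite_of_le hES
  set ι := Subgroup.inclusion hES with hιdef
  have hιc : ∀ a : E, ((ι a : S) : Ω) = a := fun a => rfl
  have hEp : IsPGroup p E := hS.to_le hES
  obtain ⟨φ₁, hφ₁, hφ₁ι, -, -⟩ := D.inv_ext
  have hΦ := D.card_frat
  have hΦZ := D.frat_le
  have hZc := D.card_center
  have hcomm := D.comm
  set Z := Subgroup.center E
  set W₀ := Subgroup.closure {w : E | ∃ b : E, w = b⁻¹ * t b} ⊔ frattini E
  have hgenW : ∀ b : E, b⁻¹ * t b ∈ W₀ := fun b =>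
    Subgroup.mem_sup_left (Subgroup.subset_closure ⟨b, rfl⟩)
  refine ⟨W₀.map E.subtype, Subgroup.map_subtype_le _, ?_, fun α hα w hw => ?_, ?_⟩
  · rw [Subgroup.map_le_iff_le_comap]
    refine sup_le ((Subgroup.closure_le _).2 ?_) ?_
    · rintro _ ⟨b, rfl⟩
      have h := mem_moved hφ₁ (ι b)
      rw [hφ₁ι, hιc, hιc] at h
      exact h
    · refine le_trans (le_of_eq (show frattini E = Subgroup.zpowers ⁅y, eh⁆ from ?_)) ?_
      · refine (Subgroup.eq_of_le_of_card_ge (Subgroup.zpowers_le.2 (hcomm y eh)) ?_).symm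
        have hd : orderOf ⁅y, eh⁆ ∣ p := by
          have := orderOf_dvd_natCard (⟨_, hcomm y eh⟩ : frattini E)
          rwa [hΦ, Subgroup.orderOf_mk] at this
        rw [hΦ, Nat.card_zpowers]
        rcases (Nat.dvd_prime hpp).1 hd with h | h
        · exact absurd (commutatorElement_eq_one_iff_mul_comm.1 (orderOf_eq_one_iff.1 h)) D.y_eh
        · rw [h]
      · rw [Subgroup.zpowers_le]
        have h := comm_mem_moved (F := F) (ι y) (ι eh)
        rw [← map_commutatorElement, hιc] at h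
        exact h
  · obtain ⟨b, hb, rfl⟩ := hw
    rw [Subgroup.subtype_apply, autFun_coe]
    refine ⟨α b, ?_, rfl⟩
    have hle : W₀ ≤ W₀.comap α.toMonoidHom := by
      refine sup_le ((Subgroup.closure_le _).2 ?_) fun w hw =>
        Subgroup.mem_sup_right (((inferInstance : (frattini E).Characteristic).fixed α).ge hw)
      rintro _ ⟨b, rfl⟩
      show α (b⁻¹ * t b) ∈ W₀
      obtain ⟨q, e1⟩ := D.inv_comm α hα b
      rw [map_mul, map_inv, e1,
        show (α b)⁻¹ * (q * t (α b) * q⁻¹) = (α b)⁻¹ * t (α b) * ⁅(t (α b))⁻¹, q⁆ by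
          simp only [commutatorElement_def]; group]
      exact mul_mem (hgenW (α b)) (Subgroup.mem_sup_right (hcomm _ _))
    exact hle hb
  · rw [show (W₀.map E.subtype).subgroupOf E = W₀ from
      Subgroup.comap_map_eq_self_of_injective E.subtype_injective W₀]
    haveI : W₀.Normal := ⟨fun w hw g => by
      rw [show g * w * g⁻¹ = ⁅g, w⁆ * w by simp [commutatorElement_def]]
      exact mul_mem (Subgroup.mem_sup_right (hcomm g w)) hw⟩
    have htop : Z ⊔ W₀ = ⊤ := eq_top_iff.2 fun b _ => by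
      obtain ⟨k, hk⟩ := hpp.odd_of_ne_two hp2
      have hsq : b ^ 2 ∈ Z ⊔ W₀ := by
        have := mul_mem (Subgroup.mem_sup_left (T := W₀) (D.inv_mod b))
          (inv_mem (Subgroup.mem_sup_right (S := Z) (hgenW b)))
        rwa [show b * t b * (b⁻¹ * t b)⁻¹ = b ^ 2 by rw [sq]; group] at this
      have hbp : b ^ p ∈ Z ⊔ W₀ := Subgroup.mem_sup_left (hΦZ (Grp.pGroup_pow_mem_frattini hEp b))
      have := mul_mem hbp (inv_mem (pow_mem hsq k))
      rwa [← pow_mul, hk, pow_succ', mul_inv_cancel_right] at this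
    have h := Grp.card_sup_mul_card_inf_normal (H := Z) (N := W₀)
    rw [htop, Subgroup.card_top, hZc] at h
    have hle : Nat.card (frattini E) ∣ Nat.card ↥(Z ⊓ W₀) :=
      Subgroup.card_dvd_of_le (le_inf hΦZ le_sup_right)
    obtain ⟨k, hk⟩ := hle
    rw [hk, hΦ, ← W₀.card_mul_index] at h
    refine Dvd.intro k (Nat.eq_of_mul_eq_mul_left (Nat.mul_pos hpp.pos Nat.card_pos : 0 < p * Nat.card W₀) ?_)
    linear_combination h

/-- A nonabelian essential subgroup of order `p⁴`. -/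
theorem max_main (hS : IsPGroup p S) (hF : F.IsSaturated p) (h5 : Nat.card S = p ^ 5) (hp2 : p ≠ 2)
    (hNA : NoA S p) {E : Subgroup Ω} (hE : F.IsEssential p E) (h4 : Nat.card E = p ^ 4) :
    (∃ e x u : S, CfgC S p e x u ∧
      ∀ μ : ZMod p, μ ≠ 0 → ∃ φ ∈ F.autGroup S, ∃ me : S,
        (∀ t ∈ commutator S, Commute me t) ∧ φ e = e ^ μ.val * me ∧ φ u = u) ∧
      ∃ W : Subgroup Ω, W ≤ E ∧ W ≤ moved F ∧ (∀ α ∈ F.autGroup E, ∀ w ∈ W, autFun α w ∈ W) ∧
        (W.subgroupOf E).index ∣ p := by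
  obtain ⟨x₀, eh, y, t, D⟩ := exists_maxData hS hF h5 hNA hE h4
  exact ⟨D.exists_cfg hS h5 hp2 hNA h4, D.exists_inv hS hp2⟩

end Cfsg.Agent.Fus.OrdFive
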