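import Mathlib
import Cfsg.Agent.Lib.Fus.OrdFive.Group
import Cfsg.Agent.Lib.Fus.OrdFive.Max
import Cfsg.Agent.Lib.Fus.OrdFive.CubeData
import Cfsg.Agent.Lib.Fus.PearlCube
import Cfsg.Agent.Lib.Lie.PComplCentral

/-!
Elementary abelian essential subgroups of order `p³` in a group of order `p⁵`: the moved plane and,
without essential subgroups of index `p`, the configuration of class three.
-/

set_option autoImplicit false
set_option linter.unusedSectionVars false
set_option linter.style.haveILetI false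

universe u

namespace Cfsg.Agent.Fus.OrdFive

open Cfsg FusionSystem TorusExt
open scoped commutatorElement

variable {Ω : Type u} [Group Ω] {S : Subgroup Ω} [Finite S] {p : ℕ} [hp : Fact p.Prime]
  {F : FusionSystem S}

theorem mem_cl {A : Type*} [Group A] {s : Set A} {x : A} (h : x ∈ s) : x ∈ Subgroup.closure s :=
  Subgroup.subset_closure h

theorem neg_one_val_pow {G : Type*} [Group G] {x : G} (hx : x ^ p = 1) :
    x ^ (-1 : ZMod p).val = x⁻¹ := by
  refine eq_inv_of_mul_eq_one_left ?_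
  rw [← pow_succ]
  refine orderOf_dvd_iff_pow_eq_one.1 ((orderOf_dvd_of_pow_eq_one hx).trans ?_)
  rw [← ZMod.natCast_eq_zero_iff, Nat.cast_add, ZMod.natCast_zmod_val, Nat.cast_one, neg_add_cancel]

/-- An elementary abelian essential subgroup of order `p³` moves inside a subgroup in which the
maps with larger sources move. -/
theorem cube_moves (hS : IsPGroup p S) (hF : F.IsSaturated p) (h5 : Nat.card S = p ^ 5)
    (hp2 : p ≠ 2) {E : Subgroup Ω} (hE : F.IsEssential p E) (hel : IsElementaryAbelian p E)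
    (h3 : Nat.card E = p ^ 3) {M : Subgroup Ω}
    (hbig : ∀ R g, IsMap F R g → Nat.card E < Nat.card R → ∀ t ∈ R, t⁻¹ * g t ∈ M) :
    ∀ α ∈ F.autGroup E, ∀ t ∈ E, t⁻¹ * autFun α t ∈ M := by
  classical
  have hpp := hp.out
  obtain ⟨u, c, l, e, D⟩ := exists_cubeData hS hF h5 hE hel h3
  haveI := finite_of_le hE.1.1
  obtain ⟨β, hβ, -, hβc, ⟨i, hβe⟩, -, -⟩ := D.torus (-1) (neg_ne_zero.2 one_ne_zero)
  have hcard : Nat.card E < Nat.card (normalizerIn S E) := by
    rw [D.card_norm, h3]; exact Nat.pow_lt_pow_right hpp.one_lt (by norm_num)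
  have hexp : ∀ x : E, (x : Ω) ^ p = 1 := fun x => hel.2 x x.2
  have hEN := le_normalizerIn (S := S) hE.1.1
  have hsq : ∀ {x : Ω}, x ^ p = 1 → x ^ 2 ∈ M → x ∈ M := fun {x} hx h => by
    obtain ⟨k, hk⟩ := hpp.odd_of_ne_two hp2
    have hxx : x = ((x ^ 2) ^ k)⁻¹ := by
      rw [eq_inv_iff_mul_eq_one, ← pow_mul, ← pow_succ', ← hk, hx]
    rw [hxx]
    exact M.inv_mem (M.pow_mem h k)
  have hc : (c : Ω) ∈ M := by
    refine hsq (hexp c) ?_
    have h := hbig _ β hβ hcard c (hEN c.2)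
    rw [hβc, inv_neg, inv_one, neg_one_val_pow (hexp c), ← mul_inv_rev, ← sq] at h
    exact inv_mem_iff.1 h
  have he : (e : Ω) ∈ M := by
    refine hsq (hexp e) ?_
    have h := hbig _ β hβ hcard e (hEN e.2)
    rw [hβe, neg_one_val_pow (hexp e), ← mul_assoc, ← mul_inv_rev, ← sq,
      Subgroup.mul_mem_cancel_right _ (M.pow_mem hc i)] at h
    exact inv_mem_iff.1 h
  refine moves_of_invariant hS hF hE (W := (Subgroup.closure ({c, e} : Set E)).map E.subtype)
    (Subgroup.map_subtype_le _) ?_ ?_ ?_ hbig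
  · rw [Subgroup.map_le_iff_le_comap]
    refine (Subgroup.closure_le _).2 ?_
    rintro _ (rfl | rfl)
    exacts [hc, he]
  · rintro α hα _ ⟨x, hx, rfl⟩
    rw [Subgroup.subtype_apply, autFun_coe]
    exact ⟨α x, D.inv α hα x hx, rfl⟩
  · rw [show ((Subgroup.closure ({c, e} : Set E)).map E.subtype).subgroupOf E =
      Subgroup.closure ({c, e} : Set E) from
        Subgroup.comap_map_eq_self_of_injective E.subtype_injective _]
    set W := Subgroup.closure ({c, e} : Set E) with hW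
    letI : CommGroup E := { (inferInstance : Group E) with mul_comm := hel.1.is_comm.comm }
    haveI : W.Normal := ⟨fun x hx g => by rwa [mul_comm g x, mul_inv_cancel_right]⟩
    rw [Subgroup.index_eq_card]
    have hgen : Subgroup.zpowers (QuotientGroup.mk' W l) = ⊤ := eq_top_iff.2 fun q _ => by
      obtain ⟨x, rfl⟩ := QuotientGroup.mk'_surjective W q
      obtain ⟨a, b, d, rfl⟩ := D.dec x
      have h1 : QuotientGroup.mk' W c = 1 :=
        (QuotientGroup.eq_one_iff c).2 (mem_cl (Set.mem_insert _ _))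
      have h2 : QuotientGroup.mk' W e = 1 :=
        (QuotientGroup.eq_one_iff e).2 (mem_cl (Set.mem_insert_of_mem _ rfl))
      rw [map_mul, map_mul, map_pow, map_pow, map_pow, h1, h2, one_pow, one_pow, one_mul, mul_one]
      exact pow_mem (Subgroup.mem_zpowers _) _
    rw [← Subgroup.card_top, ← hgen, Nat.card_zpowers]
    refine orderOf_dvd_of_pow_eq_one ?_
    rw [← map_pow, show l ^ p = 1 from Subtype.ext (by rw [SubmonoidClass.coe_pow]; exact hexp l),
      map_one]

theorem card_closure_pair {A : Type*} [CommGroup A] [Finite A] (hexp : ∀ x : A, x ^ p = 1) {c l : A}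
    (hc : c ≠ 1) (hl : l ∉ Subgroup.zpowers c) : Nat.card (Subgroup.closure ({c, l} : Set A)) = p ^ 2 := by
  haveI : (Subgroup.zpowers l).Normal := ⟨fun x hx g => by rwa [mul_comm g x, mul_inv_cancel_right]⟩
  have hsup : Subgroup.zpowers c ⊔ Subgroup.zpowers l = Subgroup.closure ({c, l} : Set A) := le_antisymm
    (sup_le (Subgroup.zpowers_le.2 (mem_cl (Set.mem_insert _ _)))
      (Subgroup.zpowers_le.2 (mem_cl (Set.mem_insert_of_mem _ rfl))))
    ((Subgroup.closure_le _).2 (by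
      rintro _ (rfl | rfl)
      exacts [Subgroup.mem_sup_left (Subgroup.mem_zpowers _),
        Subgroup.mem_sup_right (Subgroup.mem_zpowers _)]))
  have hl1 : l ≠ 1 := fun h => hl (h ▸ one_mem _)
  have h := Grp.card_sup_mul_card_inf_normal (H := Subgroup.zpowers c) (N := Subgroup.zpowers l)
  rw [hsup, show Subgroup.zpowers c ⊓ Subgroup.zpowers l = ⊥ from ?_, Subgroup.card_bot, mul_one,
    Nat.card_zpowers, Nat.card_zpowers, orderOf_eq_prime (hexp c) hc, orderOf_eq_prime (hexp l) hl1,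
    ← sq] at h
  · exact h
  · rw [eq_bot_iff]
    rintro x ⟨hxc, hxl⟩
    by_contra hx
    refine hl ?_
    have hz := CubeAut.zpowers_eq hexp hxl (fun h => hx (Subgroup.mem_bot.2 h))
    exact Subgroup.zpowers_le.2 hxc (hz.ge (Subgroup.mem_zpowers l))

set_option maxHeartbeats 1000000 in
/-- Without essential subgroups of index `p`, an elementary abelian essential subgroup of order `p³`
gives the configuration of class three with tori. -/
theorem cube_cfg (hS : IsPGroup p S) (hF : F.IsSaturated p) (h5 : Nat.card S = p ^ 5)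
    (hp2 : p ≠ 2) (hNA : NoA S p) (hnomax : ∀ P, F.IsEssential p P → Nat.card P ≠ p ^ 4)
    {E : Subgroup Ω} (hE : F.IsEssential p E) (hel : IsElementaryAbelian p E)
    (h3 : Nat.card E = p ^ 3) :
    ∃ e g u : S, CfgC S p e g u ∧ ∀ d : ZMod p, d ≠ 0 → ∃ φ ∈ F.autGroup S, ∃ me nu : S,
      (∀ t ∈ commutator S, Commute me t) ∧ φ e = e ^ d.val * me ∧ nu ∈ commutator S ∧
      φ u = u * nu := by
  classical
  have hpp := hp.out
  obtain ⟨u0, c, l, e, D⟩ := exists_cubeData hS hF h5 hE hel h3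
  have hES : E ≤ S := hE.2.1.1
  haveI := finite_of_le hES
  haveI : Finite ↥(normalizerIn S E) := finite_of_le (S := S) inf_le_left
  letI : CommGroup E := { (inferInstance : Group E) with mul_comm := hel.1.is_comm.comm }
  have hexp : ∀ x : E, x ^ p = 1 := fun x => Subtype.ext (hel.2 x x.2)
  obtain ⟨N, hNdef⟩ : ∃ N, N = normalizerIn S E := ⟨_, rfl⟩
  have hNS : N ≤ S := hNdef ▸ inf_le_left
  obtain ⟨N', hN'⟩ : ∃ N' : Subgroup S, N' = N.subgroupOf S := ⟨_, rfl⟩
  have hN4 : Nat.card N = p ^ 4 := hNdef ▸ D.card_norm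
  have hN'idx : N'.index = p := by
    have h := (N.subgroupOf S).card_mul_index
    rw [Nat.card_congr (Subgroup.subgroupOfEquivOfLe hNS).toEquiv, hN4, h5, pow_succ p 4, ← hN'] at h
    exact Nat.eq_of_mul_eq_mul_left (pow_pos hpp.pos 4) h
  haveI hN'n : N'.Normal := Subgroup.normal_of_index_eq_minFac_card (by
    rw [hN'idx, h5, Nat.Prime.pow_minFac hpp (by norm_num)])
  obtain ⟨ι, hι⟩ : ∃ ι : E →* S, ι = Subgroup.inclusion hES := ⟨_, rfl⟩
  have hιc : ∀ x : E, ((ι x : S) : Ω) = x := fun x => by rw [hι]; rfl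
  have hιinj : Function.Injective ι := hι ▸ Subgroup.inclusion_injective hES
  have hιN : ∀ x : E, ι x ∈ N' := fun x => by
    rw [hN', Subgroup.mem_subgroupOf, hιc, hNdef]; exact le_normalizerIn hES x.2
  have hmemE : ∀ s : S, (s : Ω) ∈ E → ∃ x : E, ι x = s := fun s hs => ⟨⟨s, hs⟩, Subtype.ext (hιc _)⟩
  obtain ⟨uS, huS⟩ : ∃ uS : S, uS = ⟨(u0 : Ω), u0.2.1⟩ := ⟨_, rfl⟩
  have huSc : (uS : Ω) = u0 := by rw [huS]
  have huSN : uS ∈ N' := by rw [hN', Subgroup.mem_subgroupOf, huSc, hNdef]; exact u0.2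
  obtain ⟨T, hT⟩ : ∃ T : MulAut E, T = ((cj F hES u0 : F.autGroup E) : MulAut E) := ⟨_, rfl⟩
  have hTι : ∀ x, uS * ι x * uS⁻¹ = ι (T x) := fun x => Subtype.ext (by
    rw [hT, Subgroup.coe_mul, Subgroup.coe_mul, Subgroup.coe_inv, hιc, hιc, huSc, cj_apply])
  have hTc : T c = c := hT ▸ D.fix_c
  have hTl : T l = l := hT ▸ D.fix_l
  have hTe : T e = c * e := hT ▸ D.move_e
  have hTk : ∀ (m i j k : ℕ), (T ^ m) (c ^ i * l ^ j * e ^ k) = c ^ (i + m * k) * l ^ j * e ^ k := by
    intro m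
    induction m with
    | zero => intro i j k; simp
    | succ m ih =>
      intro i j k
      rw [pow_succ', MulAut.mul_apply, ih, map_mul, map_mul, map_pow, map_pow, map_pow, hTc, hTl,
        hTe, mul_pow, ← mul_assoc, mul_right_comm (c ^ (i + m * k)) (l ^ j), ← pow_add, add_assoc,
        ← Nat.succ_mul]
  have hTι' : ∀ (m : ℕ) x, uS ^ m * ι x * (uS ^ m)⁻¹ = ι ((T ^ m) x) := by
    intro m
    induction m with
    | zero => intro x; simp
    | succ m ih =>
      intro x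
      rw [pow_succ' T, MulAut.mul_apply, ← hTι, ← ih, pow_succ', mul_inv_rev]
      simp only [mul_assoc]
  have hTd : ∀ (m : ℕ) x, (T ^ m) x * x⁻¹ ∈ Subgroup.zpowers c := fun m x => by
    obtain ⟨i, j, k, rfl⟩ := D.dec x
    rw [hTk, pow_add, mul_right_comm (c ^ i), mul_right_comm (c ^ i * l ^ j), mul_right_comm,
      mul_inv_cancel, one_mul]
    exact pow_mem (Subgroup.mem_zpowers c) _
  have hdecN : ∀ x ∈ N', ∃ m, ∃ b : E, x = ι b * uS ^ m := by
    intro x hx
    rw [hN', Subgroup.mem_subgroupOf, hNdef] at hx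
    obtain ⟨m, hm⟩ := D.gen ⟨x, hx⟩
    have h1 : cj F hES (⟨x, hx⟩ * (u0 ^ m)⁻¹) = 1 := by
      rw [map_mul, map_inv, map_pow, hm, mul_inv_cancel]
    have h2 := (cj_eq_one_iff (F := F) hES (centralizerIn_le_of_centric hE.1) mul_comm _).1 h1
    rw [Subgroup.coe_mul, Subgroup.coe_inv, SubmonoidClass.coe_pow] at h2
    refine ⟨m, ⟨_, h2⟩, Subtype.ext ?_⟩
    rw [Subgroup.coe_mul, SubmonoidClass.coe_pow, hιc, huSc, inv_mul_cancel_right]
  -- the derived subgroup of the normalizer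
  obtain ⟨cS, hcS⟩ : ∃ cS, cS = ι c := ⟨_, rfl⟩
  have hcomm : ∀ (m m' : ℕ) (b b' : E), ⁅ι b * uS ^ m, ι b' * uS ^ m'⁆ =
      ι ((T ^ m) b' * b'⁻¹ * ((T ^ m') b * b⁻¹)⁻¹) := by
    intro m m' b b'
    rw [show (T ^ m) b' * b'⁻¹ * ((T ^ m') b * b⁻¹)⁻¹ = b * (T ^ m) b' * ((T ^ m') b)⁻¹ * b'⁻¹ by
      rw [mul_inv, inv_inv]; simp only [mul_comm, mul_left_comm, mul_assoc], map_mul, map_mul, map_mul, map_inv, map_inv, ← hTι', ← hTι',
      commutatorElement_def]
    group
  have hC : ⁅N', N'⁆ = Subgroup.zpowers cS := by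
    refine le_antisymm (Subgroup.commutator_le.2 fun x hx y hy => ?_) (Subgroup.zpowers_le.2 ?_)
    · obtain ⟨m, b, rfl⟩ := hdecN x hx
      obtain ⟨m', b', rfl⟩ := hdecN y hy
      rw [hcomm, hcS, ← MonoidHom.map_zpowers]
      exact ⟨_, mul_mem (hTd m b') (inv_mem (hTd m' b)), rfl⟩
    · have h := Subgroup.commutator_mem_commutator huSN (hιN e)
      rwa [commutatorElement_def, hTι, hTe, map_mul, mul_inv_cancel_right, ← hcS] at h
  obtain ⟨C, hCdef⟩ : ∃ C : Subgroup S, C = Subgroup.zpowers cS := ⟨_, rfl⟩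
  haveI hCn : C.Normal := by rw [hCdef, ← hC]; infer_instance
  have hcp : cS ^ p = 1 := by rw [hcS, ← map_pow, hexp, map_one]
  have hc1 : cS ≠ 1 := fun h => D.c_ne (hιinj (by rw [← hcS, h, map_one]))
  have hCc : Nat.card C = p := by rw [hCdef, Nat.card_zpowers, orderOf_eq_prime hcp hc1]
  have hCZ : C ≤ Subgroup.center S := Lie.PComplCentral.le_center_of_card_prime hS C hCc
  have hcC : cS ∈ C := hCdef ▸ Subgroup.mem_zpowers cS
  have hcz : ∀ s : S, Commute cS s := fun s => (Subgroup.mem_center_iff.1 (hCZ hcC) s).symm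
  have hnot : ∀ {m : ℕ}, uS ^ m ∈ ι.range → p ∣ m := fun {m} ⟨x, hx⟩ => by
    have h := hTι' m e
    rw [← hx, ← map_inv, ← map_mul, ← map_mul, mul_comm x e, mul_inv_cancel_right] at h
    have h' := hιinj h
    rw [show e = c ^ 0 * l ^ 0 * e ^ 1 by simp, hTk] at h'
    simp only [pow_zero, one_mul, pow_one, zero_add, mul_one, mul_eq_right] at h'
    have := orderOf_dvd_of_pow_eq_one (mul_eq_right.1 h'.symm)
    rwa [orderOf_eq_prime (hexp c) D.c_ne] at this
  have hTfix : ∀ x, T x = x → x ∈ Subgroup.closure ({c, l} : Set E) := fun x hx => by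
    obtain ⟨i, j, k, rfl⟩ := D.dec x
    have h := hTk 1 i j k
    rw [pow_one, hx, one_mul, pow_add] at h
    have hk : c ^ k = 1 := by
      have h' := mul_right_cancel (mul_right_cancel h)
      exact mul_left_cancel (a := c ^ i) (by rw [mul_one]; exact h'.symm)
    have hd := orderOf_dvd_of_pow_eq_one hk
    rw [orderOf_eq_prime (hexp c) D.c_ne] at hd
    obtain ⟨q, rfl⟩ := hd
    rw [pow_mul e, hexp, one_pow, mul_one]
    have hcm : c ∈ Subgroup.closure ({c, l} : Set E) := mem_cl (Set.mem_insert _ _)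
    have hlm : l ∈ Subgroup.closure ({c, l} : Set E) := mem_cl (Set.mem_insert_of_mem _ rfl)
    exact Subgroup.mul_mem _ (Subgroup.pow_mem _ hcm i) (Subgroup.pow_mem _ hlm j)
  -- the centre of the normalizer
  obtain ⟨H, hH⟩ : ∃ H : Subgroup S, H = (Subgroup.closure ({c, l} : Set E)).map ι := ⟨_, rfl⟩
  have hHfix : ∀ x ∈ Subgroup.closure ({c, l} : Set E), T x = x := by
    intro x hx
    induction hx using Subgroup.closure_induction with
    | mem x hx => rcases hx with rfl | rfl <;> assumption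
    | one => simp
    | mul a b _ _ iha ihb => rw [map_mul, iha, ihb]
    | inv a _ iha => rw [map_inv, iha]
  have hHN : H = N' ⊓ Subgroup.centralizer (N' : Set S) := by
    rw [hH]
    apply le_antisymm
    · rintro _ ⟨x, hx, rfl⟩
      refine ⟨hιN x, Subgroup.mem_centralizer_iff.2 fun y hy => ?_⟩
      obtain ⟨m, b, rfl⟩ := hdecN y hy
      have h := hcomm m 0 b x
      have hfix : ∀ n : ℕ, (T ^ n) x = x := fun n => by
        induction n with
        | zero => rfl
        | succ n ih => rw [pow_succ', MulAut.mul_apply, ih, hHfix x hx]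
      rw [hfix m, pow_zero, pow_zero, MulAut.one_apply, mul_inv_cancel, mul_inv_cancel, inv_one,
        mul_one, mul_one, map_one] at h
      exact commutatorElement_eq_one_iff_mul_comm.1 h
    · rintro x ⟨hxN, hxC⟩
      obtain ⟨m, b, rfl⟩ := hdecN x hxN
      have hm : p ∣ m := by
        have h1 : ⁅ι b * uS ^ m, ι e * uS ^ 0⁆ = 1 := by
          rw [pow_zero, mul_one]
          exact commutatorElement_eq_one_iff_mul_comm.2
            (Subgroup.mem_centralizer_iff.1 hxC _ (hιN e)).symm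
        rw [hcomm, pow_zero, MulAut.one_apply, mul_inv_cancel, inv_one, mul_one] at h1
        have h2 := hιinj (h1.trans (map_one ι).symm)
        rw [show e = c ^ 0 * l ^ 0 * e ^ 1 by simp, hTk] at h2
        simp only [pow_zero, one_mul, pow_one, zero_add, mul_one, mul_inv_cancel_right] at h2
        have := orderOf_dvd_of_pow_eq_one h2
        rwa [orderOf_eq_prime (hexp c) D.c_ne] at this
      have hum : uS ^ m ∈ ι.range := by
        refine (fun h => ?_ : (uS ^ m : S).1 ∈ E → _) ?_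
        · obtain ⟨y, hy⟩ := hmemE _ h; exact ⟨y, hy⟩
        rw [SubmonoidClass.coe_pow, huSc, ← SubmonoidClass.coe_pow]
        refine (cj_eq_one_iff (F := F) hES (centralizerIn_le_of_centric hE.1) mul_comm _).1 ?_
        refine Subtype.ext ?_
        rw [map_pow, SubmonoidClass.coe_pow, ← hT]
        refine MulEquiv.ext fun x => ?_
        obtain ⟨i, j, k, rfl⟩ := D.dec x
        obtain ⟨q, rfl⟩ := hm
        rw [hTk, mul_assoc p q k, pow_add, pow_mul c p, hexp, one_pow, mul_one]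
        rfl
      obtain ⟨y, hy⟩ := hum
      refine ⟨b * y, ?_, by rw [map_mul, hy]⟩
      refine hTfix _ (hιinj ?_)
      rw [← hTι, map_mul, hy]
      exact mul_inv_eq_iff_eq_mul.2 (Subgroup.mem_centralizer_iff.1 hxC _ huSN)
  haveI hHn : H.Normal := by rw [hHN]; infer_instance
  have hH2 : Nat.card H = p ^ 2 := by
    rw [hH, Subgroup.card_map_of_injective hιinj]
    exact card_closure_pair hexp D.c_ne D.l_not
  have hcH : cS ∈ H := by
    rw [hH, hcS]; exact ⟨c, mem_cl (Set.mem_insert _ _), rfl⟩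
  have hlH : ι l ∈ H := by
    rw [hH]; exact ⟨l, mem_cl (Set.mem_insert_of_mem _ rfl), rfl⟩
  have hCH : C ≤ H := hCdef ▸ Subgroup.zpowers_le.2 hcH
  have hHdec : ∀ h ∈ H, ∃ i j : ℕ, h = cS ^ i * ι l ^ j := fun h hh => by
    rw [hH] at hh
    obtain ⟨x, hx, rfl⟩ := hh
    have hx' : x ∈ Subgroup.zpowers c ⊔ Subgroup.zpowers l := (Subgroup.closure_le _).2 (by
      rintro _ (rfl | rfl)
      exacts [Subgroup.mem_sup_left (Subgroup.mem_zpowers _),
        Subgroup.mem_sup_right (Subgroup.mem_zpowers _)]) hx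
    obtain ⟨_, h1, _, h2, rfl⟩ := Subgroup.mem_sup.1 hx'
    obtain ⟨i, rfl⟩ := (isOfFinOrder_of_finite c).mem_powers_iff_mem_zpowers.2 h1
    obtain ⟨j, rfl⟩ := (isOfFinOrder_of_finite l).mem_powers_iff_mem_zpowers.2 h2
    exact ⟨i, j, by simp [hcS]⟩
  -- quotients
  set π1 := QuotientGroup.mk' C
  set π2 := QuotientGroup.mk' H
  have hπ1 : ∀ {x : S}, π1 x = 1 ↔ x ∈ C := fun {x} => QuotientGroup.eq_one_iff x
  have hπ2 : ∀ {x : S}, π2 x = 1 ↔ x ∈ H := fun {x} => QuotientGroup.eq_one_iff x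
  have hl1 : ∀ s : S, Commute (π1 s) (π1 (ι l)) := by
    have hle : H.map π1 ≤ Subgroup.center (S ⧸ C) := by
      haveI : (H.map π1).Normal := Subgroup.Normal.map inferInstance π1 (QuotientGroup.mk'_surjective C)
      refine Lie.PComplCentral.le_center_of_card_prime (p := p) (hS.to_quotient C) _ ?_
      have h := Subgroup.card_mul_index (C.subgroupOf H)
      rw [Nat.card_congr (Subgroup.subgroupOfEquivOfLe hCH).toEquiv, hCc, hH2, sq] at h
      rw [← Nat.eq_of_mul_eq_mul_left hpp.pos h, ← Subgroup.relIndex, Subgroup.relIndex]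
      have e1 : ((π1.comp H.subtype)).ker = C.subgroupOf H := Subgroup.ext fun y =>
        MonoidHom.mem_ker.trans (hπ1.trans Subgroup.mem_subgroupOf.symm)
      rw [← e1, Subgroup.index_ker, MonoidHom.range_comp, Subgroup.range_subtype]
    intro s
    exact Subgroup.mem_center_iff.1 (hle ⟨ι l, hlH, rfl⟩) (π1 s)
  -- the element outside the normalizer
  obtain ⟨g, hg⟩ : ∃ g : S, g ∉ N' := by
    by_contra h
    push Not at h
    rw [(eq_top_iff.2 fun s _ => h s : N' = ⊤), Subgroup.index_top] at hN'idx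
    exact hpp.ne_one hN'idx.symm
  obtain ⟨v, hv⟩ : ∃ v, v = ⁅g, ι e⁆ := ⟨_, rfl⟩
  have hvN : v ∈ N' := by
    rw [hv, commutatorElement_def]; exact mul_mem (hN'n.conj_mem _ (hιN e) g) (inv_mem (hιN e))
  have hvE : v ∉ ι.range := by
    rintro ⟨x, hx⟩
    refine hg ?_
    have hconj : ∀ y : E, (g : Ω) * y * (g : Ω)⁻¹ ∈ E := by
      intro y
      have hHE : ∀ h ∈ H, ((g * h * g⁻¹ : S) : Ω) ∈ E := fun h hh => by
        have h' := hHn.conj_mem h hh g
        rw [hH] at h'
        obtain ⟨w, -, hw⟩ := h'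
        rw [← hw, hιc]; exact w.2
      have hcl : ∀ w ∈ Subgroup.closure ({c, l, e} : Set E), (g : Ω) * w * (g : Ω)⁻¹ ∈ E := by
        intro w hw
        induction hw using Subgroup.closure_induction with
        | mem w hw =>
          rcases hw with rfl | rfl | rfl
          · simpa [hcS, hιc] using hHE _ hcH
          · simpa [hιc] using hHE _ hlH
          · have h1 : g * ι w * g⁻¹ = ι (x * w) := by
              rw [map_mul, hx, hv, commutatorElement_def, inv_mul_cancel_right]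
            have h2 := congrArg (fun s : S => (s : Ω)) h1
            simp only [Subgroup.coe_mul, Subgroup.coe_inv, hιc] at h2
            rw [h2]; exact E.mul_mem x.2 w.2
        | one => simp
        | mul a b _ _ iha ihb => simpa [mul_assoc] using E.mul_mem iha ihb
        | inv a _ iha => simpa [mul_assoc] using E.inv_mem iha
      refine hcl y ?_
      obtain ⟨i, j, k, rfl⟩ := D.dec y
      exact mul_mem (mul_mem (pow_mem (mem_cl (by simp)) i)
        (pow_mem (mem_cl (by simp)) j)) (pow_mem (mem_cl (by simp)) k)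
    rw [hN', Subgroup.mem_subgroupOf, hNdef]
    refine ⟨g.2, ?_⟩
    have hle : E.map (MulAut.conj (g : Ω)).toMonoidHom ≤ E := by
      rintro _ ⟨y, hy, rfl⟩; exact hconj ⟨y, hy⟩
    have he : E.map (MulAut.conj (g : Ω)).toMonoidHom = E := Subgroup.eq_of_le_of_card_ge hle
      (Subgroup.card_map_of_injective (MulAut.conj (g : Ω)).injective).ge
    refine mem_normalizer_of_forall (fun y hy => hconj ⟨y, hy⟩) fun y hy => ?_
    obtain ⟨w, hw, hwe⟩ := he.ge hy
    rw [← hwe]
    simpa [mul_assoc] using hw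
  obtain ⟨mv, bv, hvd⟩ := hdecN v hvN
  have hmv : ¬ p ∣ mv := by
    rintro ⟨q, rfl⟩
    refine hvE ?_
    have hu : uS ^ (p * q) ∈ ι.range := by
      refine (fun h => ?_ : (uS ^ (p * q) : S).1 ∈ E → _) ?_
      · obtain ⟨y, hy⟩ := hmemE _ h; exact ⟨y, hy⟩
      rw [SubmonoidClass.coe_pow, huSc, ← SubmonoidClass.coe_pow]
      refine (cj_eq_one_iff (F := F) hES (centralizerIn_le_of_centric hE.1) mul_comm _).1 ?_
      refine Subtype.ext ?_
      rw [map_pow, SubmonoidClass.coe_pow, ← hT]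
      refine MulEquiv.ext fun x => ?_
      obtain ⟨i, j, k, rfl⟩ := D.dec x
      rw [hTk, mul_assoc p q k, pow_add, pow_mul c p, hexp, one_pow, mul_one]
      rfl
    obtain ⟨y, hy⟩ := hu
    exact ⟨bv * y, by rw [map_mul, hy, hvd]⟩
  have hm0 : (mv : ZMod p) ≠ 0 := fun h => hmv ((ZMod.natCast_eq_zero_iff mv p).1 h)
  have hev : ∀ m : ℕ, ⁅ι e ^ m, v⁆ = (cS ^ (mv * m))⁻¹ := by
    intro m
    have h := hcomm 0 mv (e ^ m) bv
    rw [pow_zero, pow_zero, MulAut.one_apply, mul_inv_cancel, one_mul, mul_one, map_pow ι,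
      show e ^ m = c ^ 0 * l ^ 0 * e ^ m by simp, hTk, ← hvd] at h
    simp only [pow_zero, one_mul, zero_add, mul_one, mul_inv_cancel_right, map_inv, map_pow] at h
    rw [h, hcS]
  -- the factor of order `p³`
  have hQ3 : Nat.card (S ⧸ H) = p ^ 3 := by
    rw [← Subgroup.index_eq_card]
    have h := H.card_mul_index
    rw [hH2, h5, show p ^ 5 = p ^ 2 * p ^ 3 by ring] at h
    exact Nat.eq_of_mul_eq_mul_left (pow_pos hpp.pos 2) h
  have hvH : π2 v ≠ 1 := fun h => hvE (by
    obtain ⟨w, -, hw⟩ := (hH ▸ hπ2.1 h : v ∈ (Subgroup.closure ({c, l} : Set E)).map ι)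
    exact ⟨w, hw⟩)
  have hvd2 : π2 v = ⁅π2 g, π2 (ι e)⁆ := by rw [hv, map_commutatorElement]
  have hvz : ∀ q, Commute (π2 v) q := fun q => by
    have hna : ¬ IsMulCommutative (S ⧸ H) := fun hc => hvH (by
      rw [hvd2]; exact commutatorElement_eq_one_iff_mul_comm.2 (hc.is_comm.comm _ _))
    obtain ⟨-, hz, -⟩ := MaxClass.cube_center hQ3 hna
    rw [hvd2]
    exact (Subgroup.mem_center_iff.1 (hz _ _) q).symm
  have hvp : π2 v ^ p = 1 := by
    rw [hvd2, ← comm_pow_right (fun q => hvd2 ▸ hvz q), ← map_pow, ← map_pow, hexp, map_one,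
      map_one, commutatorElement_one_right]
  -- extensions of the tori
  haveI : Finite ↥N := finite_of_le hNS
  have hNn : normalizerIn S N = S := by
    refine inf_eq_left.2 fun s hs => mem_normalizer_of_forall ?_ ?_
    · intro x hx
      have := hN'n.conj_mem ⟨x, hNS hx⟩ (by rw [hN']; exact hx) ⟨s, hs⟩
      rw [hN'] at this; exact this
    · intro x hx
      have := hN'n.conj_mem ⟨x, hNS hx⟩ (by rw [hN']; exact hx) ⟨s, hs⟩⁻¹
      rw [hN'] at this; simpa [Subgroup.mem_subgroupOf] using this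
  have hphi : ∀ d : ZMod p, d ≠ 0 → ∃ φ ∈ F.autGroup S, φ cS = cS ^ (d⁻¹).val ∧
      (∃ i : ℕ, φ (ι e) = ι e ^ d.val * cS ^ i) ∧ (∃ i : ℕ, φ (ι l) = ι l * cS ^ i) ∧
      ∃ x : E, φ uS = ι x * uS ^ (d⁻¹ * d⁻¹).val := by
    intro d hd
    obtain ⟨β, hβ, hβN, hβc, ⟨i, hβe⟩, ⟨i', hβl⟩, hβu⟩ := D.torus d hd
    rw [← hNdef] at hβ hβN
    obtain ⟨α, hα, hαe⟩ :=
      hβ.exists_aut (Subgroup.eq_of_le_of_card_ge (fimg_le hβN) hβ.card_fimg.ge)
    have hcen : F.IsCentric N := centric_mono hE.1 (hNdef ▸ le_normalizerIn hES) hNS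
    have hfn : F.IsFullyNormalized N := ⟨hNS, fun Q _ => by
      rw [hNn]; exact Subgroup.card_le_of_le inf_le_left⟩
    obtain ⟨β', hβ', hβ'e, -⟩ := extend_of_not_essential hS hF hcen hfn
      (by rw [hNn, ← hN']; exact hN'idx) (fun h => hnomax N h hN4) hα
    obtain ⟨φ, hφ, hφe⟩ := exists_top_aut (F := F) (β := β') (by rw [hNn] at hβ'; exact hβ')
    have key : ∀ x : Ω, ∀ hx : x ∈ N, ((φ ⟨x, hNS hx⟩ : S) : Ω) = β x := fun x hx => by
      rw [hφe, hβ'e ⟨x, hx⟩, ← autFun_coe, hαe x hx]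
    have keyι : ∀ x : E, ((φ (ι x) : S) : Ω) = β x := fun x => by
      have hxN : (x : Ω) ∈ N := hNdef ▸ le_normalizerIn hES x.2
      rw [← key x hxN]; exact congrArg (fun s => ((φ s : S) : Ω)) (Subtype.ext (hιc x))
    refine ⟨φ, hφ, Subtype.ext ?_, ⟨i, Subtype.ext ?_⟩, ⟨i', Subtype.ext ?_⟩, ?_⟩
    · rw [hcS, keyι, hβc, SubmonoidClass.coe_pow, hιc]
    · rw [keyι, hβe, Subgroup.coe_mul, SubmonoidClass.coe_pow, SubmonoidClass.coe_pow, hcS, hιc, hιc]
    · rw [keyι, hβl, Subgroup.coe_mul, SubmonoidClass.coe_pow, hcS, hιc, hιc]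
    · refine ⟨⟨_, hβu⟩, Subtype.ext ?_⟩
      have hu0N : (u0 : Ω) ∈ N := hNdef ▸ u0.2
      rw [Subgroup.coe_mul, SubmonoidClass.coe_pow, hιc, huSc, inv_mul_cancel_right, ← key _ hu0N]
      exact congrArg (fun s => ((φ s : S) : Ω)) huS
  -- the inverting automorphism shows that `⁅g, v⁆` is central
  have hgv : ∃ i : ℕ, ⁅g, v⁆ = cS ^ i := by
    have hgv2 : ⁅g, v⁆ ∈ H := hπ2.1 (by
      rw [map_commutatorElement]
      exact commutatorElement_eq_one_iff_mul_comm.2 (hvz (π2 g)).symm.eq)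
    obtain ⟨i, j, hij⟩ := hHdec _ hgv2
    obtain ⟨φ, -, hφc, ⟨ie, hφe⟩, ⟨il, hφl⟩, x0, hφu⟩ := hphi (-1) (neg_ne_zero.2 one_ne_zero)
    have hn1 : ((-1 : ZMod p)⁻¹ * (-1 : ZMod p)⁻¹).val = 1 := by
      rw [inv_neg, inv_one, neg_mul_neg, one_mul, ZMod.val_one]
    rw [hn1, pow_one] at hφu
    rw [inv_neg, inv_one, neg_one_val_pow hcp] at hφc
    rw [neg_one_val_pow (show ι e ^ p = 1 by rw [← map_pow, hexp, map_one])] at hφe
    have hφH : ∀ h ∈ H, φ h ∈ H := fun h hh => by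
      obtain ⟨a, b, rfl⟩ := hHdec h hh
      rw [map_mul, map_pow, map_pow, hφc, hφl]
      exact mul_mem (pow_mem (inv_mem hcH) a) (pow_mem (mul_mem hlH (pow_mem hcH il)) b)
    have hφE : ∀ x : E, ∃ y : E, φ (ι x) = ι y := fun x => by
      obtain ⟨a, b, k, rfl⟩ := D.dec x
      refine ⟨(c⁻¹) ^ a * (l * c ^ il) ^ b * (e⁻¹ * c ^ ie) ^ k, ?_⟩
      simp only [map_mul, map_pow, map_inv]
      rw [← hcS, hφc, hφl, hφe]
    have hφv : ∃ y : E, φ v = ι y * v := by
      obtain ⟨y1, hy1⟩ := hφE bv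
      have hpow : ∀ m, ∃ y : E, (ι x0 * uS) ^ m = ι y * uS ^ m := by
        intro m
        induction m with
        | zero => exact ⟨1, by simp⟩
        | succ m ih =>
          obtain ⟨y, hy⟩ := ih
          refine ⟨y * (T ^ m) x0, ?_⟩
          rw [pow_succ, hy, map_mul, ← hTι', pow_succ uS m]
          group
      obtain ⟨y2, hy2⟩ := hpow mv
      exact ⟨y1 * y2 * bv⁻¹, by
        rw [hvd, map_mul φ, map_pow φ, hφu, hy1, hy2, map_mul, map_mul, map_inv]; group⟩
    -- the action on `S ⧸ N'`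
    haveI : IsCyclic (S ⧸ N') :=
      isCyclic_of_prime_card (p := p) (by rw [← Subgroup.index_eq_card, hN'idx])
    obtain ⟨b, hb⟩ : ∃ b : ℕ, φ g * (g ^ b)⁻¹ ∈ N' := by
      have hne : QuotientGroup.mk' N' g ≠ 1 := fun h => hg ((QuotientGroup.eq_one_iff g).1 h)
      haveI : Fact (Nat.card (S ⧸ N')).Prime := ⟨by rw [← Subgroup.index_eq_card, hN'idx]; exact hpp⟩
      have htop := ((Subgroup.zpowers (QuotientGroup.mk' N' g)).eq_bot_or_eq_top_of_prime_card).resolve_left
        (fun h => hne (Subgroup.zpowers_eq_bot.1 h))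
      obtain ⟨b, hb⟩ := (isOfFinOrder_of_finite (QuotientGroup.mk' N' g)).mem_powers_iff_mem_zpowers.2
        (htop.ge (Subgroup.mem_top (QuotientGroup.mk' N' (φ g))))
      refine ⟨b, (QuotientGroup.eq_one_iff _).1 ?_⟩
      show QuotientGroup.mk' N' (φ g * (g ^ b)⁻¹) = 1
      rw [map_mul, map_inv, map_pow, mul_inv_eq_one]; exact hb.symm
    obtain ⟨x, hx, hφg⟩ : ∃ x ∈ N', φ g = x * g ^ b := ⟨_, hb, (inv_mul_cancel_right _ _).symm⟩
    have hNab : ∀ y ∈ N', ∀ y' ∈ N', Commute (π2 y) (π2 y') := fun y hy y' hy' =>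
      commutatorElement_eq_one_iff_mul_comm.1 (by
        rw [← map_commutatorElement]
        exact hπ2.2 (hCH (hCdef.symm ▸ hC.le (Subgroup.commutator_mem_commutator hy hy'))))
    have hφv2 : π2 (φ v) * π2 v ^ b = 1 := by
      rw [hv, map_commutatorElement φ, hφg, hφe, map_commutatorElement π2 g, map_commutatorElement π2,
        map_mul π2, map_mul π2, map_pow, map_inv, map_pow π2, (hπ2.2 hcH : π2 cS = 1), one_pow,
        mul_one, ← hvd2,
        show ⁅π2 x * π2 g ^ b, (π2 (ι e))⁻¹⁆ = π2 x * ⁅π2 g ^ b, (π2 (ι e))⁻¹⁆ * (π2 x)⁻¹ *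
          ⁅π2 x, (π2 (ι e))⁻¹⁆ by simp only [commutatorElement_def]; group,
        commutatorElement_eq_one_iff_mul_comm.2 ((hNab x hx _ (hιN e)).inv_right.eq), mul_one]
      have h1 : ⁅π2 g ^ b, (π2 (ι e))⁻¹⁆ = (π2 v ^ b)⁻¹ := by
        have hh := comm_pow_pow (a := π2 g) (b := π2 (ι e)) (m := 1) (n := 1)
          (fun q => hvd2 ▸ hvz q) (Commute.one_left _) (Commute.one_right _) (Commute.one_left _) b 1
        rw [mul_one, mul_one, pow_one, mul_one, ← hvd2] at hh
        rw [show ⁅π2 g ^ b, (π2 (ι e))⁻¹⁆ = (π2 (ι e))⁻¹ * ⁅π2 g ^ b, π2 (ι e)⁆⁻¹ * π2 (ι e) by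
          simp only [commutatorElement_def]; group, hh]
        rw [mul_assoc, ((hvz (π2 (ι e))).pow_left b).inv_left.eq, inv_mul_cancel_left]
      rw [h1, ((hvz (π2 x)).pow_left b).inv_left.symm.eq, mul_inv_cancel_right, inv_mul_cancel]
    obtain ⟨y, hy⟩ := hφv
    have hbp : p ∣ b + 1 := by
      have h : φ v * v ^ b ∈ H := hπ2.1 (by rw [map_mul, map_pow]; exact hφv2)
      rw [hy, mul_assoc, ← pow_succ', hH] at h
      obtain ⟨w, -, hw⟩ := h
      have hv1 : v ^ (b + 1) = ι (y⁻¹ * w) := by rw [map_mul, map_inv, hw, inv_mul_cancel_left]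
      by_contra hnd
      refine hvE ?_
      have hco : (b + 1).Coprime p := (hpp.coprime_iff_not_dvd.2 hnd).symm
      have hvpH : v ^ p ∈ ι.range := by
        have := hπ2.1 (show π2 (v ^ p) = 1 by rw [map_pow, hvp])
        rw [hH] at this
        obtain ⟨z, -, hz⟩ := this
        exact ⟨z, hz⟩
      have h2 : v ^ ((b + 1).gcd p : ℤ) ∈ ι.range := by
        rw [Nat.gcd_eq_gcd_ab, zpow_add, zpow_mul, zpow_mul, zpow_natCast, zpow_natCast]
        have hv1' : v ^ (b + 1) ∈ ι.range := ⟨_, hv1.symm⟩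
        exact mul_mem (zpow_mem hv1' _) (zpow_mem hvpH _)
      rwa [hco, Nat.cast_one, zpow_one] at h2
    have hφvH : ∃ h ∈ H, φ v = h * v := by
      refine ⟨φ v * v⁻¹, hπ2.1 ?_, (inv_mul_cancel_right _ _).symm⟩
      obtain ⟨q, hq⟩ := hbp
      have h1 : (π2 v)⁻¹ = π2 v ^ b := inv_eq_of_mul_eq_one_right (by
        rw [← pow_succ', hq, pow_mul, hvp, one_pow])
      rw [map_mul, map_inv, h1]; exact hφv2
    obtain ⟨h', hh', hφv'⟩ := hφvH
    obtain ⟨x', hx', hφg'⟩ : ∃ x' ∈ N', φ g = x' * g⁻¹ := by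
      obtain ⟨q, hq⟩ := hbp
      refine ⟨x * g ^ (b + 1), mul_mem hx ?_, by rw [hφg, pow_succ]; group⟩
      rw [hq, pow_mul]
      exact pow_mem (hN'idx ▸ N'.pow_index_mem g) q
    have hcen : ∀ {h : S}, h ∈ H → ∀ q, Commute (π1 h) (π1 q) := fun {h} hh q => by
      obtain ⟨a, a', rfl⟩ := hHdec h hh
      rw [map_mul, map_pow, map_pow, hπ1.2 hcC, one_pow, one_mul]
      exact ((hl1 q).symm.pow_left a')
    have hC1 : ∀ y ∈ N', ∀ y' ∈ N', ⁅π1 y, π1 y'⁆ = 1 := fun y hy y' hy' => by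
      rw [← map_commutatorElement]
      exact hπ1.2 (hCdef.symm ▸ hC.le (Subgroup.commutator_mem_commutator hy hy'))
    have e1 : π1 (φ ⁅g, v⁆) = π1 (ι l) ^ j := by
      rw [hij, map_mul φ, map_pow φ, map_pow φ, hφc, hφl, map_mul π1, map_pow, map_pow, map_inv,
        map_mul, map_pow, hπ1.2 hcC, inv_one, one_pow, one_pow, one_mul, mul_one]
    have e2 : π1 (φ ⁅g, v⁆) = (π1 (ι l) ^ j)⁻¹ := by
      have h0 : ⁅π1 g, π1 v⁆ = π1 (ι l) ^ j := by
        rw [← map_commutatorElement, hij, map_mul, map_pow, map_pow, hπ1.2 hcC, one_pow, one_mul]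
      have hh1 : Commute (π1 h') ⁅π1 g⁻¹, π1 v⁆ := by
        rw [← map_commutatorElement]; exact hcen hh' _
      rw [map_commutatorElement φ, hφg', hφv', map_commutatorElement π1, map_mul π1, map_mul π1,
        show ⁅π1 x' * π1 g⁻¹, π1 h' * π1 v⁆ = π1 x' * (⁅π1 g⁻¹, π1 h'⁆ *
          (π1 h' * ⁅π1 g⁻¹, π1 v⁆ * (π1 h')⁻¹)) * (π1 x')⁻¹ * ⁅π1 x', π1 h' * π1 v⁆ by
          simp only [commutatorElement_def]; group,
        commutatorElement_eq_one_iff_mul_comm.2 (hcen hh' g⁻¹).symm.eq, one_mul,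
        hh1.eq, mul_inv_cancel_right,
        show ⁅π1 x', π1 h' * π1 v⁆ = 1 by rw [← map_mul]; exact hC1 x' hx' _ (mul_mem (by
          obtain ⟨w, -, hw⟩ := (hH ▸ hh' : h' ∈ (Subgroup.closure ({c, l} : Set E)).map ι)
          exact hw ▸ hιN w) hvN), mul_one,
        map_inv,
        show ⁅(π1 g)⁻¹, π1 v⁆ = (π1 g)⁻¹ * ⁅π1 g, π1 v⁆⁻¹ * π1 g by
          simp only [commutatorElement_def]; group, h0]
      have e3 : (π1 g)⁻¹ * (π1 (ι l) ^ j)⁻¹ * π1 g = (π1 (ι l) ^ j)⁻¹ := by
        rw [mul_assoc, ((hl1 g).symm.pow_left j).inv_left.eq, inv_mul_cancel_left]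
      rw [e3, ((hl1 x').pow_right j).inv_right.eq, mul_inv_cancel_right]
    have h2j : ι l ^ (j + j) ∈ C := hπ1.1 (by
      rw [map_pow, pow_add]
      conv_lhs => arg 1; rw [← e1, e2]
      rw [inv_mul_cancel])
    obtain ⟨q, hq⟩ : p ∣ j := by
      by_contra hnd
      refine D.l_not ?_
      rw [hCdef, hcS, ← MonoidHom.map_zpowers, ← map_pow] at h2j
      obtain ⟨w, hw, hwe⟩ := h2j
      have hlj : l ^ (j + j) ∈ Subgroup.zpowers c := hιinj hwe ▸ hw
      have h0 : ((j + j : ℕ) : ZMod p) ≠ 0 := by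
        rw [Ne, ZMod.natCast_eq_zero_iff]
        intro hd
        rw [← two_mul] at hd
        rcases hpp.dvd_mul.1 hd with h | h
        · exact hp2 ((Nat.prime_dvd_prime_iff_eq hpp Nat.prime_two).1 h)
        · exact hnd h
      obtain ⟨k, hk⟩ := RankTwo.exists_pow_eq (hexp l) h0
      rw [← hk]; exact pow_mem hlj k
    refine ⟨i, ?_⟩
    rw [hij, hq, ← map_pow, pow_mul l, hexp, one_pow, map_one, mul_one]
  obtain ⟨i, hgv⟩ := hgv
  obtain ⟨g', hg'⟩ : ∃ g', g' = g * ι e ^ (((i : ZMod p) * (mv : ZMod p)⁻¹).val) := ⟨_, rfl⟩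
  have hg'v : Commute g' v := by
    refine commutatorElement_eq_one_iff_mul_comm.1 ?_
    set m := ((i : ZMod p) * (mv : ZMod p)⁻¹).val
    rw [hg', show ⁅g * ι e ^ m, v⁆ = g * ⁅ι e ^ m, v⁆ * g⁻¹ * ⁅g, v⁆ by
      simp only [commutatorElement_def]; group, hev, hgv,
      ← ((hcz g).pow_left _).inv_left.eq, mul_inv_cancel_right, inv_mul_eq_one]
    refine RankTwo.pow_eq_of_cast hcp ?_
    rw [Nat.cast_mul, ZMod.natCast_zmod_val, mul_left_comm, mul_inv_cancel₀ hm0, mul_one]
  have hy : ⁅g', ι e⁆ = v := by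
    rw [hg', show ⁅g * ι e ^ ((i : ZMod p) * (mv : ZMod p)⁻¹).val, ι e⁆ = ⁅g, ι e⁆ by
      simp only [commutatorElement_def]; group, ← hv]
  have hg'N : g' ∉ N' := fun h => hg (by
    rw [hg'] at h
    exact (Subgroup.mul_mem_cancel_right _ (pow_mem (hιN e) _)).1 h)
  have hz : ⁅g', ι l⁆ ∈ C := hπ1.1 (by
    rw [map_commutatorElement]
    exact commutatorElement_eq_one_iff_mul_comm.2 (hl1 g').eq)
  have hlN : ∀ y ∈ N', Commute y (ι l) := fun y hy =>
    Subgroup.mem_centralizer_iff.1 (hHN.le hlH).2 y hy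
  have hz1 : ⁅g', ι l⁆ ≠ 1 := by
    intro h
    have hgl : Commute g' (ι l) := commutatorElement_eq_one_iff_mul_comm.1 h
    obtain ⟨A, hA⟩ : ∃ A, A = Subgroup.closure ({g', v, cS, ι l} : Set S) := ⟨_, rfl⟩
    have hab : ∀ a ∈ A, ∀ b ∈ A, a * b = b * a := by
      have hle : A ≤ Subgroup.centralizer (A : Set S) := by
        rw [hA, Subgroup.closure_le, Subgroup.centralizer_closure]
        intro x hx
        rw [SetLike.mem_coe, Subgroup.mem_centralizer_iff]
        intro y hy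
        rcases hx with rfl | rfl | rfl | rfl <;> rcases hy with rfl | rfl | rfl | rfl <;>
          first
            | rfl
            | exact hg'v.eq | exact hg'v.symm.eq | exact hgl.eq | exact hgl.symm.eq
            | exact (hlN _ hvN).eq | exact (hlN _ hvN).symm.eq
            | exact (hcz _).eq | exact (hcz _).symm.eq
      exact fun a ha b hb => Subgroup.mem_centralizer_iff.1 (hle hb) a ha
    have hne : A ≠ ⊤ := fun he => hNA N' hN'idx fun a _ b _ =>
      hab a (he.ge (Subgroup.mem_top a)) b (he.ge (Subgroup.mem_top b))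
    refine hNA A ?_ hab
    have hHA : H < A ⊓ N' := by
      refine lt_of_le_of_ne (le_inf (fun x hx => ?_) (hHN.le.trans inf_le_left)) fun he => hvH ?_
      · obtain ⟨a, b, rfl⟩ := hHdec x hx
        rw [hA]
        exact mul_mem (pow_mem (mem_cl (by simp)) a)
          (pow_mem (mem_cl (by simp)) b)
      · exact hπ2.2 (he.ge ⟨hA ▸ mem_cl (by simp), hvN⟩)
    have hlt : A ⊓ N' < A := lt_of_le_of_ne inf_le_left fun he =>
      hg'N (he.ge (hA ▸ mem_cl (by simp))).2
    obtain ⟨a, ha, hac⟩ := (Nat.dvd_prime_pow hpp).1 (h5 ▸ A.card_subgroup_dvd_card)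
    obtain ⟨b, -, hbc⟩ := (Nat.dvd_prime_pow hpp).1 (h5 ▸ (A ⊓ N').card_subgroup_dvd_card)
    have h1 := card_lt_of_lt hHA
    have h2 := card_lt_of_lt hlt
    rw [hH2, hbc] at h1
    rw [hbc, hac] at h2
    have h1' := (Nat.pow_lt_pow_iff_right hpp.one_lt).1 h1
    have h2' := (Nat.pow_lt_pow_iff_right hpp.one_lt).1 h2
    have ha5 : a ≠ 5 := fun he => hne (Subgroup.eq_top_of_card_eq _ (by rw [hac, h5, he]))
    have h := A.card_mul_index
    rw [hac, h5, show a = 4 by omega, pow_succ p 4] at h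
    exact Nat.eq_of_mul_eq_mul_left (pow_pos hpp.pos 4) h
  have hzC : Subgroup.zpowers ⁅g', ι l⁆ = C := by
    refine Subgroup.eq_of_le_of_card_ge (Subgroup.zpowers_le.2 hz) ?_
    rw [hCc, Nat.card_zpowers]
    have hd : orderOf ⁅g', ι l⁆ ∣ p := by
      have := C.orderOf_dvd_natCard hz
      rwa [hCc] at this
    rcases (Nat.dvd_prime hpp).1 hd with h | h
    · exact absurd (orderOf_eq_one_iff.1 h) hz1
    · rw [h]
  obtain ⟨K, hK⟩ : ∃ K, K = Subgroup.closure ({⁅g', ι e⁆, ⁅g', ι l⁆} : Set S) := ⟨_, rfl⟩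
  have hvK : v ∈ K := by rw [hK, hy]; exact mem_cl (Set.mem_insert _ _)
  have hCK : C ≤ K := hzC ▸ Subgroup.zpowers_le.2
    (hK ▸ mem_cl (Set.mem_insert_of_mem _ rfl))
  have hCcomm : C ≤ commutator S := hzC ▸ Subgroup.zpowers_le.2
    (Subgroup.commutator_mem_commutator (Subgroup.mem_top _) (Subgroup.mem_top _))
  -- the normalizer in the new generators
  have hdecv : ∀ y ∈ N', ∃ m, ∃ b : E, y = ι b * v ^ m := by
    intro y hy
    obtain ⟨m, b, rfl⟩ := hdecN y hy
    obtain ⟨k, hk⟩ : ∃ k : ℕ, (k * mv : ℕ) % p = m % p :=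
      ⟨((m : ZMod p) * (mv : ZMod p)⁻¹).val, by
        rw [← ZMod.natCast_eq_natCast_iff', Nat.cast_mul, ZMod.natCast_zmod_val, mul_assoc,
          inv_mul_cancel₀ hm0, mul_one]⟩
    have hrel : ∀ k, ∃ w : E, v ^ k = ι w * uS ^ (k * mv) := by
      intro k
      induction k with
      | zero => exact ⟨1, by simp⟩
      | succ k ih =>
        obtain ⟨w, hw⟩ := ih
        refine ⟨w * (T ^ (k * mv)) bv, ?_⟩
        rw [pow_succ, hw, hvd, map_mul, ← hTι', Nat.succ_mul, pow_add]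
        group
    obtain ⟨w, hw⟩ := hrel k
    have hpow : ∀ n, uS ^ (p * n) ∈ ι.range := fun n => by
      refine (fun h => ?_ : (uS ^ (p * n) : S).1 ∈ E → _) ?_
      · obtain ⟨y, hy⟩ := hmemE _ h; exact ⟨y, hy⟩
      rw [SubmonoidClass.coe_pow, huSc, ← SubmonoidClass.coe_pow]
      refine (cj_eq_one_iff (F := F) hES (centralizerIn_le_of_centric hE.1) mul_comm _).1 ?_
      refine Subtype.ext ?_
      rw [map_pow, SubmonoidClass.coe_pow, ← hT]
      refine MulEquiv.ext fun x => ?_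
      obtain ⟨i, j, k, rfl⟩ := D.dec x
      rw [hTk, mul_assoc p n k, pow_add, pow_mul c p, hexp, one_pow, mul_one]
      rfl
    have h1 := Nat.div_add_mod m p
    have h2 := Nat.div_add_mod (k * mv) p
    obtain ⟨y1, hy1⟩ := hpow (m / p)
    obtain ⟨y2, hy2⟩ := hpow (k * mv / p)
    refine ⟨k, b * y1 * y2⁻¹ * w⁻¹, ?_⟩
    have em : uS ^ m = uS ^ (p * (m / p)) * uS ^ (m % p) := by rw [← pow_add, h1]
    have ek : uS ^ (k * mv) = uS ^ (p * (k * mv / p)) * uS ^ (m % p) := by rw [← pow_add, ← hk, h2]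
    rw [hw, map_mul, map_mul, map_mul, map_inv, map_inv, hy1, hy2, em, ek]
    group
  have hcfg : CfgC S p (ι e) g' (ι l) := by
    refine
      { wy := hy.symm ▸ hg'v
        eu := Commute.map (Commute.all e l) ι
        yu := hy.symm ▸ hlN v hvN
        zc := fun s => (Subgroup.mem_center_iff.1 (hCZ hz) s).symm
        zne := hz1
        zp := ?_
        ye := ?_
        gen := ?_
        epow := ?_
        wpow := ?_
        upow := ?_ }
    · obtain ⟨k, hk⟩ := Subgroup.mem_zpowers_iff.1 (hCdef ▸ hz : ⁅g', ι l⁆ ∈ Subgroup.zpowers cS)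
      rw [← hk, ← zpow_natCast, zpow_comm, zpow_natCast, hcp, one_zpow]
    · rw [hy]
      have hve : ⁅v, ι e⁆ = cS ^ mv := by
        have h := hev 1
        rw [pow_one, mul_one] at h
        rw [← commutatorElement_inv, h, inv_inv]
      obtain ⟨k, hk⟩ := (isOfFinOrder_of_finite ⁅g', ι l⁆).mem_powers_iff_mem_zpowers.2
        (hzC.ge (pow_mem hcC mv))
      refine ⟨k, by rw [hve]; exact hk.symm, fun ⟨q, hq⟩ => hmv ?_⟩
      have h1 : cS ^ mv = 1 := by
        rw [← hk]
        show ⁅g', ι l⁆ ^ k = 1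
        rw [hq, pow_mul, ← hCc]
        have := congrArg Subtype.val (pow_card_eq_one' (x := (⟨_, hz⟩ : C)))
        rw [SubmonoidClass.coe_pow, OneMemClass.coe_one] at this
        rw [this, one_pow]
      have := orderOf_dvd_of_pow_eq_one h1
      rwa [orderOf_eq_prime hcp hc1] at this
    · obtain ⟨G0, hG0⟩ : ∃ G0, G0 = Subgroup.closure ({ι e, g', ι l} : Set S) := ⟨_, rfl⟩
      rw [← hG0]
      have hge : g' ∈ G0 := hG0 ▸ mem_cl (by simp)
      have hee : ι e ∈ G0 := hG0 ▸ mem_cl (by simp)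
      have hle : ι l ∈ G0 := hG0 ▸ mem_cl (by simp)
      have hKG : K ≤ G0 := by
        rw [hK, Subgroup.closure_le]
        rintro _ (rfl | rfl) <;> rw [SetLike.mem_coe, commutatorElement_def]
        · exact mul_mem (mul_mem (mul_mem hge hee) (inv_mem hge)) (inv_mem hee)
        · exact mul_mem (mul_mem (mul_mem hge hle) (inv_mem hge)) (inv_mem hle)
      have hN'G : N' ≤ G0 := fun y hy' => by
        obtain ⟨m, b, rfl⟩ := hdecv y hy'
        obtain ⟨a, a', a'', rfl⟩ := D.dec b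
        rw [map_mul, map_mul, map_pow, map_pow, map_pow, ← hcS]
        exact mul_mem (mul_mem (mul_mem (pow_mem (hKG (hCK hcC)) a) (pow_mem hle a'))
          (pow_mem hee a'')) (pow_mem (hKG hvK) m)
      refine Subgroup.index_eq_one.1 (((Nat.dvd_prime hpp).1
        (hN'idx ▸ Subgroup.index_dvd_of_le hN'G)).resolve_right fun he => hg'N ?_)
      have : N' = G0 := by
        refine Subgroup.eq_of_le_of_card_ge hN'G ?_
        have h1 := G0.card_mul_index
        have h2 := N'.card_mul_index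
        rw [he] at h1
        rw [hN'idx] at h2
        exact (Nat.eq_of_mul_eq_mul_right hpp.pos (h1.trans h2.symm)).le
      rw [this]; exact hge
    · rw [← map_pow, hexp, map_one]; exact one_mem _
    · rw [← hK]
      obtain ⟨m, b, hb⟩ := hdecv (g' ^ p) (hN'idx ▸ N'.pow_index_mem g')
      obtain ⟨a, a', a'', rfl⟩ := D.dec b
      rw [map_mul, map_mul, map_pow, map_pow, map_pow, ← hcS] at hb
      have hgp : Commute g' (g' ^ p) := (Commute.refl g').pow_right p
      have ha'' : ι e ^ a'' = 1 := by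
        have h2 : Commute (π2 g') (π2 (g' ^ p)) := hgp.map π2
        rw [hb, map_mul, map_mul, map_mul, map_pow, map_pow, map_pow, map_pow, hπ2.2 hcH, one_pow,
          one_mul, hπ2.2 hlH, one_pow, one_mul] at h2
        have h3' : Commute (π2 g') (π2 (ι e) ^ a'') := by
          have := h2.mul_right ((hvz (π2 g')).symm.pow_right m).inv_right
          rwa [mul_inv_cancel_right] at this
        have hv2 : π2 v = ⁅π2 g', π2 (ι e)⁆ := by rw [← map_commutatorElement, hy]
        have h4 := comm_pow_right (a := π2 g') (b := π2 (ι e)) (fun q => hv2 ▸ hvz q) a''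
        rw [commutatorElement_eq_one_iff_mul_comm.2 h3'.eq, ← hv2] at h4
        have := orderOf_dvd_of_pow_eq_one h4.symm
        rw [orderOf_eq_prime hvp hvH] at this
        obtain ⟨q, rfl⟩ := this
        rw [pow_mul, ← map_pow, hexp, map_one, one_pow]
      rw [ha'', mul_one] at hb
      have hla : ι l ^ a' = 1 := by
        have h1 : Commute g' (ι l ^ a') := by
          have := (((hcz g').symm.pow_right a).inv_right.mul_right (hb ▸ hgp)).mul_right
            (hg'v.pow_right m).inv_right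
          rwa [← mul_assoc (cS ^ a)⁻¹, inv_mul_cancel_left, mul_inv_cancel_right] at this
        have h4 := comm_pow_right (a := g') (b := ι l)
          (fun s => (Subgroup.mem_center_iff.1 (hCZ hz) s).symm) a'
        rw [commutatorElement_eq_one_iff_mul_comm.2 h1.eq] at h4
        have hd := orderOf_dvd_of_pow_eq_one h4.symm
        rw [← Nat.card_zpowers, hzC, hCc] at hd
        obtain ⟨q, rfl⟩ := hd
        rw [pow_mul, ← map_pow, hexp, map_one, one_pow]
      rw [hb, hla, mul_one]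
      exact mul_mem (pow_mem (hCK hcC) a) (pow_mem hvK m)
    · rw [← map_pow, hexp, map_one]; exact one_mem _
  refine ⟨ι e, g', ι l, hcfg, fun d hd => ?_⟩
  obtain ⟨φ, hφ, -, ⟨ie, hφe⟩, ⟨il, hφl⟩, -⟩ := hphi d hd
  exact ⟨φ, hφ, cS ^ ie, cS ^ il, fun t _ => (hcz t).pow_left ie, hφe, pow_mem (hCcomm hcC) il, hφl⟩

end Cfsg.Agent.Fus.OrdFive
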