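import Mathlib
import Cfsg.Agent.Lib.Fus.OrdFive.Group
import Cfsg.Agent.Lib.Fus.OrdFive.Max
import Cfsg.Agent.Lib.Fus.PearlClass
import Cfsg.Agent.Lib.Fus.PearlCube
import Cfsg.Agent.Lib.Fus.RankTwoPearl
import Cfsg.Agent.Lib.Invol.ExtraspecialThree

/-!
Pearls in a group of order `p⁵` without abelian subgroups of index `p`: the group has maximal
class, the pearls lie in every subgroup in which the larger subgroups move, and without essential
subgroups of index `p` there are none for `p ≠ 3, 7`.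
-/

set_option autoImplicit false
set_option linter.unusedSectionVars false
set_option linter.style.haveILetI false

universe u v

namespace Cfsg.Agent.Fus.OrdFive

open Cfsg FusionSystem TorusExt RankTwoAut Invol.CubicStable
open Cfsg.Agent.Fus.RankTwo (act_dg act_up exists_coord coord_cast frameRep frameRep_ker)
open Cfsg.Agent.Fus.MC (lc lc_anti lc_comm lc_step Ck mem_Ck lc_one_le_Ck)
open Cfsg.Agent.Grp.Uni (MaxCl)
open Cfsg.Agent.Fus.MCDeg (Act map_Ck_mem)
open Grp.SL2 (up low up_mul up_pow up_zero)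
open scoped commutatorElement

variable {Ω : Type u} [Group Ω] {S : Subgroup Ω} [Finite S] {p : ℕ} [hp : Fact p.Prime]
  {F : FusionSystem S}

theorem mem_of_sq_mem {G : Type*} [Group G] {M : Subgroup G} (hp2 : p ≠ 2) {x : G} (hx : x ^ p = 1)
    (h : x ^ 2 ∈ M) : x ∈ M := by
  obtain ⟨k, hk⟩ := hp.out.odd_of_ne_two hp2
  have hxx : x = ((x ^ 2) ^ k)⁻¹ := by
    rw [eq_inv_iff_mul_eq_one, ← pow_mul, ← pow_succ', ← hk, hx]
  rw [hxx]
  exact M.inv_mem (M.pow_mem h k)

/-- An essential subgroup of order `p²` forces maximal class. -/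
theorem sq_maxcl (hS : IsPGroup p S) (h5 : Nat.card S = p ^ 5) {E : Subgroup Ω}
    (hE : F.IsEssential p E) (h2 : Nat.card E = p ^ 2) : MaxCl S p 5 := by
  have hES : E ≤ S := hE.2.1.1
  haveI := finite_of_le hES
  obtain ⟨hel, -⟩ := essential_card_sq hS hE h2
  have hC : Subgroup.centralizer (E.subgroupOf S : Set S) = E.subgroupOf S := by
    refine le_antisymm (fun g hg => Subgroup.mem_subgroupOf.2
      (centralizerIn_le_of_centric hE.1 (mem_centralizerIn.2 ⟨g.2, fun x hx =>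
        congrArg Subtype.val (Subgroup.mem_centralizer_iff.1 hg ⟨x, hES hx⟩ hx)⟩))) fun g hg => ?_
    refine Subgroup.mem_centralizer_iff.2 fun x hx => Subtype.ext ?_
    have h := hel.1.is_comm.comm (⟨(x : Ω), Subgroup.mem_subgroupOf.1 hx⟩ : E)
      ⟨(g : Ω), Subgroup.mem_subgroupOf.1 hg⟩
    exact (congrArg Subtype.val h :)
  obtain ⟨x, hx⟩ := MC.exists_pearl_sq (p := p) h5 (by norm_num) (A := E.subgroupOf S)
    (by rw [Nat.card_congr (Subgroup.subgroupOfEquivOfLe hES).toEquiv, h2])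
    (fun a ha => Subtype.ext (by rw [SubmonoidClass.coe_pow]; exact hel.2 _ ha)) hC
  exact ⟨hx.card, hx.three_le, hx.cls⟩

/-- An essential subgroup of order `p³` and exponent `p`, extraspecial, forces maximal class. -/
theorem ex_maxcl (h5 : Nat.card S = p ^ 5) {E : Subgroup Ω}
    (hE : F.IsEssential p E) (h3 : Nat.card E = p ^ 3) (hex : IsExtraspecial p E)
    (hexp : ∀ x ∈ E, x ^ p = 1) : MaxCl S p 5 := by
  have hES : E ≤ S := hE.2.1.1
  haveI := finite_of_le hES
  obtain ⟨x, hx⟩ := MC.exists_pearl_cube (p := p) h5 (B := E.subgroupOf S)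
    (by rw [Nat.card_congr (Subgroup.subgroupOfEquivOfLe hES).toEquiv, h3])
    (fun hc => by
      have hall : Subgroup.center E = ⊤ := eq_top_iff.2 fun a _ => Subgroup.mem_center_iff.2 fun b =>
        Subtype.ext (congrArg (fun s : E.subgroupOf S => ((s : S) : Ω))
          (hc.is_comm.comm ⟨⟨b, hES b.2⟩, b.2⟩ ⟨⟨a, hES a.2⟩, a.2⟩))
      have h := hex.2
      rw [hall, Subgroup.card_top, h3] at h
      have := Nat.pow_right_injective hp.out.two_le (h.trans (pow_one p).symm)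
      omega)
    (fun a ha => Subtype.ext (by rw [SubmonoidClass.coe_pow]; exact hexp _ ha))
    (fun g hg => Subgroup.mem_subgroupOf.2
      (centralizerIn_le_of_centric hE.1 (mem_centralizerIn.2 ⟨g.2, fun x hx =>
        congrArg Subtype.val (Subgroup.mem_centralizer_iff.1 hg ⟨x, hES hx⟩ hx)⟩)))
  exact ⟨hx.card, hx.three_le, hx.cls⟩

theorem act_neg_one {Q : Type v} [Group Q] (co : Multiplicative (Fin 2 → ZMod p) ≃* Q) (q : Q) :
    act co (dg (-1 : ZMod p) (-1) (by ring)) q = q⁻¹ := by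
  apply co.symm.injective
  apply Multiplicative.toAdd.injective
  have h := lin_act co (dg (-1 : ZMod p) (-1) (by ring)) (Multiplicative.toAdd (co.symm q))
  rw [lin_apply, ofAdd_toAdd, MulEquiv.apply_symm_apply] at h
  rw [h, map_inv, toAdd_inv]
  funext i
  fin_cases i <;> simp [dg, Matrix.mulVec, dotProduct, Fin.sum_univ_two]

/-- A pearl of order `p²` lies in a subgroup in which the maps with larger sources move. -/
theorem sq_moves (hS : IsPGroup p S) (hF : F.IsSaturated p) (hp2 : p ≠ 2) {E : Subgroup Ω}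
    (hE : F.IsEssential p E) (h2 : Nat.card E = p ^ 2) {M : Subgroup Ω}
    (hbig : ∀ R g, IsMap F R g → Nat.card E < Nat.card R → ∀ t ∈ R, t⁻¹ * g t ∈ M) :
    ∀ α ∈ F.autGroup E, ∀ t ∈ E, t⁻¹ * autFun α t ∈ M := by
  classical
  obtain ⟨hel, -⟩ := essential_card_sq hS hE h2
  have hES : E ≤ S := hE.2.1.1
  haveI := finite_of_le hES
  haveI : Finite ↥(normalizerIn S E) := finite_of_le (S := S) inf_le_left
  have hC := centralizerIn_le_of_centric hE.1
  set r := (F.autGroup E).subtype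
  have hker : ∀ g, r g = 1 → (g : MulAut E) ∈ Inn E := fun g hg => by
    rw [show (g : MulAut E) = 1 from hg]; exact one_mem _
  have hab : ∀ x y : E, x * y = y * x := fun x y => hel.1.is_comm.comm x y
  have hexpE : ∀ x : E, x ^ p = 1 := fun x => Subtype.ext (hel.2 x x.2)
  obtain ⟨u, -, hu1, hg, -⟩ := exists_nonnormal hS hC r hker h2 hF hE
  obtain ⟨co, s, -, -, htor⟩ := exists_torus hS hC r hker h2 hab hexpE hF hE.2.1 hu1 hg
  obtain ⟨t, β, -, ht, hβ, hβt, -, -⟩ := htor (-1) (-1) (by ring)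
  have hcard := card_lt_of_lt (lt_normalizerIn hS (lt_of_essential hS hF hE))
  have hEM : ∀ a : E, (a : Ω) ∈ M := fun a => by
    have h := hbig _ β hβ hcard a (le_normalizerIn hES a.2)
    have ht' : (t : MulAut E) = act co _ := ht
    rw [hβt, ht', act_neg_one co a, Subgroup.coe_inv, ← mul_inv_rev, ← sq, inv_mem_iff] at h
    exact mem_of_sq_mem hp2 (hel.2 a a.2) h
  intro α _ t ht
  rw [show t = ((⟨t, ht⟩ : E) : Ω) from rfl, autFun_coe]
  exact M.mul_mem (M.inv_mem (hEM _)) (hEM _)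

/-- An extraspecial pearl lies in a subgroup in which the maps with larger sources move. -/
theorem ex_moves (hS : IsPGroup p S) (hF : F.IsSaturated p) (hp2 : p ≠ 2) {E : Subgroup Ω}
    (hE : F.IsEssential p E) (h3 : Nat.card E = p ^ 3) (hex : IsExtraspecial p E)
    (hexp : ∀ x ∈ E, x ^ p = 1) {M : Subgroup Ω}
    (hbig : ∀ R g, IsMap F R g → Nat.card E < Nat.card R → ∀ t ∈ R, t⁻¹ * g t ∈ M) :
    ∀ α ∈ F.autGroup E, ∀ t ∈ E, t⁻¹ * autFun α t ∈ M := by
  classical
  have hES : E ≤ S := hE.2.1.1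
  haveI := finite_of_le hES
  haveI : Finite ↥(normalizerIn S E) := finite_of_le (S := S) inf_le_left
  have hC := centralizerIn_le_of_centric hE.1
  obtain ⟨f⟩ := Invol.ExtraThree.exists_frame (↥E) hex h3 fun x => Subtype.ext (hexp x x.2)
  set r := frameRep F E
  obtain ⟨u, -, hu1, hg, -⟩ := exists_nonnormal hS hC r (frameRep_ker f) f.card_quot hF hE
  obtain ⟨co, s, -, -, htor⟩ :=
    exists_torus hS hC r (frameRep_ker f) f.card_quot f.quot_comm f.quot_exp hF hE.2.1 hu1 hg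
  obtain ⟨t, β, -, ht, hβ, hβt, -, -⟩ := htor (-1) (-1) (by ring)
  have hcard := card_lt_of_lt (lt_normalizerIn hS (lt_of_essential hS hF hE))
  set Me := M.subgroupOf E
  -- squares lie in `M` modulo the centre
  have hsq : ∀ a : E, ∃ z ∈ Subgroup.center E, a ^ 2 * z ∈ Me := fun a => by
    have h := hbig _ β hβ hcard a (le_normalizerIn hES a.2)
    rw [hβt, ← Subgroup.coe_inv, ← Subgroup.coe_mul] at h
    have hz : a * (t : MulAut E) a ∈ Subgroup.center E := by
      refine (QuotientGroup.eq_one_iff _).1 ?_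
      have hta : (QuotientGroup.mk ((t : MulAut E) a) : E ⧸ Subgroup.center E) =
          (QuotientGroup.mk a)⁻¹ := by
        have e : r t (QuotientGroup.mk a) =
            act co (dg (-1 : ZMod p) (-1) (by ring)) (QuotientGroup.mk a) := by rw [ht]
        rw [act_neg_one] at e
        exact e
      rw [QuotientGroup.mk_mul, hta, mul_inv_cancel]
    refine ⟨(a * (t : MulAut E) a)⁻¹, inv_mem hz, Subgroup.mem_subgroupOf.2 ?_⟩
    have h' := M.inv_mem h
    rw [← Subgroup.coe_inv] at h'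
    convert h' using 2
    rw [← (Subgroup.mem_center_iff.1 (inv_mem hz) (a ^ 2)).symm]
    group
  have hcomm4 : ⁅f.x₁ ^ 2, f.x₀ ^ 2⁆ ∈ Me := by
    obtain ⟨z0, hz0, h0⟩ := hsq f.x₀
    obtain ⟨z1, hz1, h1⟩ := hsq f.x₁
    have hm : ⁅f.x₁ ^ 2 * z1, f.x₀ ^ 2 * z0⁆ ∈ Me := by
      rw [commutatorElement_def]
      exact Me.mul_mem (Me.mul_mem (Me.mul_mem h1 h0) (Me.inv_mem h1)) (Me.inv_mem h0)
    have e1 : Commute z1 (f.x₀ ^ 2 * z0) := (Subgroup.mem_center_iff.1 hz1 _).symm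
    have e0 : Commute (f.x₁ ^ 2) z0 := Subgroup.mem_center_iff.1 hz0 _
    rw [show ⁅f.x₁ ^ 2 * z1, f.x₀ ^ 2 * z0⁆ = f.x₁ ^ 2 * ⁅z1, f.x₀ ^ 2 * z0⁆ * (f.x₁ ^ 2)⁻¹ *
        (⁅f.x₁ ^ 2, f.x₀ ^ 2⁆ * (f.x₀ ^ 2 * ⁅f.x₁ ^ 2, z0⁆ * (f.x₀ ^ 2)⁻¹)) by
      simp only [commutatorElement_def]; group,
      commutatorElement_eq_one_iff_commute.2 e1, commutatorElement_eq_one_iff_commute.2 e0,
      mul_one, mul_one, mul_inv_cancel, one_mul, mul_inv_cancel, mul_one] at hm
    exact hm
  have hzM : f.z ∈ Me := by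
    have h1 : ⁅f.x₁, f.x₀⁆ = f.z ^ f.s := by
      rw [commutatorElement_def, f.rel, ((f.hz _).pow_left f.s).symm.eq, mul_inv_cancel_right]
    have h := comm_pow_pow (a := f.x₁) (b := f.x₀) (m := 1) (n := 1)
      (fun q => by rw [h1]; exact (f.hz q).pow_left _) (Commute.one_left _) (Commute.one_right _)
      (Commute.one_left _) 2 2
    rw [mul_one, mul_one, h1, ← pow_mul] at h
    rw [h] at hcomm4
    have hne : ((f.s * (2 * 2) : ℕ) : ZMod p) ≠ 0 := by
      rw [Nat.cast_mul]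
      refine mul_ne_zero f.hs ?_
      rw [Ne, ZMod.natCast_eq_zero_iff]
      intro hd
      rcases hp.out.dvd_mul.1 hd with h | h <;>
        exact hp2 ((Nat.prime_dvd_prime_iff_eq hp.out Nat.prime_two).1 h)
    obtain ⟨b, hb⟩ := RankTwo.exists_pow_eq f.hzp hne
    rw [← hb]
    exact Me.pow_mem hcomm4 b
  have hEM : ∀ a : E, (a : Ω) ∈ M := fun a => by
    obtain ⟨z, hz, hza⟩ := hsq a
    obtain ⟨k, rfl⟩ := f.mem_center_iff.1 hz
    have h : a ^ 2 ∈ Me := (Me.mul_mem_cancel_right (Me.pow_mem hzM k)).1 hza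
    exact Subgroup.mem_subgroupOf.1 (mem_of_sq_mem hp2 (Subtype.ext (hexp a a.2) : a ^ p = 1) h)
  intro α _ t ht
  rw [show t = ((⟨t, ht⟩ : E) : Ω) from rfl, autFun_coe]
  exact M.mul_mem (M.inv_mem (hEM _)) (hEM _)

/-- A normalizer with faithful action on a section of order `p²` has index at most `p`. -/
theorem card_norm_le (hS : IsPGroup p S) {P : Subgroup Ω} (hP : P ≤ S)
    (hC : centralizerIn S P ≤ P) {Q : Type v} [Group Q] [Finite Q] (r : F.autGroup P →* MulAut Q)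
    (hker : ∀ g, r g = 1 → (g : MulAut P) ∈ Inn P) (hQ : Nat.card Q = p ^ 2) :
    Nat.card (normalizerIn S P) ≤ Nat.card P * p := by
  haveI := finite_of_le hP
  haveI : Finite ↥(normalizerIn S P) := finite_of_le (inf_le_left : normalizerIn S P ≤ S)
  haveI : Finite (MulAut Q) :=
    Finite.of_injective (fun e : MulAut Q => (e : Q → Q)) DFunLike.coe_injective
  have hle : P ≤ normalizerIn S P := le_normalizerIn hP
  set g := r.comp (cj F hP) with hg
  have hk : g.ker ≤ P.subgroupOf (normalizerIn S P) := fun x hx => by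
    have := mem_of_map_eq hC r hker hP (x := x) (y := 1)
      (by rw [map_one, map_one]; exact hx)
    rwa [OneMemClass.coe_one, inv_one, mul_one] at this
  rw [← Grp.card_mul_relIndex hle]
  refine Nat.mul_le_mul_left _ ((Nat.le_of_dvd Nat.card_pos
    (show P.relIndex _ ∣ Nat.card g.range from ?_)).trans (card_le_of_pgroup_aut hQ ?_))
  · rw [← Subgroup.index_ker]
    exact Subgroup.index_dvd_of_le hk
  · rw [MonoidHom.range_eq_map]
    exact ((hS.to_le inf_le_left : IsPGroup p (normalizerIn S P)).to_subgroup _).map _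

/-- A map on a centric subgroup of index `p` extends to `S` if that is not essential. -/
theorem extend_to_top (hS : IsPGroup p S) (hF : F.IsSaturated p) (h5 : Nat.card S = p ^ 5)
    (hnomax : ∀ P, F.IsEssential p P → Nat.card P ≠ p ^ 4) {N : Subgroup Ω} (hN : F.IsCentric N)
    (hN4 : Nat.card N = p ^ 4) {β : Ω → Ω} (hβ : IsMap F N β) (hβN : ∀ x ∈ N, β x ∈ N) :
    ∃ φ ∈ F.autGroup S, ∀ x : S, (x : Ω) ∈ N → ((φ x : S) : Ω) = β x := by
  have hpp := hp.out
  have hNS : N ≤ S := hN.1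
  haveI := finite_of_le hNS
  have hidx : (N.subgroupOf S).index = p := by
    have h := (N.subgroupOf S).card_mul_index
    rw [Nat.card_congr (Subgroup.subgroupOfEquivOfLe hNS).toEquiv, hN4, h5, pow_succ p 4] at h
    exact Nat.eq_of_mul_eq_mul_left (pow_pos hpp.pos 4) h
  haveI hn : (N.subgroupOf S).Normal := Subgroup.normal_of_index_eq_minFac_card (by
    rw [hidx, h5, Nat.Prime.pow_minFac hpp (by norm_num)])
  have hNn : normalizerIn S N = S := by
    refine inf_eq_left.2 fun s hs => mem_normalizer_of_forall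
      (fun x hx => hn.conj_mem ⟨x, hNS hx⟩ hx ⟨s, hs⟩) fun x hx => ?_
    simpa [Subgroup.mem_subgroupOf] using hn.conj_mem ⟨x, hNS hx⟩ hx ⟨s, hs⟩⁻¹
  obtain ⟨α, hα, hαe⟩ :=
    hβ.exists_aut (Subgroup.eq_of_le_of_card_ge (fimg_le hβN) hβ.card_fimg.ge)
  obtain ⟨β', hβ', hβ'e, -⟩ := extend_of_not_essential hS hF hN
    ⟨hNS, fun Q _ => by rw [hNn]; exact Subgroup.card_le_of_le inf_le_left⟩
    (by rw [hNn]; exact hidx) (fun h => hnomax N h hN4) hα
  obtain ⟨φ, hφ, hφe⟩ := exists_top_aut (F := F) (β := β') (by rw [hNn] at hβ'; exact hβ')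
  exact ⟨φ, hφ, fun x hx => by rw [hφe, hβ'e ⟨x, hx⟩, ← autFun_coe, hαe x hx]⟩

/-- The weights of an automorphism of a group of maximal class. -/
theorem exists_weight {G : Type*} [Group G] [Finite G] (hm : MaxCl G p 5) (hNA : NoA G p) {x : G}
    (hx : x ∉ Ck G 1) (φ : G ≃* G) {a : ℕ} (hφx : φ x * (x ^ a)⁻¹ ∈ Ck G 1) :
    ∃ c : ℕ, (c : ZMod p) = (a : ZMod p) ^ 2 ∧
      Act φ 2 (((a * a * c : ℕ)) : ℤ) ∧ Act φ 3 (((a * a * a * c : ℕ)) : ℤ) := by
  obtain ⟨s, hs, hs1⟩ : ∃ s ∈ Ck G 1, s ∉ lc G 1 := by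
    by_contra h
    push Not at h
    have hidx := Grp.Uni.Ck_index hm le_rfl (by omega)
    have h2 := Grp.Uni.lc_index hm (k := 1) le_rfl (by omega)
    have hd := Subgroup.index_dvd_of_le (h : Ck G 1 ≤ lc G 1)
    rw [hidx, h2] at hd
    have := Nat.le_of_dvd hp.out.pos hd
    rw [show (1 + 1 : ℕ) = 2 from rfl, sq] at this
    nlinarith [hp.out.two_le]
  have hφC := map_Ck_mem φ hs
  rw [Grp.Uni.eq_sup_of_ne_top hm (lc_one_le_Ck 1) (Grp.Uni.Ck_ne_top hm le_rfl (by omega)) hs hs1]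
    at hφC
  obtain ⟨d, hd, w', hw', e'⟩ := Subgroup.mem_sup_of_normal_left.1 hφC
  obtain ⟨c, rfl⟩ := (isOfFinOrder_of_finite s).mem_powers_iff_mem_zpowers.2 hw'
  beta_reduce at e'
  obtain ⟨hc, -, h2, h3⟩ := weight_maxcl hm hx hs hs1
    (fun h => hNA (Ck G 1) (Grp.Uni.Ck_index hm le_rfl (by omega)) h) φ (a := a) (c := c) hφx
    (by rw [← e', mul_inv_cancel_right]; exact hd)
  exact ⟨c, hc, h2, h3⟩

/-- Comparing two exponents on a cyclic factor. -/
theorem act_eq {G : Type*} [Group G] {k ε n : ℕ} {φ : G ≃* G} (hA : Act φ k (ε : ℤ)) {w : G}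
    (hw : w ∈ lc G k) (hw' : w ∉ lc G (k + 1)) (hwp : w ^ p ∈ lc G (k + 1))
    (h : φ w * (w ^ n)⁻¹ ∈ lc G (k + 1)) : (ε : ZMod p) = n := by
  set π := QuotientGroup.mk' (lc G (k + 1))
  have h1 : π (φ w) = π w ^ ε := by
    rw [← map_pow, ← zpow_natCast, ← mul_inv_eq_one, ← map_inv, ← map_mul]
    exact (QuotientGroup.eq_one_iff _).2 (hA w hw)
  have h2 : π (φ w) = π w ^ n := by
    rw [← map_pow, ← mul_inv_eq_one, ← map_inv, ← map_mul]
    exact (QuotientGroup.eq_one_iff _).2 h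
  exact RankTwo.cast_eq_of_pow (by show π w ^ p = 1; rw [← map_pow]; exact (QuotientGroup.eq_one_iff _).2 hwp)
    (fun e => hw' ((QuotientGroup.eq_one_iff _).1 e)) (h1.symm.trans h2)

set_option maxHeartbeats 1000000 in
/-- No extraspecial pearl of order `p³` without essential subgroups of index `p`. -/
theorem ex_false (hS : IsPGroup p S) (hF : F.IsSaturated p) (h5 : Nat.card S = p ^ 5) (hp2 : p ≠ 2)
    (hNA : NoA S p) (hnomax : ∀ P, F.IsEssential p P → Nat.card P ≠ p ^ 4) {E : Subgroup Ω}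
    (hE : F.IsEssential p E) (h3 : Nat.card E = p ^ 3) (hex : IsExtraspecial p E)
    (hexp : ∀ x ∈ E, x ^ p = 1) : False := by
  classical
  have hpp := hp.out
  have hES : E ≤ S := hE.2.1.1
  haveI := finite_of_le hES
  haveI : Finite ↥(normalizerIn S E) := finite_of_le (S := S) inf_le_left
  have hC := centralizerIn_le_of_centric hE.1
  have hm := ex_maxcl h5 hE h3 hex hexp
  obtain ⟨f⟩ := Invol.ExtraThree.exists_frame (↥E) hex h3 fun x => Subtype.ext (hexp x x.2)
  set r := frameRep F E with hr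
  obtain ⟨u, -, hu1, hg, -⟩ := exists_nonnormal hS hC r (frameRep_ker f) f.card_quot hF hE
  obtain ⟨co, s, hs0, hau, htor⟩ :=
    exists_torus hS hC r (frameRep_ker f) f.card_quot f.quot_comm f.quot_exp hF hE.2.1 hu1 hg
  obtain ⟨t, β, -, ht, hβ, hβt, hβN, -⟩ := htor (-1) (-1) (by ring)
  have hN4 : Nat.card (normalizerIn S E) = p ^ 4 := by
    have h1 := card_norm_le hS hES hC r (frameRep_ker f) f.card_quot
    have h2 := card_lt_of_lt (lt_normalizerIn hS (lt_of_essential hS hF hE))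
    rw [h3, ← pow_succ] at h1
    rw [h3] at h2
    obtain ⟨j, hj⟩ := IsPGroup.iff_card.1 (hS.to_le (show normalizerIn S E ≤ S from inf_le_left))
    rw [hj] at h1 h2 ⊢
    have := (Nat.pow_le_pow_iff_right hpp.one_lt).1 h1
    have := (Nat.pow_lt_pow_iff_right hpp.one_lt).1 h2
    rw [show j = 4 by omega]
  obtain ⟨φ, -, hφe⟩ := extend_to_top hS hF h5 hnomax
    (centric_mono hE.1 (le_normalizerIn hES) inf_le_left) hN4 hβ hβN
  obtain ⟨ι, hι⟩ : ∃ ι : E →* S, ι = Subgroup.inclusion hES := ⟨_, rfl⟩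
  have hιc : ∀ x : E, ((ι x : S) : Ω) = x := fun x => by rw [hι]; rfl
  have hιinj : Function.Injective ι := hι ▸ Subgroup.inclusion_injective hES
  have hφι : ∀ x : E, φ (ι x) = ι ((t : MulAut E) x) := fun x => Subtype.ext (by
    rw [hφe _ (by rw [hιc]; exact le_normalizerIn hES x.2), hιc, hιc, hβt])
  -- the last term is the centre of `E`
  have hL3 : lc S 3 = (Subgroup.center E).map ι := by
    refine Subgroup.eq_of_le_of_card_ge (fun w hw => ?_) (le_of_eq ?_)
    · have hwc := Grp.Uni.lc_two_le_center hm hw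
      have hwE : (w : Ω) ∈ E := hC (mem_centralizerIn.2 ⟨w.2, fun a ha =>
        congrArg Subtype.val (Subgroup.mem_center_iff.1 hwc ⟨a, hES ha⟩)⟩)
      refine ⟨⟨w, hwE⟩, Subgroup.mem_center_iff.2 fun b => hιinj ?_, Subtype.ext (hιc _)⟩
      rw [map_mul, map_mul, show ι ⟨w, hwE⟩ = w from Subtype.ext (hιc _)]
      exact Subgroup.mem_center_iff.1 hwc (ι b)
    · rw [Subgroup.card_map_of_injective hιinj, hex.2, Grp.Uni.card_lc hm (by norm_num),
        show 5 - 1 - 3 = 1 by rfl, pow_one]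
  have hcenE : ∀ {y : E}, ι y ∈ lc S 3 → y ∈ Subgroup.center E := fun {y} hy => by
    rw [hL3] at hy
    obtain ⟨z, hz, hze⟩ := hy
    rwa [← hιinj hze]
  obtain ⟨w, hw, hw'⟩ := Grp.Uni.exists_depth hm (k := 2) (by norm_num) (by norm_num)
  -- the second term lies in `E`
  have hwE : (w : Ω) ∈ E := by
    have hmov : ∀ a : E, ∃ z ∈ Subgroup.center E, w * ι a * w⁻¹ = ι (z * a) := fun a => by
      have h : ⁅w, ι a⁆ ∈ lc S 3 := lc_step hw
      rw [hL3] at h
      obtain ⟨z, hz, hze⟩ := h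
      exact ⟨z, hz, by rw [map_mul, hze, commutatorElement_def, inv_mul_cancel_right]⟩
    have hwN : (w : Ω) ∈ normalizerIn S E := by
      refine ⟨w.2, mem_normalizer_of_forall (fun a ha => ?_) fun a ha => ?_⟩
      · obtain ⟨z, -, hz⟩ := hmov ⟨a, ha⟩
        have h := congrArg (fun q : S => (q : Ω)) hz
        simp only [Subgroup.coe_mul, Subgroup.coe_inv, hιc] at h
        rw [h]
        exact E.mul_mem z.2 ha
      · obtain ⟨z, hz0, hz⟩ := hmov ⟨a, ha⟩
        obtain ⟨z', hz'0, hz'⟩ := hmov z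
        have h := congrArg (fun q : S => (q : Ω)) hz
        have h' := congrArg (fun q : S => (q : Ω)) hz'
        simp only [Subgroup.coe_mul, Subgroup.coe_inv, hιc] at h h'
        have hzw : (w : Ω) * z * (w : Ω)⁻¹ = z := by
          have hwz : w * ι z = ι z * w := (Subgroup.mem_center_iff.1
            (Grp.Uni.lc_two_le_center hm (hL3.ge ⟨z, hz0, rfl⟩)) w)
          have e := congrArg (fun q : S => (q : Ω)) hwz
          simp only [Subgroup.coe_mul, hιc] at e
          rw [e, mul_inv_cancel_right]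
        have : (w : Ω)⁻¹ * a * w = (z : Ω)⁻¹ * a := by
          have e : (w : Ω) * ((z : Ω)⁻¹ * a) * (w : Ω)⁻¹ = a := by
            calc _ = ((w : Ω) * z * (w : Ω)⁻¹)⁻¹ * ((w : Ω) * a * (w : Ω)⁻¹) := by group
              _ = a := by rw [hzw, h, inv_mul_cancel_left]
          conv_lhs => rw [← e]
          group
        rw [this]
        exact E.mul_mem (E.inv_mem z.2) ha
    have hk : r (cj F hES ⟨w, hwN⟩) = 1 := by
      refine MulEquiv.ext fun q => ?_
      induction q using QuotientGroup.induction_on with | _ a =>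
      obtain ⟨z, hz, hza⟩ := hmov a
      show (QuotientGroup.mk (((cj F hES ⟨w, hwN⟩ : F.autGroup E) : MulAut E) a) :
        E ⧸ Subgroup.center E) = QuotientGroup.mk a
      rw [show ((cj F hES ⟨w, hwN⟩ : F.autGroup E) : MulAut E) a = z * a from Subtype.ext (by
        rw [cj_apply, ← hιc (z * a), ← hza, Subgroup.coe_mul, Subgroup.coe_mul, Subgroup.coe_inv,
          hιc]), QuotientGroup.mk_mul, (QuotientGroup.eq_one_iff z).2 hz, one_mul]
    have := mem_of_map_eq hC r (frameRep_ker f) hES (x := ⟨w, hwN⟩) (y := 1)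
      (by rw [map_one, map_one]; exact hk)
    simpa using this
  obtain ⟨a2, ha2⟩ : ∃ a2 : E, ι a2 = w := ⟨⟨w, hwE⟩, Subtype.ext (hιc _)⟩
  have ha2c : a2 ∉ Subgroup.center E := fun h => hw' (by
    rw [← ha2, hL3]; exact ⟨a2, h, rfl⟩)
  obtain ⟨hf0, hf1⟩ := act_up co s
  obtain ⟨i, j, hij⟩ := exists_coord co (QuotientGroup.mk a2 : E ⧸ Subgroup.center E)
  have hfix2 : r (cj F hE.2.1.1 u) (QuotientGroup.mk a2) =
      (QuotientGroup.mk a2 : E ⧸ Subgroup.center E) := by
    show (QuotientGroup.mk (((cj F hE.2.1.1 u : F.autGroup E) : MulAut E) a2) :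
      E ⧸ Subgroup.center E) = QuotientGroup.mk a2
    refine (QuotientGroup.eq.2 ?_).symm
    refine hcenE ?_
    have h : ⁅(⟨(u : Ω), u.2.1⟩ : S), w⁆ ∈ lc S 3 := by
      rw [← commutatorElement_inv]; exact inv_mem (lc_step hw)
    convert (inferInstance : (lc S 3).Normal).conj_mem _ h w⁻¹ using 1
    rw [map_mul, map_inv, ha2, show ι (((cj F hE.2.1.1 u : F.autGroup E) : MulAut E) a2) =
      (⟨(u : Ω), u.2.1⟩ : S) * w * (⟨(u : Ω), u.2.1⟩ : S)⁻¹ from Subtype.ext (by
        rw [hιc, cj_apply, Subgroup.coe_mul, Subgroup.coe_mul, Subgroup.coe_inv, ← ha2, hιc])]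
    simp only [commutatorElement_def]; group
  have hj : (j : ZMod p) = 0 := by
    rw [hau, hij, map_mul, map_pow, map_pow, hf0, hf1,
      (show Commute _ _ from f.quot_comm _ _).mul_pow, ← pow_mul, ← mul_assoc, ← pow_add] at hfix2
    have := (coord_cast co hfix2).1
    rw [Nat.cast_add, Nat.cast_mul, ZMod.natCast_zmod_val, add_eq_left] at this
    exact (mul_eq_zero.1 this).resolve_left hs0
  obtain ⟨x, hx⟩ := QuotientGroup.mk_surjective (co (Multiplicative.ofAdd (Pi.single (1 : Fin 2) (1 : ZMod p))))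
  have hxC : ι x ∉ Ck S 1 := by
    intro hxC
    refine ha2c (Subgroup.mem_center_iff.2 fun b => ?_)
    have hcomm : Commute a2 x := by
      have h := mem_Ck.1 ((Ck_two hm).ge hxC) w hw
      rw [Grp.Uni.lc_eq_bot hm (by norm_num), Subgroup.mem_bot, ← ha2, ← map_commutatorElement] at h
      exact commutatorElement_eq_one_iff_mul_comm.1 (hιinj (h.trans (map_one ι).symm))
    obtain ⟨i', j', hb⟩ := exists_coord co (QuotientGroup.mk b : E ⧸ Subgroup.center E)
    have hi0 : (i : ZMod p) ≠ 0 := fun h => ha2c ((QuotientGroup.eq_one_iff _).1 (by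
      rw [hij, RankTwo.pow_eq_of_cast (f.quot_exp _) (a := i) (b := 0) (by simpa using h),
        RankTwo.pow_eq_of_cast (f.quot_exp _) (a := j) (b := 0) (by simpa using hj), pow_zero, pow_zero, one_mul]))
    obtain ⟨k, hk⟩ := RankTwo.exists_pow_eq (f.quot_exp (co (Multiplicative.ofAdd (Pi.single 0 1)))) hi0
    have hzb : (a2 ^ (k * i') * x ^ j')⁻¹ * b ∈ Subgroup.center E := by
      refine QuotientGroup.eq.1 ?_
      rw [hb, QuotientGroup.mk_mul, QuotientGroup.mk_pow, QuotientGroup.mk_pow, hx, hij,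
        RankTwo.pow_eq_of_cast (f.quot_exp _) (b := 0) (a := j) (by simpa using hj), pow_zero,
        mul_one, pow_mul, hk]
    have h1 : Commute a2 (a2 ^ (k * i') * x ^ j') :=
      ((Commute.refl a2).pow_right _).mul_right (hcomm.pow_right j')
    have h2 := h1.mul_right (Subgroup.mem_center_iff.1 hzb a2)
    rw [mul_inv_cancel_left] at h2
    exact h2.symm.eq
  have hmk : ∀ y : E, (QuotientGroup.mk ((t : MulAut E) y) : E ⧸ Subgroup.center E) =
      (QuotientGroup.mk y)⁻¹ := fun y => by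
    have e : r t (QuotientGroup.mk y) =
        act co (dg (-1 : ZMod p) (-1) (by ring)) (QuotientGroup.mk y) := by rw [ht]
    rw [act_neg_one] at e
    exact e
  have hinvφ : ∀ y : E, φ (ι y) * (ι y ^ (p - 1))⁻¹ ∈ lc S 3 := fun y => by
    rw [hL3, hφι, ← map_pow, ← map_inv, ← map_mul]
    refine ⟨_, (QuotientGroup.eq_one_iff _).1 ?_, rfl⟩
    rw [QuotientGroup.mk_mul, hmk, QuotientGroup.mk_inv, QuotientGroup.mk_pow, mul_inv_eq_one,
      inv_eq_iff_mul_eq_one, ← pow_succ', Nat.sub_add_cancel hpp.one_le, f.quot_exp]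
  obtain ⟨c, hc, hA2, -⟩ := exists_weight hm hNA hxC φ (a := p - 1)
    (lc_one_le_Ck 1 (lc_anti (by norm_num) (hinvφ x)))
  have hwp : w ^ p ∈ lc S 3 := by
    rw [← ha2, ← map_pow, hL3]
    exact ⟨_, (QuotientGroup.eq_one_iff _).1 (by rw [QuotientGroup.mk_pow, f.quot_exp]), rfl⟩
  have he := act_eq (p := p) hA2 hw hw' hwp (ha2 ▸ hinvφ a2)
  have hm1 : ((p - 1 : ℕ) : ZMod p) = -1 := by
    rw [Nat.cast_sub hpp.one_le, Nat.cast_one, ZMod.natCast_self, zero_sub]
  rw [Nat.cast_mul, Nat.cast_mul, hc, hm1] at he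
  have h2 : ((2 : ℕ) : ZMod p) = 0 := by push_cast; linear_combination he
  exact hp2 ((Nat.prime_dvd_prime_iff_eq hpp Nat.prime_two).1 ((ZMod.natCast_eq_zero_iff 2 p).1 h2))

set_option maxHeartbeats 1000000 in
/-- No pearl of order `p²` for `p ≠ 3, 7` without essential subgroups of index `p`. -/
theorem sq_false (hS : IsPGroup p S) (hF : F.IsSaturated p) (h5 : Nat.card S = p ^ 5) (hp2 : p ≠ 2)
    (hp3 : p ≠ 3) (hp7 : p ≠ 7) (hNA : NoA S p)
    (hnomax : ∀ P, F.IsEssential p P → Nat.card P ≠ p ^ 4) {E : Subgroup Ω}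
    (hE : F.IsEssential p E) (hE2 : Nat.card E = p ^ 2) : False := by
  classical
  have hpp := hp.out
  obtain ⟨hel, -⟩ := essential_card_sq hS hE hE2
  have hES : E ≤ S := hE.2.1.1
  haveI := finite_of_le hES
  haveI : Finite ↥(normalizerIn S E) := finite_of_le (S := S) inf_le_left
  have hC := centralizerIn_le_of_centric hE.1
  have hm := sq_maxcl hS h5 hE hE2
  set r := (F.autGroup E).subtype
  have hker : ∀ g, r g = 1 → (g : MulAut E) ∈ Inn E := fun g hg => by
    rw [show (g : MulAut E) = 1 from hg]; exact one_mem _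
  have hab : ∀ x y : E, x * y = y * x := fun x y => hel.1.is_comm.comm x y
  have hexpE : ∀ x : E, x ^ p = 1 := fun x => Subtype.ext (hel.2 x x.2)
  set N1 := normalizerIn S E with hN1def
  obtain ⟨u, huE, hu1, hg, -⟩ := exists_nonnormal hS hC r hker hE2 hF hE
  obtain ⟨co, s, hs0, hau, htor⟩ := exists_torus hS hC r hker hE2 hab hexpE hF hE.2.1 hu1 hg
  have h20 : (2 : ZMod p) ≠ 0 := fun h => hp2 ((Nat.prime_dvd_prime_iff_eq hpp Nat.prime_two).1
    ((ZMod.natCast_eq_zero_iff 2 p).1 (by exact_mod_cast h)))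
  obtain ⟨t, β, -, ht, hβ, hβt, hβN, -⟩ := htor 2⁻¹ 2 (inv_mul_cancel₀ h20)
  have hN1S : N1 ≤ S := inf_le_left
  have hEN1 : E ≤ N1 := le_normalizerIn hES
  have hN13 : Nat.card N1 = p ^ 3 := by
    have h1 := card_norm_le hS hES hC r hker hE2
    have h2 := card_lt_of_lt (lt_normalizerIn hS (lt_of_essential hS hF hE))
    rw [hE2, ← pow_succ] at h1
    rw [hE2] at h2
    obtain ⟨j, hj⟩ := IsPGroup.iff_card.1 (hS.to_le hN1S)
    rw [hj] at h1 h2 ⊢
    have := (Nat.pow_le_pow_iff_right hpp.one_lt).1 h1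
    have := (Nat.pow_lt_pow_iff_right hpp.one_lt).1 h2
    rw [show j = 3 by omega]
  have hcen1 : F.IsCentric N1 := centric_mono hE.1 hEN1 hN1S
  -- the derived subgroup is abelian
  have hl2 : ∀ a ∈ lc S 1, ∀ b ∈ lc S 2, Commute a b := fun a ha b hb => by
    have h := lc_comm ha hb
    rw [Grp.Uni.lc_eq_bot hm (by norm_num), Subgroup.mem_bot] at h
    exact commutatorElement_eq_one_iff_mul_comm.1 h
  have hl1 : ∀ a ∈ lc S 1, ∀ b ∈ lc S 1, Commute a b := by
    obtain ⟨v, hv, hv'⟩ := Grp.Uni.exists_depth hm (k := 1) le_rfl (by norm_num)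
    intro a ha b hb
    rw [← Grp.Uni.sup_zpowers hm le_rfl hv hv'] at hb
    obtain ⟨b2, hb2, _, ⟨i, rfl⟩, rfl⟩ := Subgroup.mem_sup_of_normal_left.1 hb
    refine (hl2 a ha b2 hb2).mul_right (Commute.zpow_right ?_ i)
    rw [← Grp.Uni.sup_zpowers hm le_rfl hv hv'] at ha
    obtain ⟨a2, ha2, _, ⟨k, rfl⟩, rfl⟩ := Subgroup.mem_sup_of_normal_left.1 ha
    exact (hl2 v hv a2 ha2).symm.mul_left ((Commute.refl v).zpow_left k)
  -- the conjugates of `N₁` are not normal
  have hnotn : ∀ Q, F.IsConj N1 Q → Q ≤ S → Nat.card (normalizerIn S Q) ≤ p ^ 4 := by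
    intro Q hQ hQS
    obtain ⟨g, hg', hgQ⟩ := isConj_iff.1 hQ
    have hQc : Nat.card Q = p ^ 3 := by rw [← hgQ, hg'.card_fimg, hN13]
    haveI : Finite ↥(normalizerIn S Q) := finite_of_le (S := S) inf_le_left
    obtain ⟨j, hj, hjc⟩ := (Nat.dvd_prime_pow hpp).1
      (h5 ▸ Subgroup.card_dvd_of_le (show normalizerIn S Q ≤ S from inf_le_left))
    rw [hjc]
    refine Nat.pow_le_pow_right hpp.pos ?_
    by_contra hlt
    have hNS' : normalizerIn S Q = S := Subgroup.eq_of_le_of_card_ge inf_le_left (by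
      rw [hjc, h5]; exact Nat.pow_le_pow_right hpp.pos (by omega))
    have hnorm : (Q.subgroupOf S).Normal := ⟨fun a ha b => Subgroup.mem_subgroupOf.2
      ((Subgroup.mem_normalizer_iff.1 (hNS'.ge b.2).2 a).1 ha)⟩
    have hidx : (Q.subgroupOf S).index = p ^ 2 := by
      have h := (Q.subgroupOf S).card_mul_index
      rw [Nat.card_congr (Subgroup.subgroupOfEquivOfLe hQS).toEquiv, hQc, h5,
        show p ^ 5 = p ^ 3 * p ^ 2 by ring] at h
      exact Nat.eq_of_mul_eq_mul_left (pow_pos hpp.pos 3) h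
    haveI := hnorm
    have hab' : ∀ q q' : S ⧸ Q.subgroupOf S, q * q' = q' * q :=
      IsPGroup.commutative_of_card_eq_prime_sq (p := p) (by rw [← Subgroup.index_eq_card, hidx])
    have hle : lc S 1 ≤ Q.subgroupOf S := by
      rw [lc, Subgroup.top_lowerCentralSeries_one, _root_.commutator_def, Subgroup.commutator_le]
      intro a _ b _
      refine (QuotientGroup.eq_one_iff _).1 ?_
      show QuotientGroup.mk' (Q.subgroupOf S) ⁅a, b⁆ = 1
      rw [map_commutatorElement, commutatorElement_eq_one_iff_mul_comm]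
      exact hab' _ _
    have heq : lc S 1 = Q.subgroupOf S := Subgroup.eq_of_le_of_card_ge hle (by
      rw [Nat.card_congr (Subgroup.subgroupOfEquivOfLe hQS).toEquiv, hQc,
        Grp.Uni.card_lc hm le_rfl])
    refine huE (hC (mem_centralizerIn.2 ⟨hN1S u.2, fun a ha => ?_⟩))
    have hmem : ∀ y ∈ N1, g y ∈ Q := fun y hy => hgQ ▸ apply_mem_fimg g hy
    have e : g a * g u = g u * g a := by
      have h := hl1 ⟨g a, hQS (hmem a (hEN1 ha))⟩ (heq.ge (Subgroup.mem_subgroupOf.2 (hmem a (hEN1 ha))))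
        ⟨g u, hQS (hmem u u.2)⟩ (heq.ge (Subgroup.mem_subgroupOf.2 (hmem u u.2)))
      exact congrArg Subtype.val h.eq
    rw [← hg'.map_mul (hEN1 ha) u.2, ← hg'.map_mul u.2 (hEN1 ha)] at e
    exact hg'.injOn (mul_mem (hEN1 ha) u.2) (mul_mem u.2 (hEN1 ha)) e
  set N2 := normalizerIn S N1
  haveI : Finite ↥N2 := finite_of_le (S := S) inf_le_left
  have hN1lt : N1 < S := lt_of_le_of_ne hN1S fun e => by
    rw [e, h5] at hN13
    have := Nat.pow_right_injective hpp.two_le hN13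
    omega
  have hN24 : Nat.card N2 = p ^ 4 := by
    have h2 := card_lt_of_lt (lt_normalizerIn hS hN1lt)
    have h1 := hnotn N1 (isConj_refl F hN1S) hN1S
    obtain ⟨j, hj⟩ := IsPGroup.iff_card.1 (hS.to_le (show normalizerIn S N1 ≤ S from inf_le_left))
    rw [hN13] at h2
    rw [hj] at h1 h2 ⊢
    have := (Nat.pow_le_pow_iff_right hpp.one_lt).1 h1
    have := (Nat.pow_lt_pow_iff_right hpp.one_lt).1 h2
    rw [show j = 4 by omega]
  have hfn : F.IsFullyNormalized N1 := ⟨hN1S, fun Q hQ => by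
    have hQS : Q ≤ S := by
      obtain ⟨g, hg', rfl⟩ := isConj_iff.1 hQ
      exact hg'.fimg_le_S
    exact (hnotn Q hQ hQS).trans hN24.ge⟩
  have hidx1 : (N1.subgroupOf N2).index = p := by
    have h := (N1.subgroupOf N2).card_mul_index
    rw [Nat.card_congr (Subgroup.subgroupOfEquivOfLe (le_normalizerIn hN1S)).toEquiv, hN13, hN24,
      pow_succ p 3] at h
    exact Nat.eq_of_mul_eq_mul_left (pow_pos hpp.pos 3) h
  have hne1 : ¬ F.IsEssential p N1 := fun hess => by
    rcases essential_card_cube hS hess hN13 with h | ⟨-, h, h'⟩ | ⟨h, -⟩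
    · exact huE (hC (mem_centralizerIn.2 ⟨hN1S u.2, fun a ha =>
        congrArg Subtype.val (h.1.is_comm.comm (⟨a, hEN1 ha⟩ : N1) u)⟩))
    · exact ex_false hS hF h5 hp2 hNA hnomax hess hN13 h h'
    · exact hp2 h
  haveI : Finite ↥N1 := finite_of_le hN1S
  obtain ⟨α, hα, hαe⟩ :=
    hβ.exists_aut (Subgroup.eq_of_le_of_card_ge (fimg_le hβN) hβ.card_fimg.ge)
  obtain ⟨β2, hβ2, hβ2e, hβ2N⟩ := extend_of_not_essential hS hF hcen1 hfn hidx1 hne1 hα
  obtain ⟨φ, -, hφe⟩ := extend_to_top hS hF h5 hnomax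
    (centric_mono hcen1 (le_normalizerIn hN1S) inf_le_left) hN24 hβ2 hβ2N
  obtain ⟨ι, hι⟩ : ∃ ι : E →* S, ι = Subgroup.inclusion hES := ⟨_, rfl⟩
  have hιc : ∀ x : E, ((ι x : S) : Ω) = x := fun x => by rw [hι]; rfl
  have hιinj : Function.Injective ι := hι ▸ Subgroup.inclusion_injective hES
  have hφι : ∀ x : E, φ (ι x) = ι ((t : MulAut E) x) := fun x => Subtype.ext (by
    rw [hφe _ (by rw [hιc]; exact le_normalizerIn hN1S (hEN1 x.2)), hιc, hιc,
      hβ2e ⟨(x : Ω), hEN1 x.2⟩, ← autFun_coe, hαe _ (hEN1 x.2), hβt])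
  -- the central element of `E`
  obtain ⟨z, hz, hz'⟩ := Grp.Uni.exists_depth hm (k := 3) (by norm_num) (by norm_num)
  have hzc := Grp.Uni.lc_two_le_center hm hz
  have hzE : (z : Ω) ∈ E := hC (mem_centralizerIn.2 ⟨z.2, fun a ha =>
    congrArg Subtype.val (Subgroup.mem_center_iff.1 hzc ⟨a, hES ha⟩)⟩)
  obtain ⟨z0, hz0⟩ : ∃ z0 : E, ι z0 = z := ⟨⟨z, hzE⟩, Subtype.ext (hιc _)⟩
  obtain ⟨hf0, hf1⟩ := act_up co s
  obtain ⟨i, j, hij⟩ := exists_coord co z0
  have hfix0 : r (cj F hE.2.1.1 u) z0 = z0 := Subtype.ext (by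
    show ((((cj F hE.2.1.1 u : F.autGroup E) : MulAut E) z0 : E) : Ω) = z0
    rw [cj_apply, ← hιc z0, hz0]
    exact mul_inv_eq_iff_eq_mul.2
      (congrArg Subtype.val (Subgroup.mem_center_iff.1 hzc ⟨(u : Ω), hN1S u.2⟩)))
  have hj : (j : ZMod p) = 0 := by
    rw [hau, hij, map_mul, map_pow, map_pow, hf0, hf1,
      (show Commute _ _ from hab _ _).mul_pow, ← pow_mul, ← mul_assoc, ← pow_add] at hfix0
    have := (coord_cast co hfix0).1
    rw [Nat.cast_add, Nat.cast_mul, ZMod.natCast_zmod_val, add_eq_left] at this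
    exact (mul_eq_zero.1 this).resolve_left hs0
  have hz0p : z0 = co (Multiplicative.ofAdd (Pi.single 0 1)) ^ i := by
    rw [hij, RankTwo.pow_eq_of_cast (hexpE _) (b := 0) (a := j) (by simpa using hj), pow_zero, mul_one]
  obtain ⟨x, hx⟩ : ∃ x : E, x = co (Multiplicative.ofAdd (Pi.single (1 : Fin 2) (1 : ZMod p))) :=
    ⟨_, rfl⟩
  obtain ⟨ha0, ha1⟩ := act_dg co (2 : ZMod p)⁻¹ 2 (inv_mul_cancel₀ h20)
  have htap : ∀ y : E, (t : MulAut E) y = act co (dg (2 : ZMod p)⁻¹ 2 (inv_mul_cancel₀ h20)) y :=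
    fun y => by rw [← ht]; rfl
  have htx : (t : MulAut E) x = x ^ (2 : ZMod p).val := by rw [htap, hx, ha1]
  have htz : (t : MulAut E) z0 = z0 ^ ((2 : ZMod p)⁻¹).val := by
    rw [htap, hz0p, map_pow, ha0, ← pow_mul, ← pow_mul, mul_comm]
  have hxC : ι x ∉ Ck S 1 := by
    intro hxC
    have hl2E : ∀ w ∈ lc S 2, (w : Ω) ∈ E := fun w hw => by
      refine hC (mem_centralizerIn.2 ⟨w.2, fun a ha => ?_⟩)
      obtain ⟨i', j', hb⟩ := exists_coord co (⟨a, ha⟩ : E)
      have hwx : Commute w (ι x) := by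
        have h := mem_Ck.1 ((Ck_two hm).ge hxC) w hw
        rw [Grp.Uni.lc_eq_bot hm (by norm_num), Subgroup.mem_bot] at h
        exact commutatorElement_eq_one_iff_mul_comm.1 h
      have hi0 : (i : ZMod p) ≠ 0 := fun h => hz' (by
        have h1 : z0 = 1 := by
          rw [hz0p, RankTwo.pow_eq_of_cast (hexpE _) (b := 0) (by simpa using h), pow_zero]
        rw [← hz0, h1, map_one]; exact one_mem _)
      obtain ⟨k, hk⟩ := RankTwo.exists_pow_eq (hexpE (co (Multiplicative.ofAdd (Pi.single 0 1)))) hi0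
      have hw0 : Commute w (ι (z0 ^ (k * i') * x ^ j')) := by
        rw [map_mul, map_pow, map_pow, hz0]
        exact (Commute.pow_right (show Commute w z from Subgroup.mem_center_iff.1 hzc w) _).mul_right
          (hwx.pow_right j')
      rw [hz0p, pow_mul, hk, hx, ← hb] at hw0
      have e := congrArg (fun q : S => (q : Ω)) hw0.eq
      simp only [Subgroup.coe_mul, hιc] at e
      exact e.symm
    have hlE : lc S 2 = E.subgroupOf S := Subgroup.eq_of_le_of_card_ge
      (fun w hw => Subgroup.mem_subgroupOf.2 (hl2E w hw))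
      (by rw [Nat.card_congr (Subgroup.subgroupOfEquivOfLe hES).toEquiv, hE2,
        Grp.Uni.card_lc hm (by norm_num)])
    have h := Subgroup.card_le_of_le (show lc S 1 ≤ E.subgroupOf S from fun w hw =>
      Subgroup.mem_subgroupOf.2 (hC (mem_centralizerIn.2 ⟨w.2, fun a ha =>
        (congrArg Subtype.val (hl2 w hw ⟨a, hES ha⟩ (hlE.ge (Subgroup.mem_subgroupOf.2 ha))).eq).symm⟩)))
    rw [Nat.card_congr (Subgroup.subgroupOfEquivOfLe hES).toEquiv, hE2,
      Grp.Uni.card_lc hm le_rfl] at h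
    have := (Nat.pow_le_pow_iff_right hpp.one_lt).1 h
    omega
  obtain ⟨c, hc, -, hA3⟩ := exists_weight hm hNA hxC φ (a := (2 : ZMod p).val)
    (by rw [hφι, htx, map_pow, mul_inv_cancel]; exact one_mem _)
  have he := act_eq (p := p) hA3 hz hz'
    (by rw [← hz0, ← map_pow, hexpE, map_one]; exact one_mem _)
    (n := ((2 : ZMod p)⁻¹).val)
    (by rw [← hz0, hφι, htz, map_pow, mul_inv_cancel]; exact one_mem _)
  rw [Nat.cast_mul, Nat.cast_mul, Nat.cast_mul, hc, ZMod.natCast_zmod_val, ZMod.natCast_zmod_val] at he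
  have h63 : ((63 : ℕ) : ZMod p) = 0 := by
    have h1 : (2 : ZMod p) * (2 * 2 * 2 * 2 ^ 2) = 1 := by rw [he, mul_inv_cancel₀ h20]
    push_cast
    linear_combination h1
  have hd := (ZMod.natCast_eq_zero_iff 63 p).1 h63
  rw [show (63 : ℕ) = 3 * (3 * 7) by norm_num] at hd
  rcases hpp.dvd_mul.1 hd with h | h
  · exact hp3 ((Nat.prime_dvd_prime_iff_eq hpp Nat.prime_three).1 h)
  · rcases hpp.dvd_mul.1 h with h | h
    · exact hp3 ((Nat.prime_dvd_prime_iff_eq hpp Nat.prime_three).1 h)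
    · exact hp7 ((Nat.prime_dvd_prime_iff_eq hpp (by norm_num)).1 h)

end Cfsg.Agent.Fus.OrdFive
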