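import Mathlib
import Cfsg.Agent.Lib.Fus.OrdFive.Cube
import Cfsg.Agent.Lib.Fus.OrdFive.Pearl
import Cfsg.Agent.Lib.Fus.NormalCrit
import Cfsg.Agent.Lib.Fus.AbelianSystem
import Cfsg.Agent.Lib.Fus.Hyperfocal

/-!
A saturated system with trivial core and full hyperfocal subgroup on a group of order `p⁵`,
`p ≠ 2, 7`, forces an abelian subgroup of index `p`.
-/

set_option autoImplicit false
set_option linter.unusedSectionVars false
set_option linter.style.haveILetI false

universe u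

namespace Cfsg.Agent.Fus.OrdFive

open Cfsg FusionSystem
open Cfsg.Agent.Fus.MC (lc Ck)

variable {Ω : Type u} [Group Ω] {S : Subgroup Ω} [Finite S] {p : ℕ} [hp : Fact p.Prime]
  {F : FusionSystem S}

/-- The types of essential subgroups. -/
theorem essential_types (hS : IsPGroup p S) (hF : F.IsSaturated p) (h5 : Nat.card S = p ^ 5)
    (hp2 : p ≠ 2) {E : Subgroup Ω} (hE : F.IsEssential p E) :
    Nat.card E = p ^ 4 ∨
      (Nat.card E = p ^ 3 ∧
        (IsElementaryAbelian p E ∨ (IsExtraspecial p E ∧ ∀ x ∈ E, x ^ p = 1))) ∨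
      Nat.card E = p ^ 2 := by
  have hpp := hp.out
  have hES : E ≤ S := hE.1.1
  haveI := finite_of_le hES
  have hlt := lt_of_essential hS hF hE
  have h1 := card_lt_of_lt hlt
  obtain ⟨j, hj, hjc⟩ := (Nat.dvd_prime_pow hpp).1 (h5 ▸ Subgroup.card_dvd_of_le hES)
  rw [hjc, h5] at h1
  have hj4 := (Nat.pow_lt_pow_iff_right hpp.one_lt).1 h1
  rcases (show j ≤ 1 ∨ j = 2 ∨ j = 3 ∨ j = 4 by omega) with hj1 | rfl | rfl | rfl
  · exfalso
    have hidx := lt_frattini_index_of_essential hS hE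
    have h2 : (frattini E).index ≤ Nat.card E :=
      Nat.le_of_dvd Nat.card_pos (Subgroup.index_dvd_card _)
    rw [hjc] at h2
    have h3 : p ^ j ≤ p := (Nat.pow_le_pow_right hpp.pos hj1).trans (pow_one p).le
    omega
  · exact Or.inr (Or.inr hjc)
  · refine Or.inr (Or.inl ⟨hjc, ?_⟩)
    rcases essential_card_cube hS hE hjc with h | ⟨-, h⟩ | ⟨h, -⟩
    · exact Or.inl h
    · exact Or.inr h
    · exact absurd h hp2
  · exact Or.inl hjc

/-- The configuration is impossible for `p ≠ 3`. -/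
theorem cfg_false (hp2 : p ≠ 2) (hp3 : p ≠ 3) {e g u : S} (h : CfgC S p e g u)
    (ht : ∀ d : ZMod p, d ≠ 0 → ∃ φ ∈ F.autGroup S, ∃ me nu : S, (∀ t ∈ commutator S, Commute me t) ∧
      φ e = e ^ d.val * me ∧ nu ∈ commutator S ∧ φ u = u * nu) : False := by
  have hpp := hp.out
  have h20 : (2 : ZMod p) ≠ 0 := fun h => hp2 ((Nat.prime_dvd_prime_iff_eq hpp Nat.prime_two).1
    ((ZMod.natCast_eq_zero_iff 2 p).1 (by exact_mod_cast h)))
  obtain ⟨φ, -, me, nu, hme, hφe, hnu, hφu⟩ := ht 2 h20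
  obtain ⟨hc, -⟩ := h.weight (φ := φ) (c := 1) hme hφe hnu (by rw [pow_one]; exact hφu)
  rw [Nat.cast_one, ZMod.natCast_zmod_val] at hc
  have h3 : ((3 : ℕ) : ZMod p) = 0 := by push_cast; linear_combination -hc
  exact hp3 ((Nat.prime_dvd_prime_iff_eq hpp Nat.prime_three).1 ((ZMod.natCast_eq_zero_iff 3 p).1 h3))

set_option maxHeartbeats 1000000 in
/-- The main contradiction. -/
theorem main (hS : IsPGroup p S) (hF : F.IsSaturated p) (hp2 : p ≠ 2) (hp7 : p ≠ 7)
    (h5 : Nat.card S = p ^ 5) (hcore : F.core = ⊥) (hhyp : F.hyperfocalSubgroup p = S)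
    (hNA : NoA S p) : False := by
  classical
  have hpp := hp.out
  obtain ⟨E, hE⟩ : ∃ E, F.IsEssential p E := by
    by_contra hcon
    push Not at hcon
    have hbot : S = ⊥ := le_bot_iff.1 (hcore ▸ le_core (isNormal_of_essential hS hF le_rfl
      (fun α _ t ht => autFun_mem α ht) fun P hP => absurd hP (hcon P)))
    rw [Subgroup.eq_bot_iff_card, h5] at hbot
    exact absurd hbot (Nat.one_lt_pow (by norm_num) hpp.one_lt).ne'
  -- configurations from subgroups of index `p`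
  have hmax : ∀ P, F.IsEssential p P → Nat.card P = p ^ 4 → ∃ e g u : S, CfgC S p e g u ∧
      ∀ d : ZMod p, d ≠ 0 → ∃ φ ∈ F.autGroup S, ∃ me nu : S, (∀ t ∈ commutator S, Commute me t) ∧
        φ e = e ^ d.val * me ∧ nu ∈ commutator S ∧ φ u = u * nu := fun P hP h4 => by
    obtain ⟨⟨e, g, u, hcfg, ht⟩, -⟩ := max_main hS hF h5 hp2 hNA hP h4
    refine ⟨e, g, u, hcfg, fun d hd => ?_⟩
    obtain ⟨φ, hφ, me, hme, hφe, hφu⟩ := ht d hd
    exact ⟨φ, hφ, me, 1, hme, hφe, one_mem _, by rw [mul_one]; exact hφu⟩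
  by_cases hp3 : p = 3
  · -- an element fixed modulo the Frattini subgroup
    obtain ⟨w, hw, hwfix⟩ : ∃ w : S, w ∉ frattini S ∧
        ∀ φ : MulAut S, φ ∈ F.autGroup S → w⁻¹ * φ w ∈ frattini S := by
      by_cases hex : ∃ P, F.IsEssential p P ∧ Nat.card P = p ^ 4
      · obtain ⟨P, hP, h4⟩ := hex
        obtain ⟨e, g, u, hcfg, -⟩ := hmax P hP h4
        exact ⟨u, hcfg.not_mem_frattini, fun φ _ => hcfg.fixed_mod_frattini hS hp3 φ⟩
      push Not at hex
      have hmc : Grp.Uni.MaxCl S p 5 → ∃ w : S, w ∉ frattini S ∧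
          ∀ φ : MulAut S, φ ∈ F.autGroup S → w⁻¹ * φ w ∈ frattini S := fun hm => by
        have hidx := Grp.Uni.Ck_index hm (k := 1) le_rfl (by omega)
        obtain ⟨s, hs, hs1⟩ : ∃ s ∈ Ck S 1, s ∉ lc S 1 := by
          by_contra h
          push Not at h
          have hd := Subgroup.index_dvd_of_le (h : Ck S 1 ≤ lc S 1)
          rw [hidx, Grp.Uni.lc_index hm (k := 1) le_rfl (by omega)] at hd
          have := Nat.le_of_dvd hpp.pos hd
          rw [show (1 + 1 : ℕ) = 2 from rfl, sq] at this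
          nlinarith [hpp.two_le]
        obtain ⟨x, hx⟩ : ∃ x : S, x ∉ Ck S 1 := by
          by_contra h
          push Not at h
          rw [(eq_top_iff.2 fun y _ => h y : Ck S 1 = ⊤), Subgroup.index_top] at hidx
          exact hpp.ne_one hidx.symm
        exact ⟨s, not_mem_frattini_maxcl hm hs1, fun φ _ =>
          fixed_maxcl hm hp3 hx hs hs1 (fun h => hNA (Ck S 1) hidx h) φ⟩
      rcases essential_types hS hF h5 hp2 hE with h4 | ⟨h3, hel | ⟨hext, hexp⟩⟩ | h2
      · exact absurd h4 (hex E hE)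
      · obtain ⟨e, g, u, hcfg, -⟩ := cube_cfg hS hF h5 hp2 hNA hex hE hel h3
        exact ⟨u, hcfg.not_mem_frattini, fun φ _ => hcfg.fixed_mod_frattini hS hp3 φ⟩
      · exact hmc (ex_maxcl h5 hE h3 hext hexp)
      · exact hmc (sq_maxcl hS h5 hE h2)
    obtain ⟨M, hMS, hM⟩ := exists_moves_lt hS hF hw hwfix
    refine hMS.not_ge (hhyp ▸ (hyperfocal_le_focal F p).trans (focalSubgroup_le_iff.2 ?_))
    intro P f hf
    refine alperin' hS hF (fun P f => ∀ t ∈ P, t⁻¹ * f t ∈ M) ?_ ?_ ?_ hM ?_ hf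
    · intro P f g h hfg t ht
      rw [← hfg t ht]; exact h t ht
    · intro P Q f g _ _ hfQ h1 h2 t ht
      have h := M.mul_mem (h1 t ht) (h2 _ (hfQ t ht))
      rwa [mul_assoc, mul_inv_cancel_left] at h
    · intro P Q f _ hPQ h t ht
      exact h t (hPQ ht)
    · intro P hP hbig
      rcases essential_types hS hF h5 hp2 hP with h4 | ⟨h3, hel | ⟨hext, hexp⟩⟩ | h2
      · obtain ⟨-, W, hWP, hWm, hWinv, hWidx⟩ := max_main hS hF h5 hp2 hNA hP h4
        refine moves_of_invariant hS hF hP hWP (hWm.trans ((Subgroup.closure_le _).2 ?_)) hWinv hWidx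
          hbig
        rintro _ ⟨φ, hφ, y, hy, rfl⟩
        exact hM φ hφ y hy
      · exact cube_moves hS hF h5 hp2 hP hel h3 hbig
      · exact ex_moves hS hF hp2 hP h3 hext hexp hbig
      · exact sq_moves hS hF hp2 hP h2 hbig
  · have hnomax : ∀ P, F.IsEssential p P → Nat.card P ≠ p ^ 4 := fun P hP h4 => by
      obtain ⟨e, g, u, hcfg, ht⟩ := hmax P hP h4
      exact cfg_false hp2 hp3 hcfg ht
    rcases essential_types hS hF h5 hp2 hE with h4 | ⟨h3, hel | ⟨hext, hexp⟩⟩ | h2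
    · exact hnomax E hE h4
    · obtain ⟨e, g, u, hcfg, ht⟩ := cube_cfg hS hF h5 hp2 hNA hnomax hE hel h3
      exact cfg_false hp2 hp3 hcfg ht
    · exact ex_false hS hF h5 hp2 hNA hnomax hE h3 hext hexp
    · exact sq_false hS hF h5 hp2 hp3 hp7 hNA hnomax hE h2

end Cfsg.Agent.Fus.OrdFive
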